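/-
The shapes of generalised characters of small norm with prescribed sums against the coordinates.
-/
import Cfsg.Agent.Lib.JankoThompson.Rows

set_option autoImplicit false
set_option linter.unusedSectionVars false

namespace Cfsg.Agent.Lib.JankoThompson

open Finset

variable {ι : Type*} [Fintype ι]

/-- An integral combination of characters: norm, sums against the coordinates, and class equation. -/
structure Coef (X : Tab ι) (N co sb : ℤ) (rhs : ℚ) (f : ι → ℤ) : Prop where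
  val_o : f X.o = co
  norm : ∑ i, f i * f i = N
  sum_a : ∑ i, f i * X.a i = 0
  sum_b : ∑ i, f i * X.b i = sb
  sum_c : ∑ i, f i * X.c i = sb
  deg : ∑ i, f i * X.d i = 0
  val : ∑ i, f i * X.T i = 0
  eqn : ∑ i, (f i : ℚ) * (X.T i : ℚ) ^ 2 / X.d i = rhs

section Out

variable {S : Finset ι} {f g : ι → ℤ}

theorem out_nonneg : 0 ≤ ∑ i ∈ S, f i * f i := Finset.sum_nonneg fun i _ => mul_self_nonneg (f i)

theorem out_zero (h : ∑ i ∈ S, f i * f i = 0) : ∀ i ∈ S, f i = 0 := fun i hi =>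
  mul_self_eq_zero.1 ((Finset.sum_eq_zero_iff_of_nonneg fun j _ => mul_self_nonneg (f j)).1 h i hi)

theorem out_sum_zero (h : ∑ i ∈ S, f i * f i = 0) {R : Type*} [Ring R] (y : ι → R) :
    ∑ i ∈ S, (f i : R) * y i = 0 :=
  Finset.sum_eq_zero fun i hi => by rw [out_zero h i hi, Int.cast_zero, zero_mul]

theorem exists_unit {N : ℕ} (h : ∑ i ∈ S, f i * f i = N) (hN : 0 < N) (hN3 : N ≤ 3) :
    ∃ k ∈ S, f k * f k = 1 := by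
  have hne : ∑ i ∈ S, f i * f i ≠ 0 := by omega
  obtain ⟨k, hk, hk0⟩ := Finset.exists_ne_zero_of_sum_ne_zero hne
  refine ⟨k, hk, ?_⟩
  have hle := Finset.single_le_sum (f := fun i => f i * f i) (fun i _ => mul_self_nonneg (f i)) hk
  simp only [h] at hle
  have hk1 : f k ≠ 0 := fun e => hk0 (by rw [e, mul_zero])
  have : -1 ≤ f k ∧ f k ≤ 1 := ⟨by nlinarith, by nlinarith⟩
  rcases (show f k = 1 ∨ f k = -1 by omega) with e | e <;> rw [e] <;> norm_num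

theorem out_one (h : ∑ i ∈ S, f i * f i = 1) :
    ∃ k ∈ S, f k * f k = 1 ∧ ∀ i ∈ S, i ≠ k → f i = 0 := by
  classical
  obtain ⟨k, hk, hk1⟩ := exists_unit (N := 1) (by simpa using h) one_pos (by norm_num)
  refine ⟨k, hk, hk1, fun i hi hik => out_zero (S := S.erase k) ?_ i (Finset.mem_erase.2 ⟨hik, hi⟩)⟩
  rw [← Finset.add_sum_erase _ _ hk, hk1] at h
  omega

theorem out_two (h : ∑ i ∈ S, f i * f i = 2) :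
    ∃ k ∈ S, ∃ l ∈ S, k ≠ l ∧ f k * f k = 1 ∧ f l * f l = 1 ∧ ∀ i ∈ S, i ≠ k → i ≠ l → f i = 0 := by
  classical
  obtain ⟨k, hk, hk1⟩ := exists_unit (N := 2) (by simpa using h) two_pos (by norm_num)
  rw [← Finset.add_sum_erase _ _ hk, hk1] at h
  obtain ⟨l, hl, hl1, hz⟩ := out_one (S := S.erase k) (f := f) (by omega)
  obtain ⟨hlk, hlS⟩ := Finset.mem_erase.1 hl
  exact ⟨k, hk, l, hlS, hlk.symm, hk1, hl1, fun i hi h1 h2 => hz i (Finset.mem_erase.2 ⟨h1, hi⟩) h2⟩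

theorem sum_of_one {k : ι} (hk : k ∈ S) (hz : ∀ i ∈ S, i ≠ k → f i = 0) {R : Type*} [Ring R] (y : ι → R) :
    ∑ i ∈ S, (f i : R) * y i = (f k : R) * y k :=
  Finset.sum_eq_single_of_mem k hk fun i hi hik => by rw [hz i hi hik, Int.cast_zero, zero_mul]

theorem sum_of_two {k l : ι} (hk : k ∈ S) (hl : l ∈ S) (hkl : k ≠ l)
    (hz : ∀ i ∈ S, i ≠ k → i ≠ l → f i = 0) {R : Type*} [Ring R] (y : ι → R) :
    ∑ i ∈ S, (f i : R) * y i = (f k : R) * y k + (f l : R) * y l := by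
  classical
  rw [← Finset.add_sum_erase _ _ hk]
  congr 1
  refine Finset.sum_eq_single_of_mem l (Finset.mem_erase.2 ⟨hkl.symm, hl⟩) fun i hi hil => ?_
  obtain ⟨hik, hiS⟩ := Finset.mem_erase.1 hi
  rw [hz i hiS hik hil, Int.cast_zero, zero_mul]

/-- The single remaining constituent: its signed degree and value, and its term in the class equation. -/
theorem rest_one (h : ∑ i ∈ S, f i * f i = 1) {d T : ι → ℤ} (hd : ∀ i, 0 < d i) :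
    (∑ i ∈ S, f i * d i) ≠ 0 ∧ ∑ i ∈ S, (f i : ℚ) * (T i : ℚ) ^ 2 / d i =
      ((∑ i ∈ S, f i * T i : ℤ) : ℚ) ^ 2 / ((∑ i ∈ S, f i * d i : ℤ) : ℚ) := by
  obtain ⟨k, hk, hk1, hz⟩ := out_one h
  have e : ∀ y : ι → ℤ, ∑ i ∈ S, f i * y i = f k * y k := fun y => by
    simpa using sum_of_one (R := ℤ) hk hz y
  have hf : f k ≠ 0 := fun e => by rw [e] at hk1; norm_num at hk1
  refine ⟨by rw [e]; exact mul_ne_zero hf (hd k).ne', ?_⟩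
  have e2 : ∑ i ∈ S, (f i : ℚ) * (T i : ℚ) ^ 2 / d i = (f k : ℚ) * ((T k : ℚ) ^ 2 / d k) := by
    simp only [mul_div_assoc]
    exact sum_of_one (R := ℚ) hk hz fun i => (T i : ℚ) ^ 2 / d i
  rw [e2, e, e]
  have hd' : (d k : ℚ) ≠ 0 := Int.cast_ne_zero.2 (hd k).ne'
  have hf' : (f k : ℚ) ≠ 0 := Int.cast_ne_zero.2 hf
  push_cast
  field_simp

/-- Two unit combinations with non-zero product are proportional. -/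
theorem inner_one (hf : ∑ i ∈ S, f i * f i = 1) (hg : ∑ i ∈ S, g i * g i = 1) :
    ∑ i ∈ S, f i * g i = 0 ∨
      ((∑ i ∈ S, f i * g i = 1 ∨ ∑ i ∈ S, f i * g i = -1) ∧
        ∀ y : ι → ℤ, ∑ i ∈ S, g i * y i = (∑ i ∈ S, f i * g i) * ∑ i ∈ S, f i * y i) := by
  obtain ⟨k, hk, hk1, hz⟩ := out_one hf
  obtain ⟨l, hl, hl1, hz'⟩ := out_one hg
  have e : ∀ y : ι → ℤ, ∑ i ∈ S, f i * y i = f k * y k := fun y => by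
    simpa using sum_of_one (R := ℤ) hk hz y
  have e' : ∀ y : ι → ℤ, ∑ i ∈ S, g i * y i = g l * y l := fun y => by
    simpa using sum_of_one (R := ℤ) hl hz' y
  rw [e g]
  rcases eq_or_ne k l with rfl | hkl
  · right
    refine ⟨mul_self_eq_one_iff.1 (by linear_combination g k * g k * hk1 + hl1), fun y => ?_⟩
    rw [e' y, e y]
    linear_combination (-(g k * y k)) * hk1
  · left; rw [hz' k hk hkl, mul_zero]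

/-- The product with a unit combination is small. -/
theorem inner_one_le (hf : ∑ i ∈ S, f i * f i = 1) {N : ℕ} (hg : ∑ i ∈ S, g i * g i = N) (hN : N ≤ 3) :
    |∑ i ∈ S, f i * g i| ≤ 1 := by
  obtain ⟨k, hk, hk1, hz⟩ := out_one hf
  have e : ∑ i ∈ S, f i * g i = f k * g k := by simpa using sum_of_one (R := ℤ) hk hz g
  have hle := Finset.single_le_sum (f := fun i => g i * g i) (fun i _ => mul_self_nonneg (g i)) hk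
  simp only [hg] at hle
  rw [e, abs_mul]
  have h1 : |f k| = 1 := by rcases mul_self_eq_one_iff.1 hk1 with e' | e' <;> rw [e'] <;> norm_num
  rw [h1, one_mul, abs_le]
  constructor <;> nlinarith

/-- Two combinations of norm two with product one share exactly one constituent. -/
theorem inner_two (hf : ∑ i ∈ S, f i * f i = 2) (hg : ∑ i ∈ S, g i * g i = 2)
    (hfg : ∑ i ∈ S, f i * g i = 1) :
    ∃ y w w' : ι, y ∈ S ∧ w ∈ S ∧ w' ∈ S ∧ y ≠ w ∧ y ≠ w' ∧ w ≠ w' ∧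
      f y * f y = 1 ∧ g y = f y ∧ f w * f w = 1 ∧ g w' * g w' = 1 ∧
      (∀ i ∈ S, i ≠ y → i ≠ w → f i = 0) ∧ (∀ i ∈ S, i ≠ y → i ≠ w' → g i = 0) := by
  obtain ⟨k, hk, l, hl, hkl, hk1, hl1, hz⟩ := out_two hf
  obtain ⟨k', hk', l', hl', hkl', hk1', hl1', hz'⟩ := out_two hg
  have e : ∑ i ∈ S, f i * g i = f k * g k + f l * g l := by
    simpa using sum_of_two (R := ℤ) hk hl hkl hz g
  rw [e] at hfg
  have unit : ∀ i ∈ S, g i = 0 ∨ g i = 1 ∨ g i = -1 := fun i hi => by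
    rcases eq_or_ne i k' with rfl | h1
    · exact Or.inr (mul_self_eq_one_iff.1 hk1')
    rcases eq_or_ne i l' with rfl | h2
    · exact Or.inr (mul_self_eq_one_iff.1 hl1')
    exact Or.inl (hz' i hi h1 h2)
  have main : ∀ y w, y ∈ S → w ∈ S → y ≠ w → f y * f y = 1 → f w * f w = 1 → g w = 0 → f y * g y = 1 →
      (∀ i ∈ S, i ≠ y → i ≠ w → f i = 0) →
      ∃ y w w' : ι, y ∈ S ∧ w ∈ S ∧ w' ∈ S ∧ y ≠ w ∧ y ≠ w' ∧ w ≠ w' ∧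
        f y * f y = 1 ∧ g y = f y ∧ f w * f w = 1 ∧ g w' * g w' = 1 ∧
        (∀ i ∈ S, i ≠ y → i ≠ w → f i = 0) ∧ (∀ i ∈ S, i ≠ y → i ≠ w' → g i = 0) := by
    intro y w hy hw hyw hy1 hw1 hgw hgy hzf
    have hgy0 : g y ≠ 0 := fun e => by rw [e, mul_zero] at hgy; norm_num at hgy
    have hgye : g y = f y := by linear_combination f y * hgy - g y * hy1
    rcases eq_or_ne y k' with rfl | h1
    · refine ⟨y, w, l', hy, hw, hl', hyw, hkl', ?_, hy1, hgye, hw1, hl1', hzf, hz'⟩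
      rintro rfl; rw [hgw] at hl1'; norm_num at hl1'
    · have h2 : y = l' := by by_contra h2; exact hgy0 (hz' y hy h1 h2)
      subst h2
      refine ⟨y, w, k', hy, hw, hk', hyw, h1, ?_, hy1, hgye, hw1, hk1', hzf, fun i hi a b => hz' i hi b a⟩
      rintro rfl; rw [hgw] at hk1'; norm_num at hk1'
  rcases mul_self_eq_one_iff.1 hk1 with a | a <;> rcases mul_self_eq_one_iff.1 hl1 with b | b <;>
    rcases unit k hk with c | c | c <;> rcases unit l hl with d | d | d <;>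
    rw [a, b, c, d] at hfg <;> first
      | (norm_num at hfg; done)
      | exact main k l hk hl hkl hk1 hl1 d (by rw [a, c]; norm_num) hz
      | exact main l k hl hk hkl.symm hl1 hk1 c (by rw [b, d]; norm_num) fun i hi x y => hz i hi y x

end Out

namespace Tab

variable {X : Tab ι}

/-- The signed coefficient. -/
def hat (X : Tab ι) (f : ι → ℤ) (i : ι) : ℤ := X.sgn i * f i

theorem hat_o (f : ι → ℤ) : X.hat f X.o = f X.o := by simp [hat, X.sgn_o]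

theorem hat_sq {i : ι} {p q r : ℤ} (h : X.IsRow i p q r) (f g : ι → ℤ) :
    f i * g i = X.hat f i * X.hat g i := by
  rw [hat, hat]; linear_combination (-(f i * g i)) * h.sq

theorem hat_coord {i : ι} {p q r : ℤ} (h : X.IsRow i p q r) (f : ι → ℤ) :
    f i * X.a i = p * X.hat f i ∧ f i * X.b i = q * X.hat f i ∧ f i * X.c i = r * X.hat f i := by
  rw [hat, h.ha, h.hb, h.hc]; exact ⟨by ring, by ring, by ring⟩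

theorem hat_val {i : ι} {p q r : ℤ} (h : X.IsRow i p q r) (hp : p ≠ 0 ∨ q ≠ 0 ∨ r ≠ 0) (f : ι → ℤ) :
    f i * X.d i = X.hat f i * X.x i ∧ f i * X.T i = X.hat f i * (p + X.m * (q + r)) ∧
      (f i : ℚ) * (X.T i : ℚ) ^ 2 / X.d i =
        (X.hat f i : ℚ) * ((p : ℚ) + (((X.Q : ℚ) - 1) / 2) * (q + r)) ^ 2 / X.x i := by
  refine ⟨h.lin_term _ _, ?_, ?_⟩
  · rw [← h.τ_eq hp]; exact h.lin_term _ _
  · rw [h.term, ← τ_vals h hp]; rfl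

open scoped Classical in
/-- The rows outside eight rows. -/
noncomputable def Eight.out (E : X.Eight) : Finset ι :=
  Finset.univ \ [X.o, E.A, E.B₁, E.B₂, E.C₁, E.C₂, E.D₁, E.D₂].toFinset

open scoped Classical in
/-- The rows outside seven rows. -/
noncomputable def Seven.out (E : X.Seven) : Finset ι :=
  Finset.univ \ [X.o, E.U, E.U', E.P₁, E.P₂, E.R, E.D].toFinset

theorem Eight.split (E : X.Eight) {R : Type*} [AddCommMonoid R] (f : ι → R) :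
    ∑ i, f i = f X.o + f E.A + f E.B₁ + f E.B₂ + f E.C₁ + f E.C₂ + f E.D₁ + f E.D₂ + ∑ i ∈ E.out, f i := by
  classical
  rw [← Finset.sum_sdiff (Finset.subset_univ [X.o, E.A, E.B₁, E.B₂, E.C₁, E.C₂, E.D₁, E.D₂].toFinset),
    List.sum_toFinset _ E.nodup, add_comm, Eight.out]
  simp only [List.map_cons, List.map_nil, List.sum_cons, List.sum_nil, add_zero]
  abel

theorem Seven.split (E : X.Seven) {R : Type*} [AddCommMonoid R] (f : ι → R) :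
    ∑ i, f i = f X.o + f E.U + f E.U' + f E.P₁ + f E.P₂ + f E.R + f E.D + ∑ i ∈ E.out, f i := by
  classical
  rw [← Finset.sum_sdiff (Finset.subset_univ [X.o, E.U, E.U', E.P₁, E.P₂, E.R, E.D].toFinset),
    List.sum_toFinset _ E.nodup, add_comm, Seven.out]
  simp only [List.map_cons, List.map_nil, List.sum_cons, List.sum_nil, add_zero]
  abel

theorem Eight.out_coords (E : X.Eight) (f : ι → ℤ) :
    ∑ i ∈ E.out, f i * X.a i = 0 ∧ ∑ i ∈ E.out, f i * X.b i = 0 ∧ ∑ i ∈ E.out, f i * X.c i = 0 := by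
  classical
  refine ⟨?_, ?_, ?_⟩ <;> refine Finset.sum_eq_zero fun i hi => ?_ <;>
    obtain ⟨h1, h2, h3⟩ := E.zero i (by simpa [Eight.out] using hi) <;> simp [h1, h2, h3]

theorem Seven.out_coords (E : X.Seven) (f : ι → ℤ) :
    ∑ i ∈ E.out, f i * X.a i = 0 ∧ ∑ i ∈ E.out, f i * X.b i = 0 ∧ ∑ i ∈ E.out, f i * X.c i = 0 := by
  classical
  refine ⟨?_, ?_, ?_⟩ <;> refine Finset.sum_eq_zero fun i hi => ?_ <;>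
    obtain ⟨h1, h2, h3⟩ := E.zero i (by simpa [Seven.out] using hi) <;> simp [h1, h2, h3]

/-- The product of two combinations on eight rows. -/
theorem Eight.inner (E : X.Eight) (f g : ι → ℤ) :
    ∑ i, f i * g i = f X.o * g X.o + X.hat f E.A * X.hat g E.A + X.hat f E.B₁ * X.hat g E.B₁ +
      X.hat f E.B₂ * X.hat g E.B₂ + X.hat f E.C₁ * X.hat g E.C₁ + X.hat f E.C₂ * X.hat g E.C₂ +
      X.hat f E.D₁ * X.hat g E.D₁ + X.hat f E.D₂ * X.hat g E.D₂ + ∑ i ∈ E.out, f i * g i := by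
  rw [E.split, hat_sq E.rA, hat_sq E.rB₁, hat_sq E.rB₂, hat_sq E.rC₁, hat_sq E.rC₂, hat_sq E.rD₁,
    hat_sq E.rD₂]

/-- The product of two combinations on seven rows. -/
theorem Seven.inner (E : X.Seven) (f g : ι → ℤ) :
    ∑ i, f i * g i = f X.o * g X.o + X.hat f E.U * X.hat g E.U + X.hat f E.U' * X.hat g E.U' +
      X.hat f E.P₁ * X.hat g E.P₁ + X.hat f E.P₂ * X.hat g E.P₂ + X.hat f E.R * X.hat g E.R +
      X.hat f E.D * X.hat g E.D + ∑ i ∈ E.out, f i * g i := by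
  rw [E.split, hat_sq E.rU, hat_sq E.rU', hat_sq E.rP₁, hat_sq E.rP₂, hat_sq E.rR, hat_sq E.rD]

variable {N co sb : ℤ} {rhs : ℚ} {f : ι → ℤ}

/-- The linear conditions on eight rows. -/
theorem Eight.read (E : X.Eight) (h : Coef X N co sb rhs f) :
    co + X.hat f E.A + X.hat f E.D₁ + X.hat f E.D₂ = 0 ∧
    X.hat f E.B₁ + X.hat f E.B₂ + X.hat f E.D₁ + X.hat f E.D₂ = sb ∧
    X.hat f E.C₁ + X.hat f E.C₂ + X.hat f E.D₁ + X.hat f E.D₂ = sb ∧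
    co * co + X.hat f E.A * X.hat f E.A + X.hat f E.B₁ * X.hat f E.B₁ + X.hat f E.B₂ * X.hat f E.B₂ +
      X.hat f E.C₁ * X.hat f E.C₁ + X.hat f E.C₂ * X.hat f E.C₂ + X.hat f E.D₁ * X.hat f E.D₁ +
      X.hat f E.D₂ * X.hat f E.D₂ + ∑ i ∈ E.out, f i * f i = N := by
  have ha := E.split fun i => f i * X.a i
  have hb := E.split fun i => f i * X.b i
  have hc := E.split fun i => f i * X.c i
  have hn := E.inner f f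
  simp only [h.sum_a, h.sum_b, h.sum_c, hat_coord E.rA, hat_coord E.rB₁,
    hat_coord E.rB₂, hat_coord E.rC₁, hat_coord E.rC₂, hat_coord E.rD₁, hat_coord E.rD₂, h.val_o, X.a_o,
    X.b_o, X.c_o, E.out_coords f] at ha hb hc
  rw [h.norm, h.val_o] at hn
  refine ⟨?_, ?_, ?_, hn.symm⟩ <;> linarith

/-- The linear conditions on seven rows. -/
theorem Seven.read (E : X.Seven) (h : Coef X N co sb rhs f) :
    co + X.hat f E.P₁ + X.hat f E.P₂ + X.hat f E.D = 0 ∧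
    X.hat f E.U + X.hat f E.P₁ + X.hat f E.R + X.hat f E.D = sb ∧
    X.hat f E.U' + X.hat f E.P₂ + X.hat f E.R + X.hat f E.D = sb ∧
    co * co + X.hat f E.U * X.hat f E.U + X.hat f E.U' * X.hat f E.U' + X.hat f E.P₁ * X.hat f E.P₁ +
      X.hat f E.P₂ * X.hat f E.P₂ + X.hat f E.R * X.hat f E.R + X.hat f E.D * X.hat f E.D +
      ∑ i ∈ E.out, f i * f i = N := by
  have ha := E.split fun i => f i * X.a i
  have hb := E.split fun i => f i * X.b i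
  have hc := E.split fun i => f i * X.c i
  have hn := E.inner f f
  simp only [h.sum_a, h.sum_b, h.sum_c, hat_coord E.rU, hat_coord E.rU',
    hat_coord E.rP₁, hat_coord E.rP₂, hat_coord E.rR, hat_coord E.rD, h.val_o, X.a_o,
    X.b_o, X.c_o, E.out_coords f] at ha hb hc
  rw [h.norm, h.val_o] at hn
  refine ⟨?_, ?_, ?_, hn.symm⟩ <;> linarith

/-- The degree, value and class equation on eight rows. -/
theorem Eight.values (E : X.Eight) (h : Coef X N co sb rhs f) :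
    co + X.hat f E.A * X.x E.A + X.hat f E.B₁ * X.x E.B₁ + X.hat f E.B₂ * X.x E.B₂ +
      X.hat f E.C₁ * X.x E.C₁ + X.hat f E.C₂ * X.x E.C₂ + X.hat f E.D₁ * X.x E.D₁ +
      X.hat f E.D₂ * X.x E.D₂ + ∑ i ∈ E.out, f i * X.d i = 0 ∧
    co + X.hat f E.A + X.m * (X.hat f E.B₁ + X.hat f E.B₂ + X.hat f E.C₁ + X.hat f E.C₂) +
      X.Q * (X.hat f E.D₁ + X.hat f E.D₂) + ∑ i ∈ E.out, f i * X.T i = 0 ∧
    (co : ℚ) + (X.hat f E.A : ℚ) / X.x E.A +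
      (((X.Q : ℚ) - 1) / 2) ^ 2 * ((X.hat f E.B₁ : ℚ) / X.x E.B₁ + (X.hat f E.B₂ : ℚ) / X.x E.B₂ +
        (X.hat f E.C₁ : ℚ) / X.x E.C₁ + (X.hat f E.C₂ : ℚ) / X.x E.C₂) +
      (X.Q : ℚ) ^ 2 * ((X.hat f E.D₁ : ℚ) / X.x E.D₁ + (X.hat f E.D₂ : ℚ) / X.x E.D₂) +
      ∑ i ∈ E.out, (f i : ℚ) * (X.T i : ℚ) ^ 2 / X.d i = rhs := by
  have hd := E.split fun i => f i * X.d i
  have hv := E.split fun i => f i * X.T i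
  have he := E.split fun i => (f i : ℚ) * (X.T i : ℚ) ^ 2 / X.d i
  simp only [h.deg, h.val, h.eqn, hat_val E.rA (by norm_num),
    hat_val E.rB₁ (by norm_num), hat_val E.rB₂ (by norm_num), hat_val E.rC₁ (by norm_num),
    hat_val E.rC₂ (by norm_num), hat_val E.rD₁ (by norm_num), hat_val E.rD₂ (by norm_num), h.val_o,
    X.d_o, X.T_o] at hd hv he
  refine ⟨by linarith, ?_, ?_⟩
  · linear_combination -hv - (X.hat f E.D₁ + X.hat f E.D₂) * X.hm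
  · rw [he]; push_cast; ring

/-- The degree, value and class equation on seven rows. -/
theorem Seven.values (E : X.Seven) (h : Coef X N co sb rhs f) :
    co + X.hat f E.U * X.x E.U + X.hat f E.U' * X.x E.U' + X.hat f E.P₁ * X.x E.P₁ +
      X.hat f E.P₂ * X.x E.P₂ + X.hat f E.R * X.x E.R + X.hat f E.D * X.x E.D +
      ∑ i ∈ E.out, f i * X.d i = 0 ∧
    co + X.m * (X.hat f E.U + X.hat f E.U') + (1 + X.m) * (X.hat f E.P₁ + X.hat f E.P₂) +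
      2 * X.m * X.hat f E.R + X.Q * X.hat f E.D + ∑ i ∈ E.out, f i * X.T i = 0 ∧
    (co : ℚ) + (((X.Q : ℚ) - 1) / 2) ^ 2 * ((X.hat f E.U : ℚ) / X.x E.U + (X.hat f E.U' : ℚ) / X.x E.U') +
      (((X.Q : ℚ) + 1) / 2) ^ 2 * ((X.hat f E.P₁ : ℚ) / X.x E.P₁ + (X.hat f E.P₂ : ℚ) / X.x E.P₂) +
      ((X.Q : ℚ) - 1) ^ 2 * (X.hat f E.R : ℚ) / X.x E.R + (X.Q : ℚ) ^ 2 * (X.hat f E.D : ℚ) / X.x E.D +
      ∑ i ∈ E.out, (f i : ℚ) * (X.T i : ℚ) ^ 2 / X.d i = rhs := by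
  have hd := E.split fun i => f i * X.d i
  have hv := E.split fun i => f i * X.T i
  have he := E.split fun i => (f i : ℚ) * (X.T i : ℚ) ^ 2 / X.d i
  simp only [h.deg, h.val, h.eqn, hat_val E.rU (by norm_num),
    hat_val E.rU' (by norm_num), hat_val E.rP₁ (by norm_num), hat_val E.rP₂ (by norm_num),
    hat_val E.rR (by norm_num), hat_val E.rD (by norm_num), h.val_o, X.d_o, X.T_o] at hd hv he
  refine ⟨by linarith, ?_, ?_⟩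
  · linear_combination -hv - X.hat f E.D * X.hm
  · rw [he]; push_cast; ring

end Tab

section Patterns

variable {A B₁ B₂ C₁ C₂ D₁ D₂ U U' P₁ P₂ R D r : ℤ}

/-- Membership in the box of a bounded square. -/
theorem mem_one {x r : ℤ} (h : x * x ≤ r) (hr : r ≤ 3) : x ∈ [(-1 : ℤ), 0, 1] := by
  have : -1 ≤ x ∧ x ≤ 1 := ⟨by nlinarith, by nlinarith⟩
  simp only [List.mem_cons, List.not_mem_nil, or_false]; omega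

/-- Membership in the box of a bounded square. -/
theorem mem_two {x r : ℤ} (h : x * x ≤ r) (hr : r ≤ 8) : x ∈ [(-2 : ℤ), -1, 0, 1, 2] := by
  have : -2 ≤ x ∧ x ≤ 2 := ⟨by nlinarith, by nlinarith⟩
  simp only [List.mem_cons, List.not_mem_nil, or_false]; omega

/-- Norm three, sums `(0, 1, 1)`. -/
theorem eight_lam (hr : 0 ≤ r) (h1 : A + D₁ + D₂ = 0) (h2 : B₁ + B₂ + D₁ + D₂ = 1) (h3 : C₁ + C₂ + D₁ + D₂ = 1)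
    (hn : A * A + B₁ * B₁ + B₂ * B₂ + C₁ * C₁ + C₂ * C₂ + D₁ * D₁ + D₂ * D₂ + r = 3) :
    (r = 1 ∧ A = -1 ∧ B₁ = 0 ∧ B₂ = 0 ∧ C₁ = 0 ∧ C₂ = 0 ∧ ((D₁ = 1 ∧ D₂ = 0) ∨ (D₁ = 0 ∧ D₂ = 1))) ∨
    (r = 1 ∧ A = 0 ∧ D₁ = 0 ∧ D₂ = 0 ∧ ((B₁ = 1 ∧ B₂ = 0) ∨ (B₁ = 0 ∧ B₂ = 1)) ∧
      ((C₁ = 1 ∧ C₂ = 0) ∨ (C₁ = 0 ∧ C₂ = 1))) := by
  have key : ∀ A ∈ ([-1, 0, 1] : List ℤ), ∀ B₁ ∈ ([-1, 0, 1] : List ℤ), ∀ C₁ ∈ ([-1, 0, 1] : List ℤ), ∀ D₁ ∈ ([-1, 0, 1] : List ℤ),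
      A * A + B₁ * B₁ + (1 - B₁ - D₁ - (-A - D₁)) * (1 - B₁ - D₁ - (-A - D₁)) + C₁ * C₁ + (1 - C₁ - D₁ - (-A - D₁)) * (1 - C₁ - D₁ - (-A - D₁)) + D₁ * D₁ + (-A - D₁) * (-A - D₁) ≤ 3 →
      ((3 - (A * A + B₁ * B₁ + (1 - B₁ - D₁ - (-A - D₁)) * (1 - B₁ - D₁ - (-A - D₁)) + C₁ * C₁ + (1 - C₁ - D₁ - (-A - D₁)) * (1 - C₁ - D₁ - (-A - D₁)) + D₁ * D₁ + (-A - D₁) * (-A - D₁))) = 1 ∧ A = -1 ∧ B₁ = 0 ∧ (1 - B₁ - D₁ - (-A - D₁)) = 0 ∧ C₁ = 0 ∧ (1 - C₁ - D₁ - (-A - D₁)) = 0 ∧ ((D₁ = 1 ∧ (-A - D₁) = 0) ∨ (D₁ = 0 ∧ (-A - D₁) = 1))) ∨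
      ((3 - (A * A + B₁ * B₁ + (1 - B₁ - D₁ - (-A - D₁)) * (1 - B₁ - D₁ - (-A - D₁)) + C₁ * C₁ + (1 - C₁ - D₁ - (-A - D₁)) * (1 - C₁ - D₁ - (-A - D₁)) + D₁ * D₁ + (-A - D₁) * (-A - D₁))) = 1 ∧ A = 0 ∧ D₁ = 0 ∧ (-A - D₁) = 0 ∧ ((B₁ = 1 ∧ (1 - B₁ - D₁ - (-A - D₁)) = 0) ∨ (B₁ = 0 ∧ (1 - B₁ - D₁ - (-A - D₁)) = 1)) ∧
        ((C₁ = 1 ∧ (1 - C₁ - D₁ - (-A - D₁)) = 0) ∨ (C₁ = 0 ∧ (1 - C₁ - D₁ - (-A - D₁)) = 1))) := by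
    decide +kernel
  obtain rfl : B₂ = 1 - B₁ - D₁ - D₂ := by omega
  obtain rfl : C₂ = 1 - C₁ - D₁ - D₂ := by omega
  obtain rfl : D₂ = -A - D₁ := by omega
  obtain rfl : r = 3 - (A * A + B₁ * B₁ + (1 - B₁ - D₁ - (-A - D₁)) * (1 - B₁ - D₁ - (-A - D₁)) + C₁ * C₁ + (1 - C₁ - D₁ - (-A - D₁)) * (1 - C₁ - D₁ - (-A - D₁)) + D₁ * D₁ + (-A - D₁) * (-A - D₁)) := by omega
  exact key _ (mem_one (x := A) (r := 3) (by nlinarith) (by norm_num)) _ (mem_one (x := B₁) (r := 3) (by nlinarith) (by norm_num)) _ (mem_one (x := C₁) (r := 3) (by nlinarith) (by norm_num)) _ (mem_one (x := D₁) (r := 3) (by nlinarith) (by norm_num)) (by omega)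

/-- Norm three, sums `(0, -1, -1)`, trivial coefficient one. -/
theorem eight_rho (hr : 0 ≤ r) (h1 : 1 + A + D₁ + D₂ = 0) (h2 : B₁ + B₂ + D₁ + D₂ = -1)
    (h3 : C₁ + C₂ + D₁ + D₂ = -1)
    (hn : 1 + A * A + B₁ * B₁ + B₂ * B₂ + C₁ * C₁ + C₂ * C₂ + D₁ * D₁ + D₂ * D₂ + r = 3) :
    r = 1 ∧ A = 0 ∧ B₁ = 0 ∧ B₂ = 0 ∧ C₁ = 0 ∧ C₂ = 0 ∧ ((D₁ = -1 ∧ D₂ = 0) ∨ (D₁ = 0 ∧ D₂ = -1)) := by
  have key : ∀ A ∈ ([-1, 0, 1] : List ℤ), ∀ B₁ ∈ ([-1, 0, 1] : List ℤ), ∀ C₁ ∈ ([-1, 0, 1] : List ℤ), ∀ D₁ ∈ ([-1, 0, 1] : List ℤ),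
      1 + A * A + B₁ * B₁ + (-1 - B₁ - D₁ - (-1 - A - D₁)) * (-1 - B₁ - D₁ - (-1 - A - D₁)) + C₁ * C₁ + (-1 - C₁ - D₁ - (-1 - A - D₁)) * (-1 - C₁ - D₁ - (-1 - A - D₁)) + D₁ * D₁ + (-1 - A - D₁) * (-1 - A - D₁) ≤ 3 →
      (3 - (1 + A * A + B₁ * B₁ + (-1 - B₁ - D₁ - (-1 - A - D₁)) * (-1 - B₁ - D₁ - (-1 - A - D₁)) + C₁ * C₁ + (-1 - C₁ - D₁ - (-1 - A - D₁)) * (-1 - C₁ - D₁ - (-1 - A - D₁)) + D₁ * D₁ + (-1 - A - D₁) * (-1 - A - D₁))) = 1 ∧ A = 0 ∧ B₁ = 0 ∧ (-1 - B₁ - D₁ - (-1 - A - D₁)) = 0 ∧ C₁ = 0 ∧ (-1 - C₁ - D₁ - (-1 - A - D₁)) = 0 ∧ ((D₁ = -1 ∧ (-1 - A - D₁) = 0) ∨ (D₁ = 0 ∧ (-1 - A - D₁) = -1)) := by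
    decide +kernel
  obtain rfl : B₂ = -1 - B₁ - D₁ - D₂ := by omega
  obtain rfl : C₂ = -1 - C₁ - D₁ - D₂ := by omega
  obtain rfl : D₂ = -1 - A - D₁ := by omega
  obtain rfl : r = 3 - (1 + A * A + B₁ * B₁ + (-1 - B₁ - D₁ - (-1 - A - D₁)) * (-1 - B₁ - D₁ - (-1 - A - D₁)) + C₁ * C₁ + (-1 - C₁ - D₁ - (-1 - A - D₁)) * (-1 - C₁ - D₁ - (-1 - A - D₁)) + D₁ * D₁ + (-1 - A - D₁) * (-1 - A - D₁)) := by omega
  exact key _ (mem_one (x := A) (r := 3) (by nlinarith) (by norm_num)) _ (mem_one (x := B₁) (r := 3) (by nlinarith) (by norm_num)) _ (mem_one (x := C₁) (r := 3) (by nlinarith) (by norm_num)) _ (mem_one (x := D₁) (r := 3) (by nlinarith) (by norm_num)) (by omega)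

/-- Norm seven, sums `(0, -3, -3)`, trivial coefficient one. -/
theorem eight_one (hr : 0 ≤ r) (h1 : 1 + A + D₁ + D₂ = 0) (h2 : B₁ + B₂ + D₁ + D₂ = -3)
    (h3 : C₁ + C₂ + D₁ + D₂ = -3)
    (hn : 1 + A * A + B₁ * B₁ + B₂ * B₂ + C₁ * C₁ + C₂ * C₂ + D₁ * D₁ + D₂ * D₂ + r = 7) :
    (r = 1 ∧ A = 0 ∧ B₁ = -1 ∧ B₂ = -1 ∧ C₁ = -1 ∧ C₂ = -1 ∧ ((D₁ = -1 ∧ D₂ = 0) ∨ (D₁ = 0 ∧ D₂ = -1))) ∨
    (r = 1 ∧ A = 1 ∧ D₁ = -1 ∧ D₂ = -1 ∧ ((B₁ = -1 ∧ B₂ = 0) ∨ (B₁ = 0 ∧ B₂ = -1)) ∧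
      ((C₁ = -1 ∧ C₂ = 0) ∨ (C₁ = 0 ∧ C₂ = -1))) := by
  have key : ∀ A ∈ ([-2, -1, 0, 1, 2] : List ℤ), ∀ B₁ ∈ ([-2, -1, 0, 1, 2] : List ℤ), ∀ C₁ ∈ ([-2, -1, 0, 1, 2] : List ℤ), ∀ D₁ ∈ ([-2, -1, 0, 1, 2] : List ℤ),
      1 + A * A + B₁ * B₁ + (-3 - B₁ - D₁ - (-1 - A - D₁)) * (-3 - B₁ - D₁ - (-1 - A - D₁)) + C₁ * C₁ + (-3 - C₁ - D₁ - (-1 - A - D₁)) * (-3 - C₁ - D₁ - (-1 - A - D₁)) + D₁ * D₁ + (-1 - A - D₁) * (-1 - A - D₁) ≤ 7 →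
      ((7 - (1 + A * A + B₁ * B₁ + (-3 - B₁ - D₁ - (-1 - A - D₁)) * (-3 - B₁ - D₁ - (-1 - A - D₁)) + C₁ * C₁ + (-3 - C₁ - D₁ - (-1 - A - D₁)) * (-3 - C₁ - D₁ - (-1 - A - D₁)) + D₁ * D₁ + (-1 - A - D₁) * (-1 - A - D₁))) = 1 ∧ A = 0 ∧ B₁ = -1 ∧ (-3 - B₁ - D₁ - (-1 - A - D₁)) = -1 ∧ C₁ = -1 ∧ (-3 - C₁ - D₁ - (-1 - A - D₁)) = -1 ∧ ((D₁ = -1 ∧ (-1 - A - D₁) = 0) ∨ (D₁ = 0 ∧ (-1 - A - D₁) = -1))) ∨
      ((7 - (1 + A * A + B₁ * B₁ + (-3 - B₁ - D₁ - (-1 - A - D₁)) * (-3 - B₁ - D₁ - (-1 - A - D₁)) + C₁ * C₁ + (-3 - C₁ - D₁ - (-1 - A - D₁)) * (-3 - C₁ - D₁ - (-1 - A - D₁)) + D₁ * D₁ + (-1 - A - D₁) * (-1 - A - D₁))) = 1 ∧ A = 1 ∧ D₁ = -1 ∧ (-1 - A - D₁) = -1 ∧ ((B₁ = -1 ∧ (-3 - B₁ - D₁ - (-1 - A - D₁)) = 0) ∨ (B₁ = 0 ∧ (-3 - B₁ - D₁ - (-1 - A - D₁)) = -1)) ∧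
        ((C₁ = -1 ∧ (-3 - C₁ - D₁ - (-1 - A - D₁)) = 0) ∨ (C₁ = 0 ∧ (-3 - C₁ - D₁ - (-1 - A - D₁)) = -1))) := by
    decide +kernel
  obtain rfl : B₂ = -3 - B₁ - D₁ - D₂ := by omega
  obtain rfl : C₂ = -3 - C₁ - D₁ - D₂ := by omega
  obtain rfl : D₂ = -1 - A - D₁ := by omega
  obtain rfl : r = 7 - (1 + A * A + B₁ * B₁ + (-3 - B₁ - D₁ - (-1 - A - D₁)) * (-3 - B₁ - D₁ - (-1 - A - D₁)) + C₁ * C₁ + (-3 - C₁ - D₁ - (-1 - A - D₁)) * (-3 - C₁ - D₁ - (-1 - A - D₁)) + D₁ * D₁ + (-1 - A - D₁) * (-1 - A - D₁)) := by omega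
  exact key _ (mem_two (x := A) (r := 7) (by nlinarith) (by norm_num)) _ (mem_two (x := B₁) (r := 7) (by nlinarith) (by norm_num)) _ (mem_two (x := C₁) (r := 7) (by nlinarith) (by norm_num)) _ (mem_two (x := D₁) (r := 7) (by nlinarith) (by norm_num)) (by omega)

/-- Norm three, sums `(0, 1, 1)`, seven rows. -/
theorem seven_lam (hr : 0 ≤ r) (h1 : P₁ + P₂ + D = 0) (h2 : U + P₁ + R + D = 1) (h3 : U' + P₂ + R + D = 1)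
    (hn : U * U + U' * U' + P₁ * P₁ + P₂ * P₂ + R * R + D * D + r = 3) :
    (r = 1 ∧ U = 1 ∧ U' = 1 ∧ P₁ = 0 ∧ P₂ = 0 ∧ R = 0 ∧ D = 0) ∨
    (r = 2 ∧ U = 0 ∧ U' = 0 ∧ P₁ = 0 ∧ P₂ = 0 ∧ R = 1 ∧ D = 0) ∨
    (r = 0 ∧ R = 0 ∧ D = 1 ∧ U + U' = 1 ∧ P₁ + P₂ = -1) := by
  have key : ∀ P₁ ∈ ([-1, 0, 1] : List ℤ), ∀ P₂ ∈ ([-1, 0, 1] : List ℤ), ∀ R ∈ ([-1, 0, 1] : List ℤ),
      (1 - P₁ - R - (-P₁ - P₂)) * (1 - P₁ - R - (-P₁ - P₂)) + (1 - P₂ - R - (-P₁ - P₂)) * (1 - P₂ - R - (-P₁ - P₂)) + P₁ * P₁ + P₂ * P₂ + R * R + (-P₁ - P₂) * (-P₁ - P₂) ≤ 3 →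
      ((3 - ((1 - P₁ - R - (-P₁ - P₂)) * (1 - P₁ - R - (-P₁ - P₂)) + (1 - P₂ - R - (-P₁ - P₂)) * (1 - P₂ - R - (-P₁ - P₂)) + P₁ * P₁ + P₂ * P₂ + R * R + (-P₁ - P₂) * (-P₁ - P₂))) = 1 ∧ (1 - P₁ - R - (-P₁ - P₂)) = 1 ∧ (1 - P₂ - R - (-P₁ - P₂)) = 1 ∧ P₁ = 0 ∧ P₂ = 0 ∧ R = 0 ∧ (-P₁ - P₂) = 0) ∨
      ((3 - ((1 - P₁ - R - (-P₁ - P₂)) * (1 - P₁ - R - (-P₁ - P₂)) + (1 - P₂ - R - (-P₁ - P₂)) * (1 - P₂ - R - (-P₁ - P₂)) + P₁ * P₁ + P₂ * P₂ + R * R + (-P₁ - P₂) * (-P₁ - P₂))) = 2 ∧ (1 - P₁ - R - (-P₁ - P₂)) = 0 ∧ (1 - P₂ - R - (-P₁ - P₂)) = 0 ∧ P₁ = 0 ∧ P₂ = 0 ∧ R = 1 ∧ (-P₁ - P₂) = 0) ∨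
      ((3 - ((1 - P₁ - R - (-P₁ - P₂)) * (1 - P₁ - R - (-P₁ - P₂)) + (1 - P₂ - R - (-P₁ - P₂)) * (1 - P₂ - R - (-P₁ - P₂)) + P₁ * P₁ + P₂ * P₂ + R * R + (-P₁ - P₂) * (-P₁ - P₂))) = 0 ∧ R = 0 ∧ (-P₁ - P₂) = 1 ∧ (1 - P₁ - R - (-P₁ - P₂)) + (1 - P₂ - R - (-P₁ - P₂)) = 1 ∧ P₁ + P₂ = -1) := by
    decide +kernel
  obtain rfl : U = 1 - P₁ - R - D := by omega
  obtain rfl : U' = 1 - P₂ - R - D := by omega
  obtain rfl : D = -P₁ - P₂ := by omega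
  obtain rfl : r = 3 - ((1 - P₁ - R - (-P₁ - P₂)) * (1 - P₁ - R - (-P₁ - P₂)) + (1 - P₂ - R - (-P₁ - P₂)) * (1 - P₂ - R - (-P₁ - P₂)) + P₁ * P₁ + P₂ * P₂ + R * R + (-P₁ - P₂) * (-P₁ - P₂)) := by omega
  exact key _ (mem_one (x := P₁) (r := 3) (by nlinarith) (by norm_num)) _ (mem_one (x := P₂) (r := 3) (by nlinarith) (by norm_num)) _ (mem_one (x := R) (r := 3) (by nlinarith) (by norm_num)) (by omega)

/-- Norm three, sums `(0, -1, -1)`, trivial coefficient one, seven rows. -/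
theorem seven_rho (hr : 0 ≤ r) (h1 : 1 + P₁ + P₂ + D = 0) (h2 : U + P₁ + R + D = -1)
    (h3 : U' + P₂ + R + D = -1)
    (hn : 1 + U * U + U' * U' + P₁ * P₁ + P₂ * P₂ + R * R + D * D + r = 3) :
    (r = 1 ∧ U = 0 ∧ U' = 0 ∧ P₁ = 0 ∧ P₂ = 0 ∧ R = 0 ∧ D = -1) ∨
    (r = 0 ∧ D = 0 ∧ R = 0 ∧ U + U' = -1 ∧ P₁ + P₂ = -1) := by
  have key : ∀ P₁ ∈ ([-1, 0, 1] : List ℤ), ∀ P₂ ∈ ([-1, 0, 1] : List ℤ), ∀ R ∈ ([-1, 0, 1] : List ℤ),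
      1 + (-1 - P₁ - R - (-1 - P₁ - P₂)) * (-1 - P₁ - R - (-1 - P₁ - P₂)) + (-1 - P₂ - R - (-1 - P₁ - P₂)) * (-1 - P₂ - R - (-1 - P₁ - P₂)) + P₁ * P₁ + P₂ * P₂ + R * R + (-1 - P₁ - P₂) * (-1 - P₁ - P₂) ≤ 3 →
      ((3 - (1 + (-1 - P₁ - R - (-1 - P₁ - P₂)) * (-1 - P₁ - R - (-1 - P₁ - P₂)) + (-1 - P₂ - R - (-1 - P₁ - P₂)) * (-1 - P₂ - R - (-1 - P₁ - P₂)) + P₁ * P₁ + P₂ * P₂ + R * R + (-1 - P₁ - P₂) * (-1 - P₁ - P₂))) = 1 ∧ (-1 - P₁ - R - (-1 - P₁ - P₂)) = 0 ∧ (-1 - P₂ - R - (-1 - P₁ - P₂)) = 0 ∧ P₁ = 0 ∧ P₂ = 0 ∧ R = 0 ∧ (-1 - P₁ - P₂) = -1) ∨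
      ((3 - (1 + (-1 - P₁ - R - (-1 - P₁ - P₂)) * (-1 - P₁ - R - (-1 - P₁ - P₂)) + (-1 - P₂ - R - (-1 - P₁ - P₂)) * (-1 - P₂ - R - (-1 - P₁ - P₂)) + P₁ * P₁ + P₂ * P₂ + R * R + (-1 - P₁ - P₂) * (-1 - P₁ - P₂))) = 0 ∧ (-1 - P₁ - P₂) = 0 ∧ R = 0 ∧ (-1 - P₁ - R - (-1 - P₁ - P₂)) + (-1 - P₂ - R - (-1 - P₁ - P₂)) = -1 ∧ P₁ + P₂ = -1) := by
    decide +kernel
  obtain rfl : U = -1 - P₁ - R - D := by omega
  obtain rfl : U' = -1 - P₂ - R - D := by omega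
  obtain rfl : D = -1 - P₁ - P₂ := by omega
  obtain rfl : r = 3 - (1 + (-1 - P₁ - R - (-1 - P₁ - P₂)) * (-1 - P₁ - R - (-1 - P₁ - P₂)) + (-1 - P₂ - R - (-1 - P₁ - P₂)) * (-1 - P₂ - R - (-1 - P₁ - P₂)) + P₁ * P₁ + P₂ * P₂ + R * R + (-1 - P₁ - P₂) * (-1 - P₁ - P₂)) := by omega
  exact key _ (mem_one (x := P₁) (r := 3) (by nlinarith) (by norm_num)) _ (mem_one (x := P₂) (r := 3) (by nlinarith) (by norm_num)) _ (mem_one (x := R) (r := 3) (by nlinarith) (by norm_num)) (by omega)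

/-- Norm seven, sums `(0, -3, -3)`, trivial coefficient one, seven rows. -/
theorem seven_one (hr : 0 ≤ r) (h1 : 1 + P₁ + P₂ + D = 0) (h2 : U + P₁ + R + D = -3)
    (h3 : U' + P₂ + R + D = -3)
    (hn : 1 + U * U + U' * U' + P₁ * P₁ + P₂ * P₂ + R * R + D * D + r = 7) :
    (r = 1 ∧ U = 0 ∧ U' = 0 ∧ P₁ = 0 ∧ P₂ = 0 ∧ R = -2 ∧ D = -1) ∨
    (r = 2 ∧ U = -1 ∧ U' = -1 ∧ P₁ = 0 ∧ P₂ = 0 ∧ R = -1 ∧ D = -1) ∨
    (r = 0 ∧ R = -2 ∧ D = 0 ∧ U + U' = -1 ∧ P₁ + P₂ = -1) := by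
  have key : ∀ P₁ ∈ ([-2, -1, 0, 1, 2] : List ℤ), ∀ P₂ ∈ ([-2, -1, 0, 1, 2] : List ℤ), ∀ R ∈ ([-2, -1, 0, 1, 2] : List ℤ),
      1 + (-3 - P₁ - R - (-1 - P₁ - P₂)) * (-3 - P₁ - R - (-1 - P₁ - P₂)) + (-3 - P₂ - R - (-1 - P₁ - P₂)) * (-3 - P₂ - R - (-1 - P₁ - P₂)) + P₁ * P₁ + P₂ * P₂ + R * R + (-1 - P₁ - P₂) * (-1 - P₁ - P₂) ≤ 7 →
      ((7 - (1 + (-3 - P₁ - R - (-1 - P₁ - P₂)) * (-3 - P₁ - R - (-1 - P₁ - P₂)) + (-3 - P₂ - R - (-1 - P₁ - P₂)) * (-3 - P₂ - R - (-1 - P₁ - P₂)) + P₁ * P₁ + P₂ * P₂ + R * R + (-1 - P₁ - P₂) * (-1 - P₁ - P₂))) = 1 ∧ (-3 - P₁ - R - (-1 - P₁ - P₂)) = 0 ∧ (-3 - P₂ - R - (-1 - P₁ - P₂)) = 0 ∧ P₁ = 0 ∧ P₂ = 0 ∧ R = -2 ∧ (-1 - P₁ - P₂) = -1) ∨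
      ((7 - (1 + (-3 - P₁ - R - (-1 - P₁ - P₂)) * (-3 - P₁ - R - (-1 - P₁ - P₂)) + (-3 - P₂ - R - (-1 - P₁ - P₂)) * (-3 - P₂ - R - (-1 - P₁ - P₂)) + P₁ * P₁ + P₂ * P₂ + R * R + (-1 - P₁ - P₂) * (-1 - P₁ - P₂))) = 2 ∧ (-3 - P₁ - R - (-1 - P₁ - P₂)) = -1 ∧ (-3 - P₂ - R - (-1 - P₁ - P₂)) = -1 ∧ P₁ = 0 ∧ P₂ = 0 ∧ R = -1 ∧ (-1 - P₁ - P₂) = -1) ∨
      ((7 - (1 + (-3 - P₁ - R - (-1 - P₁ - P₂)) * (-3 - P₁ - R - (-1 - P₁ - P₂)) + (-3 - P₂ - R - (-1 - P₁ - P₂)) * (-3 - P₂ - R - (-1 - P₁ - P₂)) + P₁ * P₁ + P₂ * P₂ + R * R + (-1 - P₁ - P₂) * (-1 - P₁ - P₂))) = 0 ∧ R = -2 ∧ (-1 - P₁ - P₂) = 0 ∧ (-3 - P₁ - R - (-1 - P₁ - P₂)) + (-3 - P₂ - R - (-1 - P₁ - P₂)) = -1 ∧ P₁ + P₂ = -1) := by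
    decide +kernel
  obtain rfl : U = -3 - P₁ - R - D := by omega
  obtain rfl : U' = -3 - P₂ - R - D := by omega
  obtain rfl : D = -1 - P₁ - P₂ := by omega
  obtain rfl : r = 7 - (1 + (-3 - P₁ - R - (-1 - P₁ - P₂)) * (-3 - P₁ - R - (-1 - P₁ - P₂)) + (-3 - P₂ - R - (-1 - P₁ - P₂)) * (-3 - P₂ - R - (-1 - P₁ - P₂)) + P₁ * P₁ + P₂ * P₂ + R * R + (-1 - P₁ - P₂) * (-1 - P₁ - P₂)) := by omega
  exact key _ (mem_two (x := P₁) (r := 7) (by nlinarith) (by norm_num)) _ (mem_two (x := P₂) (r := 7) (by nlinarith) (by norm_num)) _ (mem_two (x := R) (r := 7) (by nlinarith) (by norm_num)) (by omega)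

end Patterns

end Cfsg.Agent.Lib.JankoThompson
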