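/-
The table of a simple group with an involution centraliser `2 × PSL₂(q)`: the fused case does not occur.
-/
import Cfsg.Agent.Lib.JankoThompson.Shapes
import Cfsg.Agent.Lib.JankoThompson.Arith.Small

set_option autoImplicit false
set_option linter.unusedSectionVars false

namespace Cfsg.Agent.Lib.JankoThompson

open Finset

variable {ι : Type*} [Fintype ι]

/-- A unit multiple in the class equation. -/
theorem unit_term {s T d : ℤ} (hs : s * s = 1) (hd : d ≠ 0) :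
    (s : ℚ) * ((T : ℚ) ^ 2 / d) = ((s * T : ℤ) : ℚ) ^ 2 / ((s * d : ℤ) : ℚ) := by
  have hs' : (s : ℚ) ≠ 0 := Int.cast_ne_zero.2 fun e => by rw [e] at hs; norm_num at hs
  have hd' : (d : ℚ) ≠ 0 := Int.cast_ne_zero.2 hd
  push_cast
  field_simp

theorem Coef.neg {X : Tab ι} {N co sb : ℤ} {rhs : ℚ} {f : ι → ℤ} (h : Coef X N co sb rhs f) :
    Coef X N (-co) (-sb) (-rhs) (fun i => -f i) where
  val_o := by simp [h.val_o]
  norm := by simp [h.norm]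
  sum_a := by simp [h.sum_a]
  sum_b := by simp [h.sum_b]
  sum_c := by simp [h.sum_c]
  deg := by simp [h.deg]
  val := by simp [h.val]
  eqn := by simp [neg_div, h.eqn]

/-- Two constituents. -/
theorem rest_two {S : Finset ι} {f : ι → ℤ} {y w : ι} (hy : y ∈ S) (hw : w ∈ S) (hyw : y ≠ w)
    (hy1 : f y * f y = 1) (hw1 : f w * f w = 1) (hz : ∀ i ∈ S, i ≠ y → i ≠ w → f i = 0)
    {d T : ι → ℤ} (hd : ∀ i, 0 < d i) :
    f y * d y ≠ 0 ∧ f w * d w ≠ 0 ∧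
    ∑ i ∈ S, f i * d i = f y * d y + f w * d w ∧
    ∑ i ∈ S, f i * T i = f y * T y + f w * T w ∧
    ∑ i ∈ S, (f i : ℚ) * (T i : ℚ) ^ 2 / d i =
      ((f y * T y : ℤ) : ℚ) ^ 2 / ((f y * d y : ℤ) : ℚ) +
        ((f w * T w : ℤ) : ℚ) ^ 2 / ((f w * d w : ℤ) : ℚ) := by
  have hne : ∀ i, f i * f i = 1 → f i * d i ≠ 0 := fun i hi =>
    mul_ne_zero (fun e => by rw [e] at hi; norm_num at hi) (hd i).ne'
  refine ⟨hne y hy1, hne w hw1, by simpa using sum_of_two (R := ℤ) hy hw hyw hz d,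
    by simpa using sum_of_two (R := ℤ) hy hw hyw hz T, ?_⟩
  simp only [mul_div_assoc]
  rw [sum_of_two (R := ℚ) hy hw hyw hz (fun i => (T i : ℚ) ^ 2 / d i), unit_term hy1 (hd y).ne',
    unit_term hw1 (hd w).ne']

namespace Tab

variable {X : Tab ι}

theorem m_cast : (X.m : ℚ) = ((X.Q : ℚ) - 1) / 2 := by
  have : 2 * (X.m : ℚ) = X.Q - 1 := by exact_mod_cast X.hm
  linarith

/-- Exchange the rows of pattern `(1, 1, 1)`. -/
def Eight.swapD (E : X.Eight) : X.Eight where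
  A := E.A
  B₁ := E.B₁
  B₂ := E.B₂
  C₁ := E.C₁
  C₂ := E.C₂
  D₁ := E.D₂
  D₂ := E.D₁
  nodup := (List.Perm.nodup_iff (by
    repeat' apply List.Perm.cons
    exact List.Perm.swap _ _ _)).1 E.nodup
  rA := E.rA
  rB₁ := E.rB₁
  rB₂ := E.rB₂
  rC₁ := E.rC₁
  rC₂ := E.rC₂
  rD₁ := E.rD₂
  rD₂ := E.rD₁
  zero := fun i hi => E.zero i (by
    simp only [List.mem_cons, List.not_mem_nil, or_false, not_or] at hi ⊢; tauto)

theorem Eight.swapD_out (E : X.Eight) : E.swapD.out = E.out := by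
  classical
  simp only [Eight.out, swapD]
  congr 1
  ext i
  simp only [List.toFinset_cons, List.toFinset_nil, insert_empty_eq, Finset.mem_insert, Finset.mem_singleton]
  tauto

variable {θ f₀ g g' : ι → ℤ} {ρ : ℚ}

/-- The first shape of `θ` together with `f₀`. -/
theorem Eight.fused_core (E : X.Eight) (hQ : 11 ≤ |X.Q|) (h : Coef X 3 0 1 0 θ)
    (h0 : Coef X 3 1 (-1) (X.K * ((X.Q : ℚ) + 1) / 3) f₀)
    (ht : X.hat θ E.A = -1 ∧ X.hat θ E.B₁ = 0 ∧ X.hat θ E.B₂ = 0 ∧ X.hat θ E.C₁ = 0 ∧ X.hat θ E.C₂ = 0 ∧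
      X.hat θ E.D₁ = 0 ∧ X.hat θ E.D₂ = 1)
    (hrt : ∑ i ∈ E.out, θ i * θ i = 1)
    (hf : X.hat f₀ E.A = 0 ∧ X.hat f₀ E.B₁ = 0 ∧ X.hat f₀ E.B₂ = 0 ∧ X.hat f₀ E.C₁ = 0 ∧
      X.hat f₀ E.C₂ = 0 ∧ X.hat f₀ E.D₁ = -1 ∧ X.hat f₀ E.D₂ = 0)
    (hrf : ∑ i ∈ E.out, f₀ i * f₀ i = 1) : False := by
  obtain ⟨t1, t2, t3, t4, t5, t6, t7⟩ := ht
  obtain ⟨f1, f2, f3, f4, f5, f6, f7⟩ := hf
  obtain ⟨hd, hv, he⟩ := E.values h
  obtain ⟨hd0, hv0, he0⟩ := E.values h0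
  obtain ⟨hW, hR⟩ := rest_one hrt (T := X.T) X.d_pos
  obtain ⟨hW0, hR0⟩ := rest_one hrf (T := X.T) X.d_pos
  simp only [t1, t2, t3, t4, t5, t6, t7, f1, f2, f3, f4, f5, f6, f7, hR, hR0] at hd hv he hd0 hv0 he0
  have a0 : (X.x E.A : ℚ) ≠ 0 := Int.cast_ne_zero.2 E.rA.x_ne
  have d10 : (X.x E.D₁ : ℚ) ≠ 0 := Int.cast_ne_zero.2 E.rD₁.x_ne
  have d20 : (X.x E.D₂ : ℚ) ≠ 0 := Int.cast_ne_zero.2 E.rD₂.x_ne
  have eW : ∑ i ∈ E.out, θ i * X.d i = X.x E.A - X.x E.D₂ := by linarith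
  have eW0 : ∑ i ∈ E.out, f₀ i * X.d i = X.x E.D₁ - 1 := by linarith
  have eT : ∑ i ∈ E.out, θ i * X.T i = 1 - X.Q := by linarith
  have eT0 : ∑ i ∈ E.out, f₀ i * X.T i = X.Q - 1 := by linarith
  rw [eW] at he hW
  rw [eW0] at he0 hW0
  rw [eT] at he
  rw [eT0] at he0
  have w0 : (X.x E.A : ℚ) - X.x E.D₂ ≠ 0 := by exact_mod_cast hW
  have w1 : (X.x E.D₁ : ℚ) - 1 ≠ 0 := by exact_mod_cast hW0
  push_cast at he he0
  simp only [zero_div, zero_add, add_zero, mul_zero] at he he0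
  have hD2 : (X.x E.D₂ : ℚ) = X.Q * X.x E.A := by
    field_simp at he
    have : ((X.x E.D₂ : ℚ) - X.Q * X.x E.A) ^ 2 = 0 := by linear_combination he
    exact sub_eq_zero.1 (pow_eq_zero_iff (n := 2) (by norm_num) |>.1 this)
  obtain ⟨hs, -, -⟩ := E.deg
  have hs' : (1 : ℚ) + X.x E.A + X.x E.D₁ + X.x E.D₂ = 0 := by exact_mod_cast hs
  obtain ⟨hA, -, -⟩ := E.eqs
  have hQ0 : (X.Q : ℚ) + 1 ≠ 0 := by
    have : X.Q + 1 ≠ 0 := by rcases abs_cases X.Q with ⟨e, _⟩ | ⟨e, _⟩ <;> omega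
    exact_mod_cast this
  have hQ1 : (X.Q : ℚ) ≠ 0 := by
    have : X.Q ≠ 0 := by rcases abs_cases X.Q with ⟨e, _⟩ | ⟨e, _⟩ <;> omega
    exact_mod_cast this
  have key := Arith.fused (Q := (X.Q : ℚ)) (E := ((X.Q : ℚ) + 1) * X.x E.A) (D := X.x E.D₁) X.hK
    (by linear_combination hs' - hD2) (mul_ne_zero hQ0 a0) d10 w1
    (by rw [← hA, hD2]; field_simp; ring) (by rw [← he0]; ring)
  exact Arith.fused_eight hQ (A := X.x E.A) (by exact_mod_cast key)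

theorem Eight.pair_T (E : X.Eight) {f : ι → ℤ} (h : Coef X 3 0 1 ρ f) (a : X.hat f E.A = 0)
    (d₁ : X.hat f E.D₁ = 0) (d₂ : X.hat f E.D₂ = 0) : ∑ i ∈ E.out, f i * X.T i = -2 * X.m := by
  obtain ⟨-, v, -⟩ := E.values h
  obtain ⟨-, b, c, -⟩ := E.read h
  rw [a, d₁, d₂] at v
  rw [d₁, d₂] at b c
  linear_combination v - X.m * (b + c)

/-- The shape `B + C + W`. -/
theorem Eight.pair (E : X.Eight) {f : ι → ℤ} (h : Coef X 3 0 1 ρ f) (a : X.hat f E.A = 0)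
    (d₁ : X.hat f E.D₁ = 0) (d₂ : X.hat f E.D₂ = 0) (hr : ∑ i ∈ E.out, f i * f i = 1)
    (hB : (X.hat f E.B₁ = 1 ∧ X.hat f E.B₂ = 0) ∨ (X.hat f E.B₁ = 0 ∧ X.hat f E.B₂ = 1))
    (hC : (X.hat f E.C₁ = 1 ∧ X.hat f E.C₂ = 0) ∨ (X.hat f E.C₁ = 0 ∧ X.hat f E.C₂ = 1)) :
    ∃ b c : ℚ, b = (X.hat f E.B₁ : ℚ) * X.x E.B₁ + (X.hat f E.B₂ : ℚ) * X.x E.B₂ ∧
      c = (X.hat f E.C₁ : ℚ) * X.x E.C₁ + (X.hat f E.C₂ : ℚ) * X.x E.C₂ ∧ b ≠ 0 ∧ c ≠ 0 ∧ b + c ≠ 0 ∧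
      (X.m : ℚ) ^ 2 / b + (X.m : ℚ) ^ 2 / c - (2 * (X.m : ℚ)) ^ 2 / (b + c) = ρ := by
  obtain ⟨hW, hR⟩ := rest_one hr (T := X.T) X.d_pos
  obtain ⟨hd, -, he⟩ := E.values h
  rw [a, d₁, d₂] at hd he
  rw [hR, E.pair_T h a d₁ d₂] at he
  generalize hw : ∑ i ∈ E.out, f i * X.d i = w at hd he hW
  have hw0 : (w : ℚ) ≠ 0 := Int.cast_ne_zero.2 hW
  have n1 := (Int.cast_ne_zero (α := ℚ)).2 E.rB₁.x_ne
  have n2 := (Int.cast_ne_zero (α := ℚ)).2 E.rB₂.x_ne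
  have n3 := (Int.cast_ne_zero (α := ℚ)).2 E.rC₁.x_ne
  have n4 := (Int.cast_ne_zero (α := ℚ)).2 E.rC₂.x_ne
  have hd' : (X.hat f E.B₁ : ℚ) * X.x E.B₁ + (X.hat f E.B₂ : ℚ) * X.x E.B₂ +
      ((X.hat f E.C₁ : ℚ) * X.x E.C₁ + (X.hat f E.C₂ : ℚ) * X.x E.C₂) = -(w : ℚ) := by
    have : ((X.hat f E.B₁ * X.x E.B₁ + X.hat f E.B₂ * X.x E.B₂ +
      (X.hat f E.C₁ * X.x E.C₁ + X.hat f E.C₂ * X.x E.C₂) : ℤ) : ℚ) = ((-w : ℤ) : ℚ) := by
      congr 1; linarith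
    exact_mod_cast this
  have key : (X.m : ℚ) ^ 2 * ((X.hat f E.B₁ : ℚ) / X.x E.B₁ + (X.hat f E.B₂ : ℚ) / X.x E.B₂ +
      (X.hat f E.C₁ : ℚ) / X.x E.C₁ + (X.hat f E.C₂ : ℚ) / X.x E.C₂) + (2 * (X.m : ℚ)) ^ 2 / w = ρ := by
    rw [← he, m_cast]; push_cast; rw [m_cast]; ring
  refine ⟨_, _, rfl, rfl, ?_, ?_, by rw [hd']; exact neg_ne_zero.2 hw0, ?_⟩
  · rcases hB with ⟨p, q⟩ | ⟨p, q⟩ <;> rw [p, q] <;> simp [n1, n2]
  · rcases hC with ⟨p, q⟩ | ⟨p, q⟩ <;> rw [p, q] <;> simp [n3, n4]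
  · rw [hd', div_neg, sub_neg_eq_add, ← key]
    rcases hB with ⟨p, q⟩ | ⟨p, q⟩ <;> rcases hC with ⟨p', q'⟩ | ⟨p', q'⟩ <;> rw [p, q, p', q'] <;>
      simp <;> ring

/-- The fused case on eight rows. -/
theorem Eight.fused_false (E : X.Eight) (hQ : 11 ≤ |X.Q|) (h : Coef X 3 0 1 0 θ)
    (h0 : Coef X 3 1 (-1) (X.K * ((X.Q : ℚ) + 1) / 3) f₀)
    (hg : Coef X 3 0 1 ρ g) (hg' : Coef X 3 0 1 ρ g') (hρ : ρ ≠ 0)
    (o0 : ∑ i, θ i * f₀ i = 0) (o1 : ∑ i, θ i * g i = 0) (o1' : ∑ i, θ i * g' i = 0)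
    (o2 : ∑ i, g i * g' i = 0) : False := by
  have hQ1 : X.Q - 1 ≠ 0 := by rcases abs_cases X.Q with ⟨e, _⟩ | ⟨e, _⟩ <;> omega
  have hm := X.hm
  have read : ∀ {r : ℚ} {f : ι → ℤ}, Coef X 3 0 1 r f → _ := fun {r f} hc =>
    eight_lam (A := X.hat f E.A) (B₁ := X.hat f E.B₁) (B₂ := X.hat f E.B₂) (C₁ := X.hat f E.C₁)
      (C₂ := X.hat f E.C₂) (D₁ := X.hat f E.D₁) (D₂ := X.hat f E.D₂) (out_nonneg (S := E.out) (f := f))
      (by linarith [(E.read hc).1]) (E.read hc).2.1 (E.read hc).2.2.1 (by linarith [(E.read hc).2.2.2])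
  obtain ⟨r1, r2, r3, r4⟩ := E.read h0
  obtain ⟨hr0, fA, fB₁, fB₂, fC₁, fC₂, fD⟩ := eight_rho (A := X.hat f₀ E.A)
    (out_nonneg (S := E.out) (f := f₀)) (by linarith) r2 r3 (by linarith)
  obtain ⟨hd, hv, he⟩ := E.values h
  obtain ⟨hd0, hv0, -⟩ := E.values h0
  have hin := E.inner θ f₀
  rw [o0, h.val_o] at hin
  rcases read h with ⟨hr, tA, tB₁, tB₂, tC₁, tC₂, tD⟩ | ⟨hr, tA, tD₁, tD₂, tB, tC⟩
  · simp only [tA, tB₁, tB₂, tC₁, tC₂, fA, fB₁, fB₂, fC₁, fC₂] at hin hv hv0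
    rcases tD with ⟨t6, t7⟩ | ⟨t6, t7⟩ <;> rcases fD with ⟨f6, f7⟩ | ⟨f6, f7⟩ <;>
      simp only [t6, t7, f6, f7] at hin hv hv0
    case inl.inr =>
      exact E.swapD.fused_core hQ h h0 ⟨tA, tB₁, tB₂, tC₁, tC₂, t7, t6⟩ (by rw [E.swapD_out]; exact hr)
        ⟨fA, fB₁, fB₂, fC₁, fC₂, f7, f6⟩ (by rw [E.swapD_out]; exact hr0)
    case inr.inl =>
      exact E.fused_core hQ h h0 ⟨tA, tB₁, tB₂, tC₁, tC₂, t6, t7⟩ hr ⟨fA, fB₁, fB₂, fC₁, fC₂, f6, f7⟩ hr0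
    all_goals
      rcases inner_one hr hr0 with e | ⟨-, hy⟩
      · omega
      · have := hy X.T
        rw [show ∑ i ∈ E.out, θ i * f₀ i = 1 by linarith] at this
        omega
  · have tnn := E.pair h tA tD₁ tD₂ hr tB tC
    obtain ⟨bt, ct, hbt, hct, hb0, hc0, hbc, heq⟩ := tnn
    have hbeq : bt = ct := Arith.eq_of_pair (m := (X.m : ℚ))
      (Int.cast_ne_zero.2 (by omega)) hb0 hc0 hbc heq
    obtain ⟨-, hB, hC⟩ := E.deg
    have main : ∀ {f : ι → ℤ}, Coef X 3 0 1 ρ f → ∑ i, θ i * f i = 0 →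
        X.hat f E.A = 0 → X.hat f E.D₁ = 0 → X.hat f E.D₂ = 0 →
        ((X.hat f E.B₁ = 1 ∧ X.hat f E.B₂ = 0) ∨ (X.hat f E.B₁ = 0 ∧ X.hat f E.B₂ = 1)) →
        ((X.hat f E.C₁ = 1 ∧ X.hat f E.C₂ = 0) ∨ (X.hat f E.C₁ = 0 ∧ X.hat f E.C₂ = 1)) →
        ∑ i ∈ E.out, f i * f i = 1 → False := by
      intro f hf ho fA fD₁ fD₂ fB fC hrf
      have hi := E.inner θ f
      rw [ho, h.val_o, tA, tD₁, tD₂, fA, fD₁, fD₂] at hi
      have hnn : 0 ≤ ∑ i ∈ E.out, θ i * f i := by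
        rcases inner_one hr hrf with e | ⟨e | e, hy⟩
        · omega
        · omega
        · have := hy X.T; rw [e, E.pair_T h tA tD₁ tD₂, E.pair_T hf fA fD₁ fD₂] at this; omega
      obtain ⟨bf, cf, hbf, hcf, hb0', hc0', hbc', heq'⟩ := E.pair hf fA fD₁ fD₂ hrf fB fC
      have hcompl : X.hat f E.B₁ = 1 - X.hat θ E.B₁ ∧ X.hat f E.B₂ = 1 - X.hat θ E.B₂ ∧
          X.hat f E.C₁ = 1 - X.hat θ E.C₁ ∧ X.hat f E.C₂ = 1 - X.hat θ E.C₂ := by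
        rcases tB with ⟨b1, b2⟩ | ⟨b1, b2⟩ <;> rcases tC with ⟨c1, c2⟩ | ⟨c1, c2⟩ <;>
          rcases fB with ⟨b1', b2'⟩ | ⟨b1', b2'⟩ <;> rcases fC with ⟨c1', c2'⟩ | ⟨c1', c2'⟩ <;>
          simp only [b1, b2, c1, c2, b1', b2', c1', c2'] at hi ⊢ <;> omega
      obtain ⟨q1, q2, q3, q4⟩ := hcompl
      rw [q1, q2] at hbf
      rw [q3, q4] at hcf
      push_cast at hbf hcf
      have hB' : (X.x E.B₁ : ℚ) + X.x E.B₂ + X.x E.D₁ + X.x E.D₂ = 0 := by exact_mod_cast hB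
      have hC' : (X.x E.C₁ : ℚ) + X.x E.C₂ + X.x E.D₁ + X.x E.D₂ = 0 := by exact_mod_cast hC
      obtain rfl : bf = cf := by linear_combination hbf - hcf + hbt - hct + hB' - hC' - hbeq
      apply hρ
      rw [← heq']
      field_simp
      ring
    rcases read hg with ⟨hrg, gA, gB₁, gB₂, gC₁, gC₂, gD⟩ | ⟨hrg, gA, gD₁, gD₂, gB, gC⟩
    · rcases read hg' with ⟨hrg', gA', gB₁', gB₂', gC₁', gC₂', gD'⟩ | ⟨hrg', gA', gD₁', gD₂', gB', gC'⟩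
      · have hi := E.inner g g'
        obtain ⟨-, gv, -⟩ := E.values hg
        obtain ⟨-, gv', -⟩ := E.values hg'
        rw [o2, hg.val_o] at hi
        simp only [gA, gB₁, gB₂, gC₁, gC₂, gA', gB₁', gB₂', gC₁', gC₂'] at hi gv gv'
        rcases gD with ⟨p, q⟩ | ⟨p, q⟩ <;> rcases gD' with ⟨p', q'⟩ | ⟨p', q'⟩ <;>
          simp only [p, q, p', q'] at hi gv gv' <;>
          rcases inner_one hrg hrg' with e | ⟨e | e, hy⟩ <;> first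
          | omega
          | (have := hy X.T; rw [e] at this; omega)
      · exact main hg' o1' gA' gD₁' gD₂' gB' gC' hrg'
    · exact main hg o1 gA gD₁ gD₂ gB gC hrg

/-- The shape `U + U' + W` or `R + Y + W`. -/
theorem Seven.lam (E : X.Seven) {f : ι → ℤ} (hQ : X.Q - 1 ≠ 0) (h : Coef X 3 0 1 ρ f) :
    (∑ i ∈ E.out, f i * f i = 1 ∧ X.hat f E.U = 1 ∧ X.hat f E.U' = 1 ∧ X.hat f E.P₁ = 0 ∧ X.hat f E.P₂ = 0 ∧
      X.hat f E.R = 0 ∧ X.hat f E.D = 0 ∧ ∑ i ∈ E.out, f i * X.T i = -2 * X.m) ∨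
    (∑ i ∈ E.out, f i * f i = 2 ∧ X.hat f E.U = 0 ∧ X.hat f E.U' = 0 ∧ X.hat f E.P₁ = 0 ∧ X.hat f E.P₂ = 0 ∧
      X.hat f E.R = 1 ∧ X.hat f E.D = 0 ∧ ∑ i ∈ E.out, f i * X.T i = -2 * X.m) := by
  obtain ⟨r1, r2, r3, r4⟩ := E.read h
  obtain ⟨-, hv, -⟩ := E.values h
  rcases seven_lam (P₁ := X.hat f E.P₁) (out_nonneg (S := E.out) (f := f)) (by linarith) r2 r3 (by linarith) with
    ⟨hr, u, u', p, p', r, d⟩ | ⟨hr, u, u', p, p', r, d⟩ | ⟨hr, r, d, u, p⟩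
  · refine Or.inl ⟨hr, u, u', p, p', r, d, ?_⟩
    rw [u, u', p, p', r, d] at hv; linarith
  · refine Or.inr ⟨hr, u, u', p, p', r, d, ?_⟩
    rw [u, u', p, p', r, d] at hv; linarith
  · exfalso
    have h0 : ∑ i ∈ E.out, f i * X.T i = 0 := by simpa using out_sum_zero (R := ℤ) hr X.T
    rw [h0, r, d, u, p] at hv
    have := X.hm
    omega

/-- The fused case on seven rows. -/
theorem Seven.fused_false (E : X.Seven) (hQ : 11 ≤ |X.Q|) (h : Coef X 3 0 1 0 θ)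
    (h0 : Coef X 3 1 (-1) (X.K * ((X.Q : ℚ) + 1) / 3) f₀)
    (hg : Coef X 3 0 1 ρ g) (hg' : Coef X 3 0 1 ρ g') (hρ : ρ ≠ 0)
    (o1 : ∑ i, θ i * g i = 0) (o1' : ∑ i, θ i * g' i = 0) (o2 : ∑ i, g i * g' i = 0) : False := by
  have hQ1 : X.Q - 1 ≠ 0 := by rcases abs_cases X.Q with ⟨e, _⟩ | ⟨e, _⟩ <;> omega
  have hm := X.hm
  have hm0 : (X.m : ℚ) ≠ 0 := Int.cast_ne_zero.2 (by omega)
  obtain ⟨hs, hsU, hsU'⟩ := E.deg
  rcases E.lam hQ1 h with ⟨hr, tU, tU', tP₁, tP₂, tR, tD, eT⟩ | ⟨hr, tU, tU', tP₁, tP₂, tR, tD, eT⟩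
  · -- equal `U`, `U'`
    obtain ⟨hd, -, he⟩ := E.values h
    obtain ⟨hW, hR⟩ := rest_one hr (T := X.T) X.d_pos
    simp only [tU, tU', tP₁, tP₂, tR, tD, hR, eT] at hd he
    have eW : ∑ i ∈ E.out, θ i * X.d i = -(X.x E.U + X.x E.U') := by linarith
    rw [eW] at he hW
    have nU := (Int.cast_ne_zero (α := ℚ)).2 E.rU.x_ne
    have nU' := (Int.cast_ne_zero (α := ℚ)).2 E.rU'.x_ne
    have nW : (X.x E.U : ℚ) + X.x E.U' ≠ 0 := by
      intro e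
      apply hW
      rw [neg_eq_zero]
      exact_mod_cast e
    have hUU : (X.x E.U : ℚ) = X.x E.U' := Arith.eq_of_pair hm0 nU nU' nW (by
      rw [m_cast]; push_cast at he; rw [m_cast, div_neg] at he
      simp only [zero_div, zero_add, add_zero, mul_zero] at he
      linear_combination he)
    have hUU' : X.x E.U = X.x E.U' := by exact_mod_cast hUU
    obtain ⟨r1, r2, r3, r4⟩ := E.read h0
    obtain ⟨hd0, hv0, he0⟩ := E.values h0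
    rcases seven_rho (P₁ := X.hat f₀ E.P₁) (out_nonneg (S := E.out) (f := f₀)) (by linarith) r2 r3 (by linarith) with
      ⟨hr0, fU, fU', fP₁, fP₂, fR, fD⟩ | ⟨hr0, fD, fR, fUU, fPP⟩
    · obtain ⟨hW0, hR0⟩ := rest_one hr0 (T := X.T) X.d_pos
      simp only [fU, fU', fP₁, fP₂, fR, fD, hR0] at hd0 hv0 he0
      have eT0 : ∑ i ∈ E.out, f₀ i * X.T i = X.Q - 1 := by linarith
      have eW0 : ∑ i ∈ E.out, f₀ i * X.d i = X.x E.D - 1 := by linarith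
      rw [eT0, eW0] at he0
      rw [eW0] at hW0
      obtain ⟨hA, -, -⟩ := E.eqs
      have hP : X.x E.P₁ = X.x E.P₂ := by linarith
      have nP := (Int.cast_ne_zero (α := ℚ)).2 E.rP₁.x_ne
      have nD := (Int.cast_ne_zero (α := ℚ)).2 E.rD.x_ne
      have hD : (X.x E.D : ℚ) = -1 - 2 * (X.x E.P₁ : ℚ) := by
        have : X.x E.D = -1 - 2 * X.x E.P₁ := by linarith
        exact_mod_cast this
      have nD1 : (X.x E.D : ℚ) - 1 ≠ 0 := by exact_mod_cast hW0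
      push_cast at he0
      simp only [zero_div, zero_add, add_zero, mul_zero] at he0
      have key := Arith.fused (Q := (X.Q : ℚ)) (E := 2 * (X.x E.P₁ : ℚ)) (D := X.x E.D) X.hK hD
        (mul_ne_zero two_ne_zero nP) nD nD1 (by rw [← hA, ← hP]; field_simp; ring) (by rw [← he0]; ring)
      exact Arith.fused_seven hQ (P := X.x E.P₁) (by exact_mod_cast key)
    · have hz : ∑ i ∈ E.out, f₀ i * X.T i = 0 := by simpa using out_sum_zero (R := ℤ) hr0 X.T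
      rw [hz, fD, fR, fUU, fPP] at hv0
      omega
  · -- `R + Y + W`
    have main : ∀ {f : ι → ℤ}, Coef X 3 0 1 ρ f → ∑ i, θ i * f i = 0 →
        ∑ i ∈ E.out, f i * f i = 2 → X.hat f E.U = 0 → X.hat f E.U' = 0 → X.hat f E.P₁ = 0 →
        X.hat f E.P₂ = 0 → X.hat f E.R = 1 → X.hat f E.D = 0 → False := by
      intro f hf ho hrf fU fU' fP₁ fP₂ fR fD
      obtain ⟨hd, hv, he⟩ := E.values h
      obtain ⟨fd, fv, fe⟩ := E.values hf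
      have hi := E.inner θ f
      rw [ho, h.val_o, tU, tU', tP₁, tP₂, tR, tD, fU, fU', fP₁, fP₂, fR, fD] at hi
      have hrf' : ∑ i ∈ E.out, -f i * -f i = 2 := by simpa using hrf
      obtain ⟨y, w, w', hy, hw, hw', hyw, hyw', hww, hy1, hgy, hw1, hw1', hz, hz'⟩ :=
        inner_two (g := fun i => -f i) hr hrf' (by
          simp only [mul_neg, Finset.sum_neg_distrib]; linarith)
      try simp only at hgy hw1' hz'
      have hfy : f y * f y = 1 := by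
        have : f y = -θ y := by linarith
        rw [this, neg_mul_neg]; exact hy1
      obtain ⟨nY, nW, e1, e2, e3⟩ := rest_two (T := X.T) hy hw hyw hy1 hw1 hz X.d_pos
      obtain ⟨-, nW', e1', e2', e3'⟩ := rest_two (T := X.T) hy hw' hyw' hfy (by simpa using hw1')
        (fun i hi a b => neg_eq_zero.1 (hz' i hi a b)) X.d_pos
      have hfyθ : f y = -θ y := by linarith
      rw [hfyθ] at e1' e2' e3'
      simp only [tU, tU', tP₁, tP₂, tR, tD, e1, e2, e3] at hd hv he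
      simp only [fU, fU', fP₁, fP₂, fR, fD, e1', e2', e3'] at fd fv fe
      obtain ⟨Y, hY⟩ : ∃ Y, θ y * X.d y = Y := ⟨_, rfl⟩
      obtain ⟨τ, hτ⟩ : ∃ τ, θ y * X.T y = τ := ⟨_, rfl⟩
      simp only [neg_mul, hY, hτ] at hd hv he fd fv fe nY
      have eW : θ w * X.d w = -(X.x E.R + Y) := by linarith
      have eW' : f w' * X.d w' = -(X.x E.R - Y) := by linarith
      have eTW : θ w * X.T w = -(2 * X.m + τ) := by linarith
      have eTW' : f w' * X.T w' = -(2 * X.m - τ) := by linarith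
      rw [eW] at nW he
      rw [eW'] at nW' fe
      rw [eTW] at he
      rw [eTW'] at fe
      have nR := (Int.cast_ne_zero (α := ℚ)).2 E.rR.x_ne
      have nY' : (Y : ℚ) ≠ 0 := Int.cast_ne_zero.2 nY
      have nRY : (X.x E.R : ℚ) + Y ≠ 0 := by
        intro e; apply nW; rw [neg_eq_zero]; exact_mod_cast e
      push_cast at he fe
      rw [show ((X.Q : ℚ) - 1) = 2 * (X.m : ℚ) by rw [m_cast]; ring] at he fe
      simp only [zero_div, zero_add, add_zero, mul_zero, div_neg, neg_sq] at he fe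
      have key := Arith.eq_of_triple (m := (X.m : ℚ)) (τ := (τ : ℚ)) nR nY' nRY (by linear_combination he)
      have k2 := Arith.triple_neg (m := (X.m : ℚ)) (τ := (τ : ℚ)) nR key
      apply hρ
      linear_combination -fe - k2
    rcases E.lam hQ1 hg with ⟨hrg, u, u', p, p', r, d, gT⟩ | ⟨hrg, u, u', p, p', r, d, gT⟩
    · rcases E.lam hQ1 hg' with ⟨hrg', v, v', s, s', r', d', gT'⟩ | ⟨hrg', v, v', s, s', r', d', gT'⟩
      · have hi := E.inner g g'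
        rw [o2, hg.val_o, u, u', p, p', r, d, v, v', s, s', r', d'] at hi
        have hle := inner_one_le (g := g') hrg (N := 1) (by simpa using hrg') (by norm_num)
        rw [abs_le] at hle
        omega
      · exact main hg' o1' hrg' v v' s s' r' d'
    · exact main hg o1 hrg u u' p p' r d

/-- No fused case. -/
theorem fused_false (hQ : 11 ≤ |X.Q|) (h : Coef X 3 0 1 0 θ)
    (h0 : Coef X 3 1 (-1) (X.K * ((X.Q : ℚ) + 1) / 3) f₀)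
    (hg : Coef X 3 0 (-1) (X.K * ((X.Q : ℚ) + 1) / 3) g)
    (hg' : Coef X 3 0 (-1) (X.K * ((X.Q : ℚ) + 1) / 3) g')
    (o0 : ∑ i, θ i * f₀ i = 0) (o1 : ∑ i, θ i * g i = 0) (o1' : ∑ i, θ i * g' i = 0)
    (o2 : ∑ i, g i * g' i = 0) : False := by
  have hρ : -(X.K * ((X.Q : ℚ) + 1) / 3) ≠ 0 := by
    have : X.Q + 1 ≠ 0 := by rcases abs_cases X.Q with ⟨e, _⟩ | ⟨e, _⟩ <;> omega
    have : (X.Q : ℚ) + 1 ≠ 0 := by exact_mod_cast this
    exact neg_ne_zero.2 (div_ne_zero (mul_ne_zero X.hK this) (by norm_num))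
  have n1 := hg.neg
  have n2 := hg'.neg
  simp only [neg_zero, neg_neg] at n1 n2
  have q1 : ∑ i, θ i * -g i = 0 := by simpa using o1
  have q1' : ∑ i, θ i * -g' i = 0 := by simpa using o1'
  have q2 : ∑ i, -g i * -g' i = 0 := by simpa using o2
  rcases X.rows with ⟨⟨E⟩⟩ | ⟨⟨E⟩⟩
  · exact E.fused_false hQ h h0 n1 n2 hρ o0 q1 q1' q2
  · exact E.fused_false hQ h h0 n1 n2 hρ q1 q1' q2

end Tab

end Cfsg.Agent.Lib.JankoThompson
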