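/-
The table of a simple group with an involution centraliser `2 × PSL₂(q)`: seven rows, trivial fused part.
-/
import Cfsg.Agent.Lib.JankoThompson.Fused
import Cfsg.Agent.Lib.JankoThompson.Arith.Quintic

set_option autoImplicit false
set_option linter.unusedSectionVars false

namespace Cfsg.Agent.Lib.JankoThompson

open Finset

variable {ι : Type*} [Fintype ι]

/-- An integer prime to `m`. -/
theorem coprime_Z {X : Tab ι} (h8 : X.Q % 8 = 3) : IsCoprime (X.Q + 1) X.m := by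
  have := X.hm
  obtain ⟨k, hk⟩ : ∃ k, X.Q = 8 * k + 3 := ⟨X.Q / 8, by omega⟩
  have hm' : X.m = 4 * k + 1 := by omega
  rw [hk, hm']
  exact ⟨-(2 * k), 4 * k + 1, by ring⟩

namespace Tab

open scoped Classical

variable {X : Tab ι}

/-- The two admissible shapes of the norm-seven function. -/
theorem Seven.one (E : X.Seven) {f : ι → ℤ} {ρ : ℚ} (hQ : X.Q - 1 ≠ 0) (h : Coef X 7 1 (-3) ρ f) :
    (∑ i ∈ E.out, f i * f i = 1 ∧ X.hat f E.U = 0 ∧ X.hat f E.U' = 0 ∧ X.hat f E.P₁ = 0 ∧ X.hat f E.P₂ = 0 ∧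
      X.hat f E.R = -2 ∧ X.hat f E.D = -1 ∧ ∑ i ∈ E.out, f i * X.T i = 6 * X.m) ∨
    (∑ i ∈ E.out, f i * f i = 2 ∧ X.hat f E.U = -1 ∧ X.hat f E.U' = -1 ∧ X.hat f E.P₁ = 0 ∧ X.hat f E.P₂ = 0 ∧
      X.hat f E.R = -1 ∧ X.hat f E.D = -1 ∧ ∑ i ∈ E.out, f i * X.T i = 6 * X.m) := by
  obtain ⟨r1, r2, r3, r4⟩ := E.read h
  obtain ⟨-, hv, -⟩ := E.values h
  have hm := X.hm
  rcases seven_one (P₁ := X.hat f E.P₁) (out_nonneg (S := E.out) (f := f)) (by linarith) r2 r3 (by linarith) with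
    ⟨hr, u, u', p, p', r, d⟩ | ⟨hr, u, u', p, p', r, d⟩ | ⟨hr, r, d, u, p⟩
  · refine Or.inl ⟨hr, u, u', p, p', r, d, ?_⟩
    rw [u, u', p, p', r, d] at hv; linarith
  · refine Or.inr ⟨hr, u, u', p, p', r, d, ?_⟩
    rw [u, u', p, p', r, d] at hv; linarith
  · exfalso
    have h0 : ∑ i ∈ E.out, f i * X.T i = 0 := by simpa using out_sum_zero (R := ℤ) hr X.T
    rw [h0, r, d, u, p] at hv
    omega

variable {f f₁ : ι → ℤ}

/-- The first configuration does not occur. -/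
theorem Seven.free_A (E : X.Seven) (hQ : 28 ≤ |X.Q + 1|) (h : Coef X 3 0 1 0 f)
    (h1 : Coef X 7 1 (-3) (X.K * ((X.Q : ℚ) + 1)) f₁)
    (hf : ∑ i ∈ E.out, f i * f i = 1 ∧ X.hat f E.U = 1 ∧ X.hat f E.U' = 1 ∧ X.hat f E.P₁ = 0 ∧
      X.hat f E.P₂ = 0 ∧ X.hat f E.R = 0 ∧ X.hat f E.D = 0 ∧ ∑ i ∈ E.out, f i * X.T i = -2 * X.m)
    (hf₁ : ∑ i ∈ E.out, f₁ i * f₁ i = 1 ∧ X.hat f₁ E.U = 0 ∧ X.hat f₁ E.U' = 0 ∧ X.hat f₁ E.P₁ = 0 ∧
      X.hat f₁ E.P₂ = 0 ∧ X.hat f₁ E.R = -2 ∧ X.hat f₁ E.D = -1 ∧ ∑ i ∈ E.out, f₁ i * X.T i = 6 * X.m) :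
    False := by
  obtain ⟨hr, tU, tU', tP₁, tP₂, tR, tD, eT⟩ := hf
  obtain ⟨hr1, sU, sU', sP₁, sP₂, sR, sD, eT1⟩ := hf₁
  have hm := X.hm
  obtain ⟨hs, hsU, hsU'⟩ := E.deg
  obtain ⟨hd, -, he⟩ := E.values h
  obtain ⟨hd1, -, he1⟩ := E.values h1
  obtain ⟨hW, hR⟩ := rest_one hr (T := X.T) X.d_pos
  obtain ⟨hW1, hR1⟩ := rest_one hr1 (T := X.T) X.d_pos
  simp only [tU, tU', tP₁, tP₂, tR, tD, hR, eT] at hd he
  simp only [sU, sU', sP₁, sP₂, sR, sD, hR1, eT1] at hd1 he1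
  have eW : ∑ i ∈ E.out, f i * X.d i = -(X.x E.U + X.x E.U') := by linarith
  rw [eW] at he hW
  have nU := (Int.cast_ne_zero (α := ℚ)).2 E.rU.x_ne
  have nU' := (Int.cast_ne_zero (α := ℚ)).2 E.rU'.x_ne
  have hm0 : (X.m : ℚ) ≠ 0 := Int.cast_ne_zero.2 (by rcases abs_cases (X.Q + 1) with ⟨e, _⟩ | ⟨e, _⟩ <;> omega)
  have nW : (X.x E.U : ℚ) + X.x E.U' ≠ 0 := by
    intro e; apply hW; rw [neg_eq_zero]; exact_mod_cast e
  have hUU : (X.x E.U : ℚ) = X.x E.U' := Arith.eq_of_pair hm0 nU nU' nW (by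
    push_cast at he
    simp only [zero_div, zero_add, add_zero, mul_zero, div_neg] at he
    rw [show ((X.Q : ℚ) - 1) = 2 * (X.m : ℚ) by rw [m_cast]; ring] at he
    linear_combination he)
  have hUU' : X.x E.U = X.x E.U' := by exact_mod_cast hUU
  have hP : X.x E.P₁ = X.x E.P₂ := by linarith
  have eW1 : ∑ i ∈ E.out, f₁ i * X.d i = -2 * X.x E.U := by linarith
  rw [eW1] at he1
  obtain ⟨hA, hB, -⟩ := E.eqs
  set h' : ℚ := ((X.Q : ℚ) + 1) / 2 with hh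
  have hQ28 : (28 : ℚ) ≤ |(X.Q : ℚ) + 1| := by exact_mod_cast hQ
  have hh14 : 14 ≤ |h'| := by rw [hh, abs_div, abs_two]; linarith
  have nh : h' ≠ 0 := fun e => by rw [e, abs_zero] at hh14; linarith
  have nP := (Int.cast_ne_zero (α := ℚ)).2 E.rP₁.x_ne
  have nR := (Int.cast_ne_zero (α := ℚ)).2 E.rR.x_ne
  obtain ⟨a, ha⟩ : ∃ a : ℚ, a = (X.x E.P₁ : ℚ) / h' := ⟨_, rfl⟩
  have haP : (X.x E.P₁ : ℚ) = h' * a := by rw [ha]; field_simp
  have ha0 : a ≠ 0 := ha ▸ div_ne_zero nP nh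
  have hQ0 : (X.Q : ℚ) + 1 ≠ 0 := fun e => by rw [e, abs_zero] at hQ28; linarith
  have hQn : (X.Q : ℚ) ≠ 0 := fun e => by rw [e] at hQ28; norm_num at hQ28
  have hD : (X.x E.D : ℚ) = -1 - 2 * (X.x E.P₁ : ℚ) := by
    have : X.x E.D = -1 - 2 * X.x E.P₁ := by linarith
    exact_mod_cast this
  have hR' : (X.x E.R : ℚ) = 1 + (X.x E.P₁ : ℚ) - X.x E.U := by
    have : X.x E.R = 1 + X.x E.P₁ - X.x E.U := by linarith
    exact_mod_cast this
  have nD := (Int.cast_ne_zero (α := ℚ)).2 E.rD.x_ne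
  rw [← hP] at hA
  push_cast at he1
  simp only [zero_div, zero_add, add_zero, mul_zero] at he1
  rw [show ((X.Q : ℚ) - 1) = 2 * (X.m : ℚ) by rw [m_cast]; ring] at hA hB he1
  obtain ⟨g, hg⟩ : ∃ g : ℚ, g = ((X.Q : ℚ) + 1) * (2 * X.m) / (X.K * X.Q) := ⟨_, rfl⟩
  have hg0 : g ≠ 0 := hg ▸ div_ne_zero (mul_ne_zero hQ0 (mul_ne_zero two_ne_zero hm0)) (mul_ne_zero X.hK hQn)
  have hU : (X.x E.U : ℚ) = -X.m * g := by
    have k : -16 * (X.m : ℚ) ^ 2 / X.x E.U = 8 * X.K * X.Q / ((X.Q : ℚ) + 1) := by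
      have : X.K * (3 * (X.Q : ℚ) - 1) / ((X.Q : ℚ) + 1) * 2 + X.K * ((X.Q : ℚ) + 1) - X.K * ((X.Q : ℚ) - 1) =
          8 * X.K * X.Q / ((X.Q : ℚ) + 1) := by field_simp; ring
      rw [← this, show (X.Q : ℚ) - 1 = 2 * X.m by rw [m_cast]; ring]
      linear_combination he1 + 2 * hB - hA
    rw [div_eq_div_iff nU hQ0] at k
    rw [hg, ← mul_div_assoc, eq_div_iff (mul_ne_zero X.hK hQn)]
    linear_combination (-1 / 8 : ℚ) * k
  have hKg : X.K = ((X.Q : ℚ) + 1) * (2 * X.m) / (g * X.Q) := by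
    rw [hg]; have := X.hK; field_simp
  have hQh : (X.Q : ℚ) = 2 * h' - 1 := by rw [hh]; ring
  have hmh : (X.m : ℚ) = h' - 1 := by rw [m_cast, hh]; ring
  have e2Q : 2 * h' - 1 ≠ 0 := by rw [← hQh]; exact hQn
  have ha1 : 1 ≤ |a| := by
    have hle := X.T_le E.P₁
    have hτ := E.rP₁.τ_eq (by norm_num)
    have hs1 : |X.sgn E.P₁| = 1 := by
      rcases mul_self_eq_one_iff.1 E.rP₁.sq with e | e <;> rw [e] <;> norm_num
    have : |1 + X.m| ≤ |X.x E.P₁| := by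
      rw [E.rP₁.abs_x]
      rw [show (1 : ℤ) + X.m * (1 + 0) = 1 + X.m by ring] at hτ
      rw [← hτ, τ, abs_mul, hs1, one_mul]
      exact hle
    have : |h'| ≤ |(X.x E.P₁ : ℚ)| := by
      rw [show h' = ((1 + X.m : ℤ) : ℚ) by push_cast; rw [hmh]; ring]
      exact_mod_cast this
    rw [ha, abs_div, le_div_iff₀ (abs_pos.2 nh), one_mul]
    exact this
  have nd : -1 - 2 * (h' * a) ≠ 0 := by rw [← haP, ← hD]; exact nD
  have nr : 1 + h' * a + (X.m : ℚ) * g ≠ 0 := by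
    have : (X.x E.R : ℚ) = 1 + h' * a + (X.m : ℚ) * g := by rw [hR', haP, hU]; ring
    rw [← this]; exact nR
  refine Arith.Quintic.no_config (h := h') (m := X.m) (g := g) hmh hh14 ha1 ?_ ?_
  · have hl : 1 + h' ^ 2 * (1 / (h' * a) + 1 / (h' * a)) + (2 * h' - 1) ^ 2 / (-1 - 2 * (h' * a)) =
        2 * h' * (a + 1) ^ 2 / (a * (2 * h' * a + 1)) := by
      have n1 : 2 * h' * a + 1 ≠ 0 := fun e => nd (by linear_combination -e)
      rw [eq_div_iff (mul_ne_zero ha0 n1), show -1 - 2 * (h' * a) = -(2 * h' * a + 1) by ring, div_neg]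
      have e1 : (2 * h' - 1) ^ 2 / (2 * h' * a + 1) * (2 * h' * a + 1) = (2 * h' - 1) ^ 2 := div_mul_cancel₀ _ n1
      have e3 : 1 / (h' * a) * (h' * a) = 1 := div_mul_cancel₀ _ (mul_ne_zero nh ha0)
      linear_combination (2 * h' * (2 * h' * a + 1)) * e3 - a * e1
    rw [hD, haP, hQh, hl, hKg, hQh, div_mul_eq_mul_div, div_eq_div_iff
      (mul_ne_zero ha0 (fun (e : 2 * h' * a + 1 = 0) => nd (by linear_combination -e))) (mul_ne_zero hg0 e2Q)] at hA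
    apply mul_left_cancel₀ (mul_ne_zero two_ne_zero nh)
    linear_combination hA
  · have e : 1 + h' / a + (X.m : ℚ) / g - (2 * (X.m : ℚ)) ^ 2 / (1 + h' * a + X.m * g) =
        2 * X.m * ((X.Q : ℚ) - 3) / g := by
      have r : X.K * (2 * (X.m : ℚ)) - X.K * (3 * (X.Q : ℚ) - 1) / ((X.Q : ℚ) + 1) =
          2 * X.m * ((X.Q : ℚ) - 3) / g := by
        rw [hKg, m_cast]; field_simp; ring
      have er : (X.x E.R : ℚ) = 1 + h' * a + X.m * g := by rw [hR', haP, hU]; ring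
      rw [← r, ← hA, ← hB, er, haP, hU]
      field_simp
      ring
    rw [hQh] at e
    field_simp at e
    linear_combination e

variable {μ : Type*} {cl c1 : μ → ι → ℤ}

/-- The shape `R + Y + W` with its partner, for one index. -/
structure Seven.ShapeB (E : X.Seven) (f f₁ : ι → ℤ) : Prop where
  r : ∑ i ∈ E.out, f i * f i = 2
  r1 : ∑ i ∈ E.out, f₁ i * f₁ i = 2
  U : X.hat f E.U = 0
  U' : X.hat f E.U' = 0
  P₁ : X.hat f E.P₁ = 0
  P₂ : X.hat f E.P₂ = 0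
  R : X.hat f E.R = 1
  D : X.hat f E.D = 0
  U1 : X.hat f₁ E.U = -1
  U1' : X.hat f₁ E.U' = -1
  P1₁ : X.hat f₁ E.P₁ = 0
  P1₂ : X.hat f₁ E.P₂ = 0
  R1 : X.hat f₁ E.R = -1
  D1 : X.hat f₁ E.D = -1
  T : ∑ i ∈ E.out, f i * X.T i = -2 * X.m
  T1 : ∑ i ∈ E.out, f₁ i * X.T i = 6 * X.m

theorem Seven.shape (E : X.Seven) (hQ : 28 ≤ |X.Q + 1|) (h : Coef X 3 0 1 0 f)
    (h1 : Coef X 7 1 (-3) (X.K * ((X.Q : ℚ) + 1)) f₁) (ho : ∑ i, f i * f₁ i = 0) : E.ShapeB f f₁ := by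
  have hQ1 : X.Q - 1 ≠ 0 := by rcases abs_cases (X.Q + 1) with ⟨e, _⟩ | ⟨e, _⟩ <;> omega
  have hi := E.inner f f₁
  rw [ho, h.val_o] at hi
  rcases E.lam hQ1 h with hs | ⟨hr, u, u', p, p', r, d, t⟩ <;>
    rcases E.one hQ1 h1 with hs1 | ⟨hr1, v, v', s, s', r', d', t1⟩
  · exact (E.free_A hQ h h1 hs hs1).elim
  · obtain ⟨hr, u, u', p, p', r, d, -⟩ := hs
    have hle := inner_one_le (g := f₁) hr (N := 2) (by simpa using hr1) (by norm_num)
    rw [u, u', p, p', r, d, v, v', s, s', r', d'] at hi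
    rw [abs_le] at hle
    omega
  · obtain ⟨hr1, v, v', s, s', r', d', -⟩ := hs1
    have hle := inner_one_le (g := f) hr1 (N := 2) (by simpa using hr) (by norm_num)
    rw [show ∑ i ∈ E.out, f₁ i * f i = ∑ i ∈ E.out, f i * f₁ i from Finset.sum_congr rfl fun i _ => mul_comm _ _,
      abs_le] at hle
    rw [u, u', p, p', r, d, v, v', s, s', r', d'] at hi
    omega
  · exact ⟨hr, hr1, u, u', p, p', r, d, v, v', s, s', r', d', t, t1⟩

/-- The second configuration with all indices: no solution. -/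
theorem Seven.free_false [Nonempty μ] (E : X.Seven) (h8 : X.Q % 8 = 3) (hQ : 28 ≤ |X.Q + 1|)
    (h : ∀ u, Coef X 3 0 1 0 (cl u)) (h1 : ∀ u, Coef X 7 1 (-3) (X.K * ((X.Q : ℚ) + 1)) (c1 u))
    (ho : ∀ u v, ∑ i, cl u i * c1 v i = 0)
    (hsame : ∀ u v, (∀ i, cl u i = cl v i) → ∀ i, c1 u i = c1 v i)
    (hdiff : ∀ u v, ¬(∀ i, cl u i = cl v i) → ∑ i, cl u i * cl v i = 2)
    (hcong : ∀ (i : ι) (α β : ℤ), (∀ u, cl u i = α ∧ c1 u i = β) →
      X.Q + 1 ∣ X.d i + 3 * X.T i - 4 * β ∧ X.Q + 1 ∣ 4 * (X.d i - β - 3 * α) ∧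
        X.Q + 1 ∣ 4 * (X.T i - β + α)) : False := by
  have hQ1 : X.Q - 1 ≠ 0 := by rcases abs_cases (X.Q + 1) with ⟨e, _⟩ | ⟨e, _⟩ <;> omega
  have hm := X.hm
  have hsh : ∀ u, E.ShapeB (cl u) (c1 u) := fun u => E.shape hQ (h u) (h1 u) (ho u u)
  have hcross : ∀ u v, ∑ i ∈ E.out, cl u i * c1 v i = 1 := by
    intro u v
    have hi := E.inner (cl u) (c1 v)
    rw [ho, (h u).val_o, (hsh u).U, (hsh u).U', (hsh u).P₁, (hsh u).P₂, (hsh u).R, (hsh u).D, (hsh v).U1,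
      (hsh v).U1', (hsh v).P1₁, (hsh v).P1₂, (hsh v).R1, (hsh v).D1] at hi
    linarith
  -- the common constituent
  choose y w w' hy hw hw' hyw hyw' hww hy1 hgy hw1 hw1' hz hz' using
    fun u => inner_two (hsh u).r (hsh u).r1 (hcross u u)
  have he : ∀ u, (cl u (y u) * X.T (y u) : ℤ) * X.x E.R = 2 * X.m * (cl u (y u) * X.d (y u)) := by
    intro u
    obtain ⟨hd, -, he⟩ := E.values (h u)
    obtain ⟨nY, nW, e1, e2, e3⟩ := rest_two (T := X.T) (hy u) (hw u) (hyw u) (hy1 u) (hw1 u) (hz u) X.d_pos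
    have eT := (hsh u).T
    rw [e2] at eT
    simp only [(hsh u).U, (hsh u).U', (hsh u).P₁, (hsh u).P₂, (hsh u).R, (hsh u).D, e1, e3] at hd he
    generalize cl u (y u) * X.d (y u) = Y at nY hd he ⊢
    generalize cl u (y u) * X.T (y u) = τ at eT he ⊢
    rw [show cl u (w u) * X.d (w u) = -(X.x E.R + Y) by linarith] at nW he
    rw [show cl u (w u) * X.T (w u) = -(2 * X.m + τ) by linarith] at he
    push_cast at he
    rw [show ((X.Q : ℚ) - 1) = 2 * (X.m : ℚ) by rw [m_cast]; ring] at he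
    simp only [zero_div, zero_add, add_zero, mul_zero, div_neg, neg_sq] at he
    have nRY : (X.x E.R : ℚ) + Y ≠ 0 := by
      intro e; apply nW; rw [neg_eq_zero]; exact_mod_cast e
    have key := Arith.eq_of_triple (m := (X.m : ℚ)) (τ := (τ : ℚ)) (Int.cast_ne_zero.2 E.rR.x_ne)
      (Int.cast_ne_zero.2 nY) nRY (by linear_combination he)
    exact_mod_cast key
  -- all indices share it
  obtain ⟨u⟩ := ‹Nonempty μ›
  have hout : ∀ {a b}, ¬(∀ i, cl a i = cl b i) → ∑ i ∈ E.out, cl a i * cl b i = 1 := by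
    intro a b hab
    have hi := E.inner (cl a) (cl b)
    rw [hdiff a b hab, (h a).val_o, (hsh a).U, (hsh a).U', (hsh a).P₁, (hsh a).P₂, (hsh a).R, (hsh a).D,
      (hsh b).U, (hsh b).U', (hsh b).P₁, (hsh b).P₂, (hsh b).R, (hsh b).D] at hi
    linarith
  have hey : ∀ {a b}, ¬(∀ i, cl a i = cl b i) → cl b (y a) = cl a (y a) := by
    intro a b hab
    by_contra hne
    have e := hout hab
    have e' := hcross b a
    have s1 := sum_of_two (R := ℤ) (hy a) (hw a) (hyw a) (hz a) (cl b)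
    have s2 := sum_of_two (R := ℤ) (hy a) (hw' a) (hyw' a) (hz' a) (cl b)
    simp only [Int.cast_id] at s1 s2
    rw [e] at s1
    rw [show ∑ i ∈ E.out, c1 a i * cl b i = 1 from
      (Finset.sum_congr rfl fun i _ => mul_comm _ _).trans e', hgy a] at s2
    obtain ⟨k, hk, l, hl, hkl, hk1, hl1, hzb⟩ := out_two (hsh b).r
    have small : ∀ i ∈ E.out, cl b i = 0 ∨ cl b i = 1 ∨ cl b i = -1 := fun i hi => by
      rcases eq_or_ne i k with rfl | a1
      · exact Or.inr (mul_self_eq_one_iff.1 hk1)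
      rcases eq_or_ne i l with rfl | a2
      · exact Or.inr (mul_self_eq_one_iff.1 hl1)
      exact Or.inl (hzb i hi a1 a2)
    -- the other two constituents carry `cl b`
    have key : ∀ p q r z z' z'' : ℤ, (p = 0 ∨ p = 1 ∨ p = -1) → (q = 0 ∨ q = 1 ∨ q = -1) →
        (r = 0 ∨ r = 1 ∨ r = -1) → (z = 1 ∨ z = -1) → (z' = 1 ∨ z' = -1) → (z'' = 1 ∨ z'' = -1) →
        1 = z * p + z' * q → 1 = z * p + z'' * r → p ≠ z → p = 0 ∧ q = z' ∧ r = z'' := by
      rintro p q r z z' z'' (rfl | rfl | rfl) (rfl | rfl | rfl) (rfl | rfl | rfl) (rfl | rfl) (rfl | rfl)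
        (rfl | rfl) <;> norm_num
    have hyz : cl b (y a) = 0 ∧ cl b (w a) = cl a (w a) ∧ cl b (w' a) = c1 a (w' a) :=
      key _ _ _ _ _ _ (small _ (hy a)) (small _ (hw a)) (small _ (hw' a)) (mul_self_eq_one_iff.1 (hy1 a))
        (mul_self_eq_one_iff.1 (hw1 a)) (mul_self_eq_one_iff.1 (hw1' a)) s1 s2 hne
    obtain ⟨p, q, r⟩ := hyz
    -- the degree and value of `cl b` on these two
    have hzb' : ∀ i ∈ E.out, i ≠ w a → i ≠ w' a → cl b i = 0 := by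
      intro i hi a1 a2
      by_contra hne'
      have := Finset.sum_le_sum_of_subset_of_nonneg (s := {i, w a, w' a}) (t := E.out)
        (f := fun j => cl b j * cl b j) (by
          intro j hj; simp only [Finset.mem_insert, Finset.mem_singleton] at hj
          rcases hj with rfl | rfl | rfl
          exacts [hi, hw a, hw' a]) (fun j _ _ => mul_self_nonneg _)
      rw [Finset.sum_insert (by simp [a1, a2]), Finset.sum_pair (hww a), (hsh b).r, q, r, hw1 a, hw1' a] at this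
      have : cl b i * cl b i = 0 := le_antisymm (by linarith) (mul_self_nonneg _)
      exact hne' (mul_self_eq_zero.1 this)
    have d1 := sum_of_two (R := ℤ) (hy a) (hw a) (hyw a) (hz a) X.d
    have d2 := sum_of_two (R := ℤ) (hy a) (hw' a) (hyw' a) (hz' a) X.d
    have d3 := sum_of_two (R := ℤ) (hw a) (hw' a) (hww a) hzb' X.d
    have t1 := sum_of_two (R := ℤ) (hy a) (hw a) (hyw a) (hz a) X.T
    have t2 := sum_of_two (R := ℤ) (hy a) (hw' a) (hyw' a) (hz' a) X.T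
    have t3 := sum_of_two (R := ℤ) (hw a) (hw' a) (hww a) hzb' X.T
    simp only [Int.cast_id] at d1 d2 d3 t1 t2 t3
    obtain ⟨g1, -, -⟩ := E.values (h a)
    obtain ⟨g2, -, -⟩ := E.values (h1 a)
    obtain ⟨g3, -, -⟩ := E.values (h b)
    rw [(hsh a).U, (hsh a).U', (hsh a).P₁, (hsh a).P₂, (hsh a).R, (hsh a).D, d1] at g1
    rw [(hsh a).U1, (hsh a).U1', (hsh a).P1₁, (hsh a).P1₂, (hsh a).R1, (hsh a).D1, d2, hgy a] at g2
    rw [(hsh b).U, (hsh b).U', (hsh b).P₁, (hsh b).P₂, (hsh b).R, (hsh b).D, d3, q, r] at g3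
    have hT := (hsh a).T
    have hT1 := (hsh a).T1
    have hT3 := (hsh b).T
    rw [t1] at hT
    rw [t2, hgy a] at hT1
    rw [t3, q, r] at hT3
    obtain ⟨hs, hsU, hsU'⟩ := E.deg
    have eY : X.x E.R = -2 * (cl a (y a) * X.d (y a)) := by linarith
    have eτ : cl a (y a) * X.T (y a) = 3 * X.m := by linarith
    have := he a
    rw [eY, eτ] at this
    have h4 : 8 * (X.m * (cl a (y a) * X.d (y a))) = 0 := by linarith
    rcases mul_eq_zero.1 (by linarith : X.m * (cl a (y a) * X.d (y a)) = 0) with e | e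
    · omega
    · rcases mul_eq_zero.1 e with e | e
      · have := hy1 a; rw [e] at this; norm_num at this
      · have := X.d_pos (y a); omega
  have hall : ∀ v, cl v (y u) = cl u (y u) ∧ c1 v (y u) = cl u (y u) := by
    intro v
    by_cases huv : ∀ i, cl u i = cl v i
    · exact ⟨(huv _).symm, by rw [← hsame u v huv]; exact hgy u⟩
    · have e1 := hey huv
      have e2 := hey (fun hh => huv fun i => (hh i).symm) (a := v) (b := u)
      have hyv : y v = y u := by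
        by_contra hne
        have s1 := sum_of_two (R := ℤ) (hy u) (hw u) (hyw u) (hz u) (cl v)
        simp only [Int.cast_id] at s1
        rw [hout huv, e1, hy1 u] at s1
        have hv0 : cl u (y v) ≠ 0 := by
          rw [e2]; intro e; have := hy1 v; rw [e] at this; norm_num at this
        have : y v = w u := by
          by_contra h'; exact hv0 (hz u _ (hy v) hne h')
        rw [this] at e2
        rw [← e2, hw1 u] at s1
        norm_num at s1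
      exact ⟨e1, by rw [← hyv, hgy v, hyv, e1]⟩
  obtain ⟨c₁, c₂, c₃⟩ := hcong (y u) _ _ hall
  have hR := he u
  obtain ⟨Y, hY⟩ : ∃ Y, cl u (y u) * X.d (y u) = Y := ⟨_, rfl⟩
  obtain ⟨τ, hτ⟩ : ∃ τ, cl u (y u) * X.T (y u) = τ := ⟨_, rfl⟩
  rw [hY, hτ] at hR
  have k1 : X.Q + 1 ∣ 4 * (Y - 4) := by
    have := c₂.mul_left (cl u (y u))
    rwa [show cl u (y u) * (4 * (X.d (y u) - cl u (y u) - 3 * cl u (y u))) = 4 * (Y - 4) by
      rw [← hY]; linear_combination (-16) * hy1 u] at this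
  have k2 : X.Q + 1 ∣ 4 * τ := by
    have := c₃.mul_left (cl u (y u))
    rwa [show cl u (y u) * (4 * (X.T (y u) - cl u (y u) + cl u (y u))) = 4 * τ by rw [← hτ]; ring] at this
  have k3 : X.Q + 1 ∣ 32 * X.m := by
    have : X.Q + 1 ∣ 4 * τ * X.x E.R - 2 * X.m * (4 * (Y - 4)) :=
      dvd_sub (k2.mul_right _) (k1.mul_left _)
    rwa [show 4 * τ * X.x E.R - 2 * X.m * (4 * (Y - 4)) = 32 * X.m by linear_combination 4 * hR] at this
  have k4 : X.Q + 1 ∣ 32 := (coprime_Z h8).dvd_of_dvd_mul_right k3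
  have k5 : |X.Q + 1| ≤ 32 := Int.le_of_dvd (by norm_num) (by rwa [abs_dvd])
  have : ∀ z : ℤ, z ∣ 32 → z % 8 = 4 → 28 ≤ |z| → |z| ≤ 32 → False := by
    intro z hz h4 hl hu
    rcases abs_cases z with ⟨e, _⟩ | ⟨e, _⟩ <;> rw [e] at hl hu <;> obtain ⟨c, hc⟩ := hz
    · interval_cases z <;> omega
    · have : -32 ≤ z ∧ z ≤ -28 := by omega
      obtain ⟨_, _⟩ := this
      interval_cases z <;> omega
  exact this _ k4 (by omega) hQ k5

end Tab

end Cfsg.Agent.Lib.JankoThompson
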