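/-
The table of a simple group with an involution centraliser `2 × PSL₂(q)`: eight rows, trivial fused part.
-/
import Cfsg.Agent.Lib.JankoThompson.FreeSeven
import Cfsg.Agent.Lib.JankoThompson.Arith.Ree
import Cfsg.Agent.Lib.JankoThompson.Arith.Bad

set_option autoImplicit false
set_option linter.unusedSectionVars false

namespace Cfsg.Agent.Lib.JankoThompson

open Finset

variable {ι : Type*} [Fintype ι]

namespace Tab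

variable {X : Tab ι} {f f₁ : ι → ℤ}

/-- The small Ree solution, with the signed degrees of the rows. -/
def Ree (X : Tab ι) : Prop :=
  X.K * ((X.Q : ℚ) * ((X.Q : ℚ) ^ 2 - X.Q + 1)) = (X.Q : ℚ) ^ 2 - 1 ∧
    ∃ E : X.Eight, X.x E.A = -(X.Q ^ 2 - X.Q + 1) ∧ X.x E.D₂ = X.Q * X.x E.A ∧
      3 * (X.x E.B₁ - X.x E.B₂) ^ 2 = X.Q * (X.Q - 1) ^ 2 * (X.Q + 1) ^ 2

/-- The configuration giving the order of a Ree group. -/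
theorem Eight.free_ree (E : X.Eight) (hQ : 28 ≤ |X.Q + 1|) (h : Coef X 3 0 1 0 f)
    (h1 : Coef X 7 1 (-3) (X.K * ((X.Q : ℚ) + 1)) f₁)
    (ht : X.hat f E.A = -1 ∧ X.hat f E.B₁ = 0 ∧ X.hat f E.B₂ = 0 ∧ X.hat f E.C₁ = 0 ∧ X.hat f E.C₂ = 0 ∧
      X.hat f E.D₁ = 0 ∧ X.hat f E.D₂ = 1)
    (hrt : ∑ i ∈ E.out, f i * f i = 1)
    (hf : X.hat f₁ E.A = 0 ∧ X.hat f₁ E.B₁ = -1 ∧ X.hat f₁ E.B₂ = -1 ∧ X.hat f₁ E.C₁ = -1 ∧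
      X.hat f₁ E.C₂ = -1 ∧ X.hat f₁ E.D₁ = -1 ∧ X.hat f₁ E.D₂ = 0)
    (hrf : ∑ i ∈ E.out, f₁ i * f₁ i = 1) : X.x E.A = -(X.Q ^ 2 - X.Q + 1) ∧ Ree X := by
  obtain ⟨t1, t2, t3, t4, t5, t6, t7⟩ := ht
  obtain ⟨f1, f2, f3, f4, f5, f6, f7⟩ := hf
  obtain ⟨hd, hv, he⟩ := E.values h
  obtain ⟨hd1, hv1, he1⟩ := E.values h1
  obtain ⟨hW, hR⟩ := rest_one hrt (T := X.T) X.d_pos
  obtain ⟨hW1, hR1⟩ := rest_one hrf (T := X.T) X.d_pos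
  simp only [t1, t2, t3, t4, t5, t6, t7, f1, f2, f3, f4, f5, f6, f7, hR, hR1] at hd hv he hd1 hv1 he1
  obtain ⟨hs, hsB, hsC⟩ := E.deg
  obtain ⟨hA, hB, hC⟩ := E.eqs
  have hm := X.hm
  have eW : ∑ i ∈ E.out, f i * X.d i = X.x E.A - X.x E.D₂ := by linarith
  have eW1 : ∑ i ∈ E.out, f₁ i * X.d i = X.x E.D₁ + 2 * (X.x E.B₁ + X.x E.B₂) - 1 := by linarith
  have eT : ∑ i ∈ E.out, f i * X.T i = 1 - X.Q := by linarith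
  have eT1 : ∑ i ∈ E.out, f₁ i * X.T i = 3 * (X.Q - 1) := by linarith
  rw [eW, eT] at he
  rw [eW] at hW
  rw [eW1, eT1] at he1
  rw [eW1] at hW1
  push_cast at he he1
  simp only [zero_div, zero_add, add_zero, mul_zero] at he he1
  have hQ11 : 11 ≤ |X.Q| := by
    rcases abs_cases (X.Q + 1) with ⟨e, _⟩ | ⟨e, _⟩ <;> rcases abs_cases X.Q with ⟨e', _⟩ | ⟨e', _⟩ <;> omega
  have hn : (((X.Q : ℚ) - 1) / 2) ^ 2 ≠ 0 := by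
    rw [← m_cast]
    refine pow_ne_zero 2 (Int.cast_ne_zero.2 ?_)
    rcases abs_cases X.Q with ⟨e, _⟩ | ⟨e, _⟩ <;> omega
  have hBC : 1 / (X.x E.C₁ : ℚ) + 1 / X.x E.C₂ = 1 / (X.x E.B₁ : ℚ) + 1 / X.x E.B₂ :=
    mul_left_cancel₀ hn (by linarith)
  obtain ⟨hA', hD', hK, hb⟩ := Arith.ree hQ11 E.rA.x_ne E.rD₁.x_ne E.rD₂.x_ne E.rB₁.x_ne E.rB₂.x_ne hW hW1
    hs hsB hA hB (by linear_combination he)
    (by linear_combination he1 + (((X.Q : ℚ) - 1) / 2) ^ 2 * hBC)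
  exact ⟨hA', hK, E, hA', hD', hb⟩

/-- The shape of the bad configuration. -/
structure Eight.ShapeBad (E : X.Eight) (f f₁ : ι → ℤ) : Prop where
  r : ∑ i ∈ E.out, f i * f i = 1
  r1 : ∑ i ∈ E.out, f₁ i * f₁ i = 1
  A : X.hat f E.A = 0
  D₁ : X.hat f E.D₁ = 0
  D₂ : X.hat f E.D₂ = 0
  selB : (X.hat f E.B₁ = 1 ∧ X.hat f E.B₂ = 0) ∨ (X.hat f E.B₁ = 0 ∧ X.hat f E.B₂ = 1)
  selC : (X.hat f E.C₁ = 1 ∧ X.hat f E.C₂ = 0) ∨ (X.hat f E.C₁ = 0 ∧ X.hat f E.C₂ = 1)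
  A1 : X.hat f₁ E.A = 1
  D1₁ : X.hat f₁ E.D₁ = -1
  D1₂ : X.hat f₁ E.D₂ = -1
  B1₁ : X.hat f₁ E.B₁ = X.hat f E.B₁ - 1
  B1₂ : X.hat f₁ E.B₂ = X.hat f E.B₂ - 1
  C1₁ : X.hat f₁ E.C₁ = X.hat f E.C₁ - 1
  C1₂ : X.hat f₁ E.C₂ = X.hat f E.C₂ - 1

theorem Eight.shape (E : X.Eight) (hQ : 28 ≤ |X.Q + 1|) (h : Coef X 3 0 1 0 f)
    (h1 : Coef X 7 1 (-3) (X.K * ((X.Q : ℚ) + 1)) f₁) (ho : ∑ i, f i * f₁ i = 0) :
    (X.hat f E.A = -1 ∧ X.x E.A = -(X.Q ^ 2 - X.Q + 1) ∧ Ree X) ∨ E.ShapeBad f f₁ := by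
  have hQ1 : X.Q - 1 ≠ 0 := by rcases abs_cases (X.Q + 1) with ⟨e, _⟩ | ⟨e, _⟩ <;> omega
  have hm := X.hm
  obtain ⟨r1, r2, r3, r4⟩ := E.read h
  obtain ⟨s1, s2, s3, s4⟩ := E.read h1
  obtain ⟨-, hv, -⟩ := E.values h
  obtain ⟨-, hv1, -⟩ := E.values h1
  have hi := E.inner f f₁
  rw [ho, h.val_o] at hi
  rcases eight_lam (A := X.hat f E.A) (out_nonneg (S := E.out) (f := f)) (by linarith) r2 r3 (by linarith) with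
    ⟨hr, tA, tB₁, tB₂, tC₁, tC₂, tD⟩ | ⟨hr, tA, tD₁, tD₂, tB, tC⟩ <;>
  rcases eight_one (A := X.hat f₁ E.A) (out_nonneg (S := E.out) (f := f₁)) (by linarith) s2 s3 (by linarith) with
    ⟨hr1, fA, fB₁, fB₂, fC₁, fC₂, fD⟩ | ⟨hr1, fA, fD₁, fD₂, fB, fC⟩
  · simp only [tA, tB₁, tB₂, tC₁, tC₂, fA, fB₁, fB₂, fC₁, fC₂] at hi hv hv1
    rcases tD with ⟨t6, t7⟩ | ⟨t6, t7⟩ <;> rcases fD with ⟨f6, f7⟩ | ⟨f6, f7⟩ <;>
      simp only [t6, t7, f6, f7] at hi hv hv1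
    case inl.inr =>
      exact Or.inl ⟨tA, E.swapD.free_ree hQ h h1 ⟨tA, tB₁, tB₂, tC₁, tC₂, t7, t6⟩
        (by rw [E.swapD_out]; exact hr) ⟨fA, fB₁, fB₂, fC₁, fC₂, f7, f6⟩ (by rw [E.swapD_out]; exact hr1)⟩
    case inr.inl =>
      exact Or.inl ⟨tA, E.free_ree hQ h h1 ⟨tA, tB₁, tB₂, tC₁, tC₂, t6, t7⟩ hr
        ⟨fA, fB₁, fB₂, fC₁, fC₂, f6, f7⟩ hr1⟩
    all_goals
      rcases inner_one hr hr1 with e | ⟨-, hy⟩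
      · omega
      · have := hy X.T
        rw [show ∑ i ∈ E.out, f i * f₁ i = 1 by linarith] at this
        omega
  · have hle := inner_one_le (g := f₁) hr (N := 1) (by simpa using hr1) (by norm_num)
    simp only [tA, tB₁, tB₂, tC₁, tC₂, fA, fD₁, fD₂] at hi
    rw [abs_le] at hle
    rcases tD with ⟨t6, t7⟩ | ⟨t6, t7⟩ <;> simp only [t6, t7] at hi <;> omega
  · have hle := inner_one_le (g := f₁) hr (N := 1) (by simpa using hr1) (by norm_num)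
    simp only [tA, tD₁, tD₂, fA, fB₁, fB₂, fC₁, fC₂] at hi
    rw [abs_le] at hle
    rcases tB with ⟨b1, b2⟩ | ⟨b1, b2⟩ <;> rcases tC with ⟨c1, c2⟩ | ⟨c1, c2⟩ <;>
      simp only [b1, b2, c1, c2] at hi <;> omega
  · refine Or.inr ?_
    have eT := E.pair_T h tA tD₁ tD₂
    have eT1 : ∑ i ∈ E.out, f₁ i * X.T i = 6 * X.m := by
      rw [fA, fD₁, fD₂] at hv1
      rcases fB with ⟨b1, b2⟩ | ⟨b1, b2⟩ <;> rcases fC with ⟨c1, c2⟩ | ⟨c1, c2⟩ <;>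
        rw [b1, b2, c1, c2] at hv1 <;> linarith
    have hout : ∑ i ∈ E.out, f i * f₁ i = 0 := by
      rcases inner_one hr hr1 with e | ⟨e | e, hy⟩
      · exact e
      all_goals
        have := hy X.T
        rw [e, eT, eT1] at this
        omega
    rw [tA, tD₁, tD₂, fA, fD₁, fD₂, hout] at hi
    have hcompl : X.hat f₁ E.B₁ = X.hat f E.B₁ - 1 ∧ X.hat f₁ E.B₂ = X.hat f E.B₂ - 1 ∧
        X.hat f₁ E.C₁ = X.hat f E.C₁ - 1 ∧ X.hat f₁ E.C₂ = X.hat f E.C₂ - 1 := by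
      rcases tB with ⟨b1, b2⟩ | ⟨b1, b2⟩ <;> rcases tC with ⟨c1, c2⟩ | ⟨c1, c2⟩ <;>
        rcases fB with ⟨b1', b2'⟩ | ⟨b1', b2'⟩ <;> rcases fC with ⟨c1', c2'⟩ | ⟨c1', c2'⟩ <;>
        simp only [b1, b2, c1, c2, b1', b2', c1', c2'] at hi ⊢ <;> omega
    obtain ⟨q1, q2, q3, q4⟩ := hcompl
    exact ⟨hr, hr1, tA, tD₁, tD₂, tB, tC, fA, fD₁, fD₂, q1, q2, q3, q4⟩

/-- The equations of the bad configuration. -/
theorem Eight.bad_data (E : X.Eight) (hQ : 28 ≤ |X.Q + 1|) (h : Coef X 3 0 1 0 f)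
    (h1 : Coef X 7 1 (-3) (X.K * ((X.Q : ℚ) + 1)) f₁) (hs : E.ShapeBad f f₁) :
    ∃ b₁ b₂ : ℤ, b₁ = X.hat f E.B₁ * X.x E.B₁ + X.hat f E.B₂ * X.x E.B₂ ∧
      b₁ ≠ 0 ∧ b₂ ≠ 0 ∧ b₁ + b₂ = 1 + X.x E.A ∧ b₁ + b₂ = X.x E.B₁ + X.x E.B₂ ∧
      (b₁ : ℚ) * (X.K * X.Q) = -2 * (X.m : ℚ) ^ 2 * ((X.Q : ℚ) + 1) ∧
      1 + 1 / (X.x E.A : ℚ) = X.K * X.Q + (X.m : ℚ) ^ 2 / b₂ + 9 * (X.m : ℚ) ^ 2 / b₁ := by
  have hm := X.hm
  have hm0 : (X.m : ℚ) ≠ 0 := Int.cast_ne_zero.2 (by rcases abs_cases (X.Q + 1) with ⟨e, _⟩ | ⟨e, _⟩ <;> omega)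
  have hQ0 : (X.Q : ℚ) + 1 ≠ 0 := by
    have : X.Q + 1 ≠ 0 := fun e => by rw [e, abs_zero] at hQ; omega
    exact_mod_cast this
  obtain ⟨bt, ct, hbt, hct, hb0, hc0, hbc, heq⟩ := E.pair h hs.A hs.D₁ hs.D₂ hs.r hs.selB hs.selC
  have hbeq : bt = ct := Arith.eq_of_pair hm0 hb0 hc0 hbc heq
  obtain ⟨hd1, hv1, he1⟩ := E.values h1
  obtain ⟨hW1, hR1⟩ := rest_one hs.r1 (T := X.T) X.d_pos
  obtain ⟨hA, hB, hC⟩ := E.eqs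
  obtain ⟨hsA, hsB, hsC⟩ := E.deg
  simp only [hs.A1, hs.D1₁, hs.D1₂, hs.B1₁, hs.B1₂, hs.C1₁, hs.C1₂, hR1] at hd1 hv1 he1
  rw [← m_cast] at hB
  have hbC : X.hat f E.B₁ * X.x E.B₁ + X.hat f E.B₂ * X.x E.B₂ =
      X.hat f E.C₁ * X.x E.C₁ + X.hat f E.C₂ * X.x E.C₂ := by
    have : ((X.hat f E.B₁ * X.x E.B₁ + X.hat f E.B₂ * X.x E.B₂ : ℤ) : ℚ) =
        ((X.hat f E.C₁ * X.x E.C₁ + X.hat f E.C₂ * X.x E.C₂ : ℤ) : ℚ) := by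
      push_cast; rw [← hbt, ← hct]; exact hbeq
    exact_mod_cast this
  obtain ⟨b₁, hb₁⟩ : ∃ b₁, b₁ = X.hat f E.B₁ * X.x E.B₁ + X.hat f E.B₂ * X.x E.B₂ := ⟨_, rfl⟩
  obtain ⟨b₂, hb₂⟩ : ∃ b₂, b₂ = (1 - X.hat f E.B₁) * X.x E.B₁ + (1 - X.hat f E.B₂) * X.x E.B₂ := ⟨_, rfl⟩
  have hb₁0 : b₁ ≠ 0 := by
    intro e; apply hb0; rw [hbt]
    have : ((X.hat f E.B₁ * X.x E.B₁ + X.hat f E.B₂ * X.x E.B₂ : ℤ) : ℚ) = 0 := by rw [← hb₁, e]; simp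
    push_cast at this; exact this
  have hb₂0 : b₂ ≠ 0 := by
    rcases hs.selB with ⟨p, q⟩ | ⟨p, q⟩ <;> rw [hb₂, p, q] <;> simp [E.rB₁.x_ne, E.rB₂.x_ne]
  have eW : ∑ i ∈ E.out, f₁ i * X.d i = -2 * b₁ := by
    linear_combination hd1 - hsA + hsB + hsC + 2 * hb₁ + hbC
  have eT : ∑ i ∈ E.out, f₁ i * X.T i = 6 * X.m := by
    rcases hs.selB with ⟨p, q⟩ | ⟨p, q⟩ <;> rcases hs.selC with ⟨p', q'⟩ | ⟨p', q'⟩ <;>
      rw [p, q, p', q'] at hv1 <;> linarith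
  rw [eW, eT] at he1
  refine ⟨b₁, b₂, hb₁, hb₁0, hb₂0, by rw [hb₁, hb₂]; linear_combination hsB - hsA, by rw [hb₁, hb₂]; ring, ?_⟩
  have hterm : (1 : ℚ) / X.x E.B₁ + 1 / X.x E.B₂ = 1 / (b₁ : ℚ) + 1 / (b₂ : ℚ) ∧
      (((X.hat f E.B₁ - 1 : ℤ) : ℚ) / X.x E.B₁ + ((X.hat f E.B₂ - 1 : ℤ) : ℚ) / X.x E.B₂ +
        ((X.hat f E.C₁ - 1 : ℤ) : ℚ) / X.x E.C₁ + ((X.hat f E.C₂ - 1 : ℤ) : ℚ) / X.x E.C₂) = -2 / (b₂ : ℚ) := by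
    have hb₂C : b₂ = (1 - X.hat f E.C₁) * X.x E.C₁ + (1 - X.hat f E.C₂) * X.x E.C₂ := by
      linear_combination hb₂ - hbC + hsB - hsC
    rcases hs.selB with ⟨p, q⟩ | ⟨p, q⟩ <;> rcases hs.selC with ⟨p', q'⟩ | ⟨p', q'⟩ <;>
      rw [p, q] at hb₁ hb₂ ⊢ <;> rw [p', q'] at hb₂C ⊢ <;> ring_nf at hb₁ hb₂ hb₂C <;>
      subst hb₁ hb₂ <;> refine ⟨by ring, ?_⟩ <;> rw [← hb₂C] <;> push_cast <;> ring
  rw [hterm.1] at hB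
  rw [hterm.2] at he1
  rw [m_cast] at hB ⊢
  push_cast at he1
  rw [m_cast] at he1
  exact Arith.bad_identities hQ0 (Int.cast_ne_zero.2 hb₁0) hA hB (by linear_combination he1)

variable {μ : Type*} {cl c1 : μ → ι → ℤ}

/-- The bad configuration does not occur for all indices at once. -/
theorem Eight.bad_false [Nonempty μ] (E : X.Eight) (h8 : X.Q % 8 = 3) (hQ : 28 ≤ |X.Q + 1|)
    (h : ∀ u, Coef X 3 0 1 0 (cl u)) (h1 : ∀ u, Coef X 7 1 (-3) (X.K * ((X.Q : ℚ) + 1)) (c1 u))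
    (hsh : ∀ u, E.ShapeBad (cl u) (c1 u))
    (hcong : ∀ (i : ι) (α β : ℤ), (∀ u, cl u i = α ∧ c1 u i = β) →
      X.Q + 1 ∣ X.d i + 3 * X.T i - 4 * β ∧ X.Q + 1 ∣ 4 * (X.d i - β - 3 * α) ∧
        X.Q + 1 ∣ 4 * (X.T i - β + α)) : False := by
  obtain ⟨u⟩ := ‹Nonempty μ›
  have hm := X.hm
  have hQ27 : 27 ≤ |X.Q| := by
    rcases abs_cases (X.Q + 1) with ⟨e, _⟩ | ⟨e, _⟩ <;> rcases abs_cases X.Q with ⟨e', _⟩ | ⟨e', _⟩ <;> omega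
  have hm0 : X.m ≠ 0 := by rcases abs_cases X.Q with ⟨e, _⟩ | ⟨e, _⟩ <;> omega
  have hQ0 : X.Q ≠ 0 := fun e => by rw [e, abs_zero] at hQ27; omega
  have hQ1 : (X.Q : ℚ) + 1 ≠ 0 := by
    have : X.Q + 1 ≠ 0 := fun e => by rw [e, abs_zero] at hQ; omega
    exact_mod_cast this
  obtain ⟨b₁, b₂, hb₁, hb₁0, hb₂0, hsum, hsum', hid, heq⟩ := E.bad_data hQ (h u) (h1 u) (hsh u)
  -- the parameter `g`
  have hNt : b₁ * X.Q ^ 2 = -X.m * X.Nt := by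
    have hN : (X.Nt : ℚ) * X.K = (X.Q : ℚ) * ((X.Q : ℚ) ^ 2 - 1) := X.hNt
    have e : ((b₁ : ℚ) * (X.Q : ℚ) ^ 2 + X.m * X.Nt) * ((X.Q : ℚ) + 1) * (2 * X.m) = 0 := by
      have h2m : (2 : ℚ) * X.m = X.Q - 1 := by rw [m_cast]; ring
      linear_combination (X.Nt : ℚ) * hid - (b₁ : ℚ) * X.Q * hN +
        ((b₁ : ℚ) * (X.Q : ℚ) ^ 2 * ((X.Q : ℚ) + 1)) * h2m
    have h2 : (2 : ℚ) * X.m ≠ 0 := mul_ne_zero two_ne_zero (Int.cast_ne_zero.2 hm0)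
    have e' : (b₁ : ℚ) * (X.Q : ℚ) ^ 2 + X.m * X.Nt = 0 :=
      ((mul_eq_zero.1 ((mul_eq_zero.1 e).resolve_right h2)).resolve_right hQ1)
    have e'' : ((b₁ * X.Q ^ 2 + X.m * X.Nt : ℤ) : ℚ) = ((0 : ℤ) : ℚ) := by push_cast; exact e'
    linarith [Int.cast_inj.1 e'']
  have hcop : IsCoprime X.m (X.Q ^ 2) := by
    refine IsCoprime.pow_right ⟨-2, 1, ?_⟩
    linarith
  obtain ⟨g', hg'⟩ : X.m ∣ b₁ := hcop.dvd_of_dvd_mul_right ⟨-X.Nt, by rw [hNt]; ring⟩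
  obtain ⟨g, rfl⟩ : ∃ g, g' = -g := ⟨-g', by ring⟩
  have hb₁g : b₁ = -X.m * g := by rw [hg']; ring
  have hNtg : X.Nt = X.Q ^ 2 * g := by
    refine mul_left_cancel₀ hm0 ?_
    rw [hb₁g] at hNt
    linear_combination hNt
  have hg0 : g ≠ 0 := fun e => hb₁0 (by rw [hb₁g, e, mul_zero])
  have hgq : (g : ℚ) ≠ 0 := Int.cast_ne_zero.2 hg0
  have ha0 : (X.x E.A : ℚ) ≠ 0 := Int.cast_ne_zero.2 E.rA.x_ne
  have hKg : X.K * X.Q = ((X.Q : ℚ) ^ 2 - 1) / g := by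
    rw [eq_div_iff hgq]
    have hN : (X.Nt : ℚ) * X.K = (X.Q : ℚ) * ((X.Q : ℚ) ^ 2 - 1) := X.hNt
    rw [hNtg] at hN
    push_cast at hN
    exact mul_left_cancel₀ (Int.cast_ne_zero.2 hQ0 : (X.Q : ℚ) ≠ 0) (by linear_combination hN)
  have hkey : (X.x E.A + 1) * g * b₂ = X.x E.A * (X.m * (2 * X.Q - 7) * b₂ + X.m ^ 2 * g) := by
    have hb2 : (b₂ : ℚ) ≠ 0 := Int.cast_ne_zero.2 hb₂0
    rw [hKg, hb₁g] at heq
    push_cast at heq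
    have hm' : (X.m : ℚ) ≠ 0 := Int.cast_ne_zero.2 hm0
    have e : ((X.x E.A : ℚ) + 1) * g * b₂ =
        (X.x E.A : ℚ) * ((X.m : ℚ) * (2 * X.Q - 7) * b₂ + (X.m : ℚ) ^ 2 * g) := by
      field_simp at heq
      have h2m : (2 : ℚ) * X.m = X.Q - 1 := by rw [m_cast]; ring
      linear_combination heq - ((X.x E.A : ℚ) * b₂ * (X.Q + 1)) * h2m
    exact_mod_cast e
  have hb2e : b₂ = 1 + X.x E.A + X.m * g := by linarith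
  by_cases hbb : b₁ = b₂
  · refine Arith.no_bad_equal (g := g) (by omega) hm hg0 ?_
    have ha : X.x E.A = -1 - 2 * X.m * g := by linarith
    rw [← hbb, hb₁g, ha] at hkey
    refine mul_left_cancel₀ (mul_ne_zero (mul_ne_zero two_ne_zero (pow_ne_zero 2 hm0)) hg0) ?_
    linear_combination hkey
  -- the row of `b₁` is the same for all indices
  have hsel : ∀ v, X.hat (cl v) E.B₁ = X.hat (cl u) E.B₁ ∧ X.hat (cl v) E.B₂ = X.hat (cl u) E.B₂ := by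
    intro v
    obtain ⟨c₁, c₂, hc₁, -, -, -, -, hid', -⟩ := E.bad_data hQ (h v) (h1 v) (hsh v)
    have hc : c₁ = b₁ := by
      have hKQ : X.K * (X.Q : ℚ) ≠ 0 := mul_ne_zero X.hK (Int.cast_ne_zero.2 hQ0)
      exact_mod_cast mul_right_cancel₀ hKQ (hid'.trans hid.symm)
    rcases (hsh u).selB with ⟨p, q⟩ | ⟨p, q⟩ <;> rcases (hsh v).selB with ⟨p', q'⟩ | ⟨p', q'⟩ <;>
      first
        | exact ⟨p'.trans p.symm, q'.trans q.symm⟩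
        | (exfalso; apply hbb; rw [p, q] at hb₁; rw [p', q'] at hc₁; omega)
  obtain ⟨i0, hrow, hi0, hx0, hi0f⟩ : ∃ i0, X.IsRow i0 0 1 0 ∧ X.hat (cl u) i0 = 1 ∧ X.x i0 = b₁ ∧
      ∀ v, X.hat (cl v) i0 = 1 ∧ X.hat (c1 v) i0 = 0 := by
    rcases (hsh u).selB with ⟨p, q⟩ | ⟨p, q⟩
    · refine ⟨E.B₁, E.rB₁, p, by rw [hb₁, p, q]; ring, fun v => ?_⟩
      rw [(hsh v).B1₁, (hsel v).1, p]; exact ⟨rfl, rfl⟩
    · refine ⟨E.B₂, E.rB₂, q, by rw [hb₁, p, q]; ring, fun v => ?_⟩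
      rw [(hsh v).B1₂, (hsel v).2, q]; exact ⟨rfl, rfl⟩
  have hcof : ∀ {i : ι} {p q r : ℤ}, X.IsRow i p q r → ∀ (k : μ → ι → ℤ) (z : ℤ) (v : μ),
      X.hat (k v) i = z → k v i = X.sgn i * z := by
    intro i p q r hr k z v hk
    rw [← hk, hat]; linear_combination (-(k v i)) * hr.sq
  have h8Z : ∀ z, (8 : ℤ) ∣ z → X.Q + 1 ∣ z → 2 * (X.Q + 1) ∣ z := by
    intro z h1' h2'
    obtain ⟨k, hk⟩ : ∃ k, X.Q + 1 = 4 * (2 * k + 1) := ⟨X.Q / 8, by omega⟩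
    rw [hk] at h2' ⊢
    have hc : IsCoprime (2 * k + 1) 8 := by
      have h2 : IsCoprime (2 * k + 1) 2 := ⟨1, -k, by ring⟩
      exact (by norm_num : (2 : ℤ) ^ 3 = 8) ▸ h2.pow_right
    have h3 : 2 * k + 1 ∣ z := (dvd_mul_left _ 4).trans h2'
    have := hc.mul_dvd h3 h1'
    exact dvd_trans ⟨1, by ring⟩ this
  have hga : 2 * (X.Q + 1) ∣ g - (X.Q + 4) := by
    obtain ⟨-, k2, -⟩ := hcong i0 (X.sgn i0 * 1) (X.sgn i0 * 0) fun v =>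
      ⟨hcof hrow cl 1 v (hi0f v).1, hcof hrow c1 0 v (hi0f v).2⟩
    obtain ⟨k1, -, -⟩ := hcong i0 (X.sgn i0 * 1) (X.sgn i0 * 0) fun v =>
      ⟨hcof hrow cl 1 v (hi0f v).1, hcof hrow c1 0 v (hi0f v).2⟩
    have hτ : X.sgn i0 * X.T i0 = X.m := by
      have := hrow.τ_eq (by norm_num); rw [τ] at this; linarith
    have hxx : X.sgn i0 * X.d i0 = -X.m * g := hx0.trans hb₁g
    have e1 : X.Q + 1 ∣ X.m * (3 - g) := by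
      have := k1.mul_left (X.sgn i0)
      rwa [show X.sgn i0 * (X.d i0 + 3 * X.T i0 - 4 * (X.sgn i0 * 0)) = X.m * (3 - g) by
        linear_combination hxx + 3 * hτ] at this
    have e2 : X.Q + 1 ∣ 3 - g := (coprime_Z h8).dvd_of_dvd_mul_left e1
    have e8 : (8 : ℤ) ∣ g + 1 := by
      have := hrow.cong (by norm_num)
      rw [hx0, hb₁g] at this
      have hm8 : IsCoprime (8 : ℤ) X.m := by
        have h2 : IsCoprime (2 : ℤ) X.m := ⟨-(X.m / 2), 1, by omega⟩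
        exact (by norm_num : (2 : ℤ) ^ 3 = 8) ▸ h2.pow_left
      refine hm8.dvd_of_dvd_mul_left ?_
      rw [show X.m * (g + 1) = -(-X.m * g - (0 + X.m * (1 + 0))) by ring]
      exact dvd_neg.2 this
    refine h8Z _ (by omega) ?_
    rw [show g - (X.Q + 4) = -(3 - g) - (X.Q + 1) by ring]
    exact dvd_sub (dvd_neg.2 e2) dvd_rfl
  have haa : 2 * (X.Q + 1) ∣ X.x E.A - 1 := by
    obtain ⟨k1, -, -⟩ := hcong E.A (X.sgn E.A * 0) (X.sgn E.A * 1) fun v =>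
      ⟨hcof E.rA cl 0 v (hsh v).A, hcof E.rA c1 1 v (hsh v).A1⟩
    have hτ : X.sgn E.A * X.T E.A = 1 := by
      have := E.rA.τ_eq (by norm_num); rw [τ] at this; linarith
    refine h8Z _ ?_ ?_
    · have := E.rA.cong (by norm_num); simpa using this
    · have := k1.mul_left (X.sgn E.A)
      rwa [show X.sgn E.A * (X.d E.A + 3 * X.T E.A - 4 * (X.sgn E.A * 1)) = X.x E.A - 1 by
        rw [x]; linear_combination 3 * hτ - 4 * E.rA.sq] at this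
  have ha1 : X.x E.A ≠ 1 := by
    intro e
    have hd : X.d E.A = 1 := by rw [← E.rA.abs_x, e, abs_one]
    have := E.nodup
    simp only [List.nodup_cons, List.mem_cons, not_or] at this
    exact this.1.1 (X.lin _ hd).symm
  obtain ⟨i, hi⟩ : X.x E.A ∣ X.Q ^ 2 * g := by
    rw [← hNtg]
    have hτ : X.sgn E.A * X.T E.A = 1 := by
      have := E.rA.τ_eq (by norm_num); rw [τ] at this; linarith
    obtain ⟨k, hk⟩ := X.omega E.A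
    refine ⟨k, ?_⟩
    rw [x]
    linear_combination (X.sgn E.A) * hk - X.Nt * hτ
  exact Arith.no_bad hQ27 hm haa ha1 hga (i := i) (by rw [hi]; ring) hb2e hkey

/-- Eight rows: only the Ree order is possible. -/
theorem Eight.free_ree_or [Nonempty μ] (E : X.Eight) (h8 : X.Q % 8 = 3) (hQ : 28 ≤ |X.Q + 1|)
    (h : ∀ u, Coef X 3 0 1 0 (cl u)) (h1 : ∀ u, Coef X 7 1 (-3) (X.K * ((X.Q : ℚ) + 1)) (c1 u))
    (ho : ∀ u v, ∑ i, cl u i * c1 v i = 0)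
    (hcong : ∀ (i : ι) (α β : ℤ), (∀ u, cl u i = α ∧ c1 u i = β) →
      X.Q + 1 ∣ X.d i + 3 * X.T i - 4 * β ∧ X.Q + 1 ∣ 4 * (X.d i - β - 3 * α) ∧
        X.Q + 1 ∣ 4 * (X.T i - β + α)) : Ree X :=
  by_contra fun hnot => E.bad_false h8 hQ h h1
    (fun u => (E.shape hQ (h u) (h1 u) (ho u u)).resolve_left fun hs => hnot hs.2.2) hcong

/-- With trivial fused part only the Ree order is possible. -/
theorem free_ree [Nonempty μ] (h8 : X.Q % 8 = 3) (hQ : 28 ≤ |X.Q + 1|)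
    (h : ∀ u, Coef X 3 0 1 0 (cl u)) (h1 : ∀ u, Coef X 7 1 (-3) (X.K * ((X.Q : ℚ) + 1)) (c1 u))
    (ho : ∀ u v, ∑ i, cl u i * c1 v i = 0)
    (hsame : ∀ u v, (∀ i, cl u i = cl v i) → ∀ i, c1 u i = c1 v i)
    (hdiff : ∀ u v, ¬(∀ i, cl u i = cl v i) → ∑ i, cl u i * cl v i = 2)
    (hcong : ∀ (i : ι) (α β : ℤ), (∀ u, cl u i = α ∧ c1 u i = β) →
      X.Q + 1 ∣ X.d i + 3 * X.T i - 4 * β ∧ X.Q + 1 ∣ 4 * (X.d i - β - 3 * α) ∧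
        X.Q + 1 ∣ 4 * (X.T i - β + α)) : Ree X := by
  rcases X.rows with ⟨⟨E⟩⟩ | ⟨⟨E⟩⟩
  · exact E.free_ree_or h8 hQ h h1 ho hcong
  · exact (E.free_false h8 hQ h h1 ho hsame hdiff hcong).elim

end Tab

end Cfsg.Agent.Lib.JankoThompson
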