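import Cfsg.Agent.Lib.JankoThompson.TorusBridge
import Cfsg.Agent.Lib.JankoThompson.FreeEight

/-!
# Janko–Thompson: the torus without fixed points of `r`

The functions `tiFun rho 1 θ`, `tiFun 1 1 θ` over the non-trivial characters `θ` of `Y` satisfy the
hypotheses of `Tab.free_ree`.

Owner: helper66.
-/

set_option autoImplicit false
set_option linter.style.haveILetI false
set_option linter.unusedSectionVars false

universe u v

namespace Cfsg.Agent.Lib.JankoThompson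

open Subgroup Cfsg.Agent.Lib.Walter.NoField
open scoped ComplexConjugate Classical

variable {G : Type u} [Group G] [Fintype G] [Fintype (Cfsg.IrrCharacter G)]
  {F : Type v} [Field F] [Fintype F] {t : G} {c : Cfg G F t}

/-- The torus values as sums. -/
theorem Torus.secCoeff_torus (d : Torus c) (hcent : d.CentLe) [Fintype ↥c.K] {g : Fin 3 → ↥c.K → ℂ}
    (hg : GSide.IsProj c.K (sgnQ (Fintype.card F)) 1 g) (hv : TorusValues c.K g)
    {ρ : ↥(d.data hcent).V →* ℂˣ} {θ : ↥(d.data hcent).U →* ℂˣ}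
    (hθ : (d.data hcent).IsTheta θ) (i : Fin 3) :
    secCoeff t c.K ((d.data hcent).tiFun ρ 1 θ) (g i) =
      (if i = 0 then 0 else -1) * ∑ j : Fin 3, (ρ ((d.data hcent).posV j) : ℂ) := by
  rw [(d.data hcent).secCoeff_tiFun (GSide.TorusData.isTwist_one _) hθ (hg.class_fn i) (hg.supp i)
    (κ := if i = 0 then 0 else -2) fun x hx => ?_]
  · rcases eq_or_ne i 0 with rfl | hi
    · simp
    · simp only [if_neg hi, map_neg, Complex.conj_ofNat]
      ring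
  · obtain ⟨k, -, hk⟩ := hx
    have hne : (x : G) ≠ 1 := fun e => hk (by rw [e, one_pow])
    obtain ⟨h0, h1, h2⟩ := hv ⟨x, d.Y_le x.2⟩ (by
        rw [← Subgroup.orderOf_coe]
        intro h
        have := h.trans (Subgroup.orderOf_dvd_natCard d.Y x.2)
        exact absurd this (Nat.two_dvd_ne_zero.2 (Nat.odd_iff.1 d.Y_odd)))
      (fun e => hne (congrArg Subtype.val e))
      ⟨⟨d.s, d.s_mem⟩, by rw [← Subgroup.orderOf_coe]; exact d.s_ord, Subtype.ext (d.Y_s x x.2).eq⟩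
    simp only [MonoidHom.one_apply, Units.val_one, mul_one]
    fin_cases i
    · simpa using h0
    · simpa using h1
    · simpa using h2

/-- Without fixed points of `r` on the torus: the coefficient rows of the two functions over the
non-trivial characters `θ` of the torus. -/
theorem free_hyps (c : Cfg G F t) (d : Torus c) (X : Tab (Cfsg.IrrCharacter G)) (hX : Princ c X)
    (hcent : d.CentLe) (hY : d.Y₁ = ⊥) (hQ : 28 ≤ |X.Q + 1|) :
    X.Q % 8 = 3 ∧ Nonempty {θ : ↥(d.data hcent).U →* ℂˣ // θ ≠ 1} ∧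
    (∀ θ : ↥(d.data hcent).U →* ℂˣ, θ ≠ 1 →
      Coef X 3 0 1 0 (coefFun ((d.data hcent).tiFun (d.data hcent).rho 1 θ)) ∧
      Coef X 7 1 (-3) (X.K * ((X.Q : ℚ) + 1)) (coefFun ((d.data hcent).tiFun 1 1 θ))) ∧
    (∀ θ θ' : ↥(d.data hcent).U →* ℂˣ, θ ≠ 1 → θ' ≠ 1 →
      (∑ i, coefFun ((d.data hcent).tiFun (d.data hcent).rho 1 θ) i *
          coefFun ((d.data hcent).tiFun 1 1 θ') i = 0) ∧
      ((∀ i, coefFun ((d.data hcent).tiFun (d.data hcent).rho 1 θ) i =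
          coefFun ((d.data hcent).tiFun (d.data hcent).rho 1 θ') i) →
        ∀ i, coefFun ((d.data hcent).tiFun 1 1 θ) i = coefFun ((d.data hcent).tiFun 1 1 θ') i) ∧
      (¬(∀ i, coefFun ((d.data hcent).tiFun (d.data hcent).rho 1 θ) i =
          coefFun ((d.data hcent).tiFun (d.data hcent).rho 1 θ') i) →
        ∑ i, coefFun ((d.data hcent).tiFun (d.data hcent).rho 1 θ) i *
          coefFun ((d.data hcent).tiFun (d.data hcent).rho 1 θ') i = 2)) ∧
    (∀ (i : Cfsg.IrrCharacter G) (α β : ℤ),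
      (∀ θ : ↥(d.data hcent).U →* ℂˣ, θ ≠ 1 →
        coefFun ((d.data hcent).tiFun (d.data hcent).rho 1 θ) i = α ∧
          coefFun ((d.data hcent).tiFun 1 1 θ) i = β) →
      X.Q + 1 ∣ X.d i + 3 * X.T i - 4 * β ∧ X.Q + 1 ∣ 4 * (X.d i - β - 3 * α) ∧
        X.Q + 1 ∣ 4 * (X.T i - β + α)) := by
  letI := Fintype.ofFinite ↥c.K
  obtain ⟨D, hD⟩ : ∃ D, D = d.data hcent := ⟨_, rfl⟩
  rw [← hD]
  letI := Fintype.ofFinite ↥D.H₀
  letI := Fintype.ofFinite ↥D.V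
  have hU : D.T₀ = D.U := by rw [hD]; rfl
  have hTU : D.T = D.U := by rw [hD]; rfl
  have hUY : D.U = d.Y := by rw [hD]; rfl
  have hQ' : |X.Q + 1| = 4 * (Nat.card ↥D.U : ℤ) := by rw [hX.Q_eq, hUY, d.card_Y]
  have h8 : X.Q % 8 = 3 := by
    have h4 := d.card_Y
    rw [← hX.Q_eq] at h4
    obtain ⟨k, hk⟩ := d.Y_odd
    rw [hk] at h4
    push_cast at h4
    rcases abs_cases (X.Q + 1) with ⟨e, _⟩ | ⟨e, _⟩ <;> omega
  have hth : ∀ θ : ↥D.U →* ℂˣ, θ ≠ 1 → D.IsTheta θ := fun θ h => D.isTheta_of_eq hU h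
  have hfree : ∀ θ : ↥D.U →* ℂˣ, θ ≠ 1 → D.IsFree θ := by
    intro θ h
    by_contra hnf
    simp only [GSide.TorusData.IsFree, not_exists, not_not] at hnf
    apply h
    have hcomm : ∀ a b : ↥D.U, a * b = b * a := fun a b => Subtype.ext
      (d.Y_comm (hUY.le a.2) (hUY.le b.2)).eq
    obtain ⟨ψ, hψ⟩ : ∃ ψ : ↥D.U → ↥D.U, ∀ y : ↥D.U,
        ψ y = y⁻¹ * ⟨D.r * y * D.r⁻¹, D.r_U y y.2⟩ := ⟨_, fun y => rfl⟩
    have hinj : Function.Injective ψ := by
      intro y z e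
      rw [hψ, hψ] at e
      have e' : (⟨D.r * y * D.r⁻¹, D.r_U y y.2⟩ : ↥D.U) * (⟨D.r * z * D.r⁻¹, D.r_U z z.2⟩ : ↥D.U)⁻¹ =
          y * z⁻¹ := by
        rw [inv_mul_eq_iff_eq_mul] at e
        rw [e, ← mul_assoc y, mul_inv_cancel_right]
      have hr : d.r * ((y * z⁻¹ : ↥D.U) : G) * d.r⁻¹ = ((y * z⁻¹ : ↥D.U) : G) := by
        conv_rhs => rw [← e']
        have hDr : D.r = d.r := by rw [hD]; rfl
        simp only [Subgroup.coe_mul, Subgroup.coe_inv, hDr]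
        group
      have hmem : ((y * z⁻¹ : ↥D.U) : G) ∈ d.Y₁ :=
        mem_inf.2 ⟨hUY.le (y * z⁻¹).2, mem_centralizer_singleton_iff.2
          (mul_inv_eq_iff_eq_mul.1 hr).symm⟩
      rw [hY, mem_bot] at hmem
      exact mul_inv_eq_one.1 (Subtype.ext hmem)
    refine MonoidHom.ext fun y => ?_
    obtain ⟨z, hz⟩ := Finite.injective_iff_surjective.1 hinj y
    rw [← hz, hψ, map_mul, map_inv, hnf z, inv_mul_cancel, MonoidHom.one_apply]
  let μ := {θ : ↥D.U →* ℂˣ // θ ≠ 1}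
  haveI : Nonempty μ := by
    have hcard : 1 < Nat.card ↥D.U := by omega
    obtain ⟨a, ha⟩ : ∃ a : ↥D.U, a ≠ 1 := by
      haveI : Nontrivial ↥D.U := Finite.one_lt_card_iff_nontrivial.1 hcard
      exact exists_ne 1
    letI : CommGroup ↥D.U :=
      { (inferInstance : Group ↥D.U) with
        mul_comm := fun a b => Subtype.ext (d.Y_comm (hUY.le a.2) (hUY.le b.2)).eq }
    obtain ⟨φ, hφ⟩ := CommGroup.exists_apply_ne_one_of_hasEnoughRootsOfUnity ↥D.U ℂ ha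
    exact ⟨⟨φ, fun h => hφ (by rw [h]; rfl)⟩⟩
  have htw := D.isTwist_one
  have hsec : ∀ g : Fin 3 → ↥c.K → ℂ, GSide.IsProj c.K (sgnQ (Fintype.card F)) 1 g →
      TorusValues c.K g → ∀ (ρ : ↥D.V →* ℂˣ) (θ : ↥D.U →* ℂˣ), D.IsTheta θ → ∀ i : Fin 3,
        secCoeff t c.K (D.tiFun ρ 1 θ) (g i) =
          (if i = 0 then 0 else -1) * ∑ j : Fin 3, (ρ (D.posV j) : ℂ) := by
    subst hD
    exact fun g hg hv ρ θ hθ i => d.secCoeff_torus hcent hg hv hθ i
  have hR : ((1 : ↥D.V →* ℂˣ) = 1 ∧ (1 : ↥D.U →* ℂˣ) = 1) := ⟨rfl, rfl⟩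
  have h3 : ∀ u : μ, Coef X 3 0 1 0 (coefFun (D.tiFun D.rho 1 u.1)) := fun u => by
    refine coefOf hX (D.isGen_tiFun _ _ _) (D.indFun_one_eq ((hth _ u.2).support_of_ne _ _))
      (D.indFun_t_eq ((hth _ u.2).support_of_ne _ _)) ?_ ?_ (fun g hg hv i => ?_) ?_
    · rw [D.norm_rho htw (hth _ u.2)]; norm_num
    · rw [D.classInner_const htw (hth _ u.2), if_neg fun h => D.rho_ne_one h.1, Int.cast_zero]
    · rw [hsec g hg hv _ _ (hth _ u.2), D.sum_rho_pos]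
      split_ifs <;> norm_num
    · rw [D.sum_sq_tiFun htw (hth _ u.2), D.sum_rho, mul_zero, Rat.cast_zero]
  have h7 : ∀ u : μ, Coef X 7 1 (-3) (X.K * ((X.Q : ℚ) + 1)) (coefFun (D.tiFun 1 1 u.1)) := fun u => by
    refine coefOf hX (D.isGen_tiFun _ _ _) (D.indFun_one_eq ((hth _ u.2).support_of_ne _ _))
      (D.indFun_t_eq ((hth _ u.2).support_of_ne _ _)) ?_ ?_ (fun g hg hv i => ?_) ?_
    · rw [D.norm_one htw (hth _ u.2) (hfree _ u.2)]; norm_num
    · rw [D.classInner_const htw (hth _ u.2), if_pos hR, Int.cast_one]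
    · rw [hsec g hg hv _ _ (hth _ u.2)]
      simp only [MonoidHom.one_apply, Units.val_one, Finset.sum_const, Finset.card_univ,
        Fintype.card_fin, nsmul_eq_mul, mul_one]
      split_ifs <;> norm_num
    · rw [D.sum_sq_one htw (hth _ u.2) d.card_K (by rw [hTU, hUY, d.card_Y]) (by rw [hTU, one_mul]),
        hX.K_eq, hX.Q_eq]
      push_cast
      rfl
  have hgen : ∀ ρ (θ : ↥D.U →* ℂˣ), Cfsg.IsGeneralizedCharacter G (D.tiFun ρ 1 θ) := fun ρ θ =>
    D.isGen_tiFun ρ 1 θ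
  -- equal rows come from equal or inverse characters
  have hsame' : ∀ u v : μ, (∀ i, coefFun (D.tiFun D.rho 1 u.1) i = coefFun (D.tiFun D.rho 1 v.1) i) →
      u.1 = v.1 ∨ u.1 = (v.1)⁻¹ := by
    intro u v he
    by_contra hne
    push Not at hne
    have h2 := D.inner_rho_of_ne htw (hth _ u.2) (hth _ v.2) hne.1 hne.2
    rw [← sum_coefFun_mul (hgen _ _) (hgen _ _)] at h2
    simp only [← he, (h3 u).norm] at h2
    norm_num at h2
  refine ⟨h8, ⟨Classical.arbitrary μ⟩, fun θ hne => ⟨h3 ⟨θ, hne⟩, h7 ⟨θ, hne⟩⟩,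
    fun θ θ' hθ hθ' => ⟨?_, fun he i => ?_, fun hne => ?_⟩, fun i α β hαβ => ?_⟩
  · apply Int.cast_injective (α := ℂ)
    rw [sum_coefFun_mul (hgen _ _) (hgen _ _), D.inner_rho_one htw (hth _ hθ) (hth _ hθ'), Int.cast_zero]
  · rcases hsame' ⟨θ, hθ⟩ ⟨θ', hθ'⟩ he with (h : θ = θ') | (h : θ = θ'⁻¹)
    · rw [h]
    · rw [h, D.tiFun_inv htw (hth _ hθ')]
  · apply Int.cast_injective (α := ℂ)
    rw [sum_coefFun_mul (hgen _ _) (hgen _ _)]
    rw [D.inner_rho_of_ne htw (hth _ hθ) (hth _ hθ') (fun h => hne fun i => by rw [h])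
      (fun h => hne fun i => by rw [h, D.tiFun_inv htw (hth _ hθ')])]
    norm_num
  · have hdvd : ∀ z : ℤ, (4 * (Nat.card ↥D.U : ℤ)) ∣ z → X.Q + 1 ∣ z := fun z hz => by
      rw [← hQ', abs_dvd] at hz; exact hz
    have hα : (4 * (Nat.card ↥D.U : ℤ)) ∣ X.d i - X.T i - 4 * α :=
      D.congr_rho hU i (hX.hd i).symm (hX.hT' i).symm fun θ hθ => by
        rw [← coefFun_spec (hgen _ _)]; exact_mod_cast (hαβ θ hθ).1
    have hβ : (4 * (Nat.card ↥D.U : ℤ)) ∣ X.d i + 3 * X.T i - 4 * β :=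
      D.congr_one hU i (hX.hd i).symm (hX.hT' i).symm fun θ hθ => by
        rw [← coefFun_spec (hgen _ _)]; exact_mod_cast (hαβ θ hθ).2
    refine ⟨hdvd _ hβ, hdvd _ ?_, hdvd _ ?_⟩
    · have := dvd_add hβ (hα.mul_left 3)
      rwa [show X.d i + 3 * X.T i - 4 * β + 3 * (X.d i - X.T i - 4 * α) = 4 * (X.d i - β - 3 * α) by ring] at this
    · have := dvd_sub hβ hα
      rwa [show X.d i + 3 * X.T i - 4 * β - (X.d i - X.T i - 4 * α) = 4 * (X.T i - β + α) by ring] at this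

/-- Without fixed points of `r` on the torus the group has the order of a Ree group. -/
theorem free_case (c : Cfg G F t) (d : Torus c) (X : Tab (Cfsg.IrrCharacter G)) (hX : Princ c X)
    (hcent : d.CentLe) (hY : d.Y₁ = ⊥) (hQ : 28 ≤ |X.Q + 1|) : X.Ree := by
  obtain ⟨h8, hne, hcoef, hpair, hcong⟩ := free_hyps c d X hX hcent hY hQ
  exact Tab.free_ree
    (cl := fun u : {θ : ↥(d.data hcent).U →* ℂˣ // θ ≠ 1} =>
      coefFun ((d.data hcent).tiFun (d.data hcent).rho 1 u.1))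
    (c1 := fun u => coefFun ((d.data hcent).tiFun 1 1 u.1)) h8 hQ
    (fun u => (hcoef u.1 u.2).1) (fun u => (hcoef u.1 u.2).2)
    (fun u v => (hpair u.1 v.1 u.2 v.2).1) (fun u v => (hpair u.1 v.1 u.2 v.2).2.1)
    (fun u v => (hpair u.1 v.1 u.2 v.2).2.2)
    (fun i α β h => hcong i α β fun θ hθ => h ⟨θ, hθ⟩)

end Cfsg.Agent.Lib.JankoThompson
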