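import Cfsg.Agent.Lib.JankoThompson.Free
import Cfsg.Agent.Lib.JankoThompson.Fused
import Cfsg.Agent.Lib.JankoThompson.GSide.FusedInd

/-!
# Janko–Thompson: `r` has no fixed points on the torus

A fixed point gives a character `θ` of `Y` fixed by `r`; `tiFun rho 1 θ` and the three functions
`fFun` satisfy the hypotheses of `Tab.fused_false`.

Owner: helper8.
-/

set_option autoImplicit false
set_option linter.style.haveILetI false
set_option linter.unusedSectionVars false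

universe u v

namespace Cfsg.Agent.Lib.JankoThompson

open Subgroup Cfsg.Agent.Lib.Walter.NoField
open scoped ComplexConjugate Classical

variable {G : Type u} [Group G] {F : Type v} [Field F] [Fintype F] {t : G}

/-- `w r w⁻¹ = t s r`. -/
theorem Torus.w_conj_r {c : Cfg G F t} (d : Torus c) : d.w * d.r * d.w⁻¹ = t * d.s * d.r := by
  have htt : t⁻¹ = t := inv_eq_of_mul_eq_one_right c.sq
  have h1 : t * d.w * d.r * (t * d.w)⁻¹ = d.r := by rw [← d.r_tw.eq, mul_inv_cancel_right]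
  calc d.w * d.r * d.w⁻¹ = t⁻¹ * (t * d.w * d.r * (t * d.w)⁻¹) * t := by group
    _ = t * (d.r * t * d.r⁻¹) * d.r := by rw [h1, htt]; group
    _ = t * d.s * d.r := by rw [d.r_t]

variable [Fintype G] [Fintype (Cfsg.IrrCharacter G)]

/-- The fused case does not occur. -/
theorem fused_case (c : Cfg G F t) (d : Torus c) (X : Tab (Cfsg.IrrCharacter G)) (hX : Princ c X)
    (hcent : d.CentLe) (h3 : ¬ 3 ∣ Nat.card ↥d.Y) (hQ : 11 ≤ |X.Q|) : d.Y₁ = ⊥ := by
  by_contra hne
  obtain ⟨y, hy, hy1⟩ : ∃ y ∈ d.Y₁, y ≠ 1 := by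
    by_contra h
    push Not at h
    exact hne ((Subgroup.eq_bot_iff_forall _).2 h)
  obtain ⟨hyY, hyr⟩ := mem_inf.1 hy
  rw [mem_centralizer_singleton_iff] at hyr
  letI := Fintype.ofFinite ↥c.K
  obtain ⟨D, hD⟩ : ∃ D, D = d.data hcent := ⟨_, rfl⟩
  letI := Fintype.ofFinite ↥D.H₀
  letI := Fintype.ofFinite ↥D.H
  letI := Fintype.ofFinite ↥D.V
  have hU : D.T₀ = D.U := by rw [hD]; rfl
  have hTU : D.T = D.U := by rw [hD]; rfl
  have hUY : D.U = d.Y := by rw [hD]; rfl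
  have hDr : D.r = d.r := by rw [hD]; rfl
  have h3' : ¬ 3 ∣ Nat.card ↥D.U := by rw [hUY]; exact h3
  have hrw : D.w * D.r * D.w⁻¹ = t * D.s * D.r := by rw [hD]; exact d.w_conj_r
  have htw := D.isTwist_one
  -- the character fixed by `r`
  obtain ⟨θ, hr, hne1⟩ : ∃ θ : ↥D.U →* ℂˣ, D.RInv θ ∧ θ ≠ 1 := by
    obtain ⟨y', hy'⟩ : ∃ y' : ↥D.U, (y' : G) = y := ⟨⟨y, hUY.ge hyY⟩, rfl⟩
    letI : CommGroup ↥D.U :=
      { (inferInstance : Group ↥D.U) with
        mul_comm := fun a b => Subtype.ext (d.Y_comm (hUY.le a.2) (hUY.le b.2)).eq }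
    obtain ⟨φ, hφ⟩ := CommGroup.exists_apply_ne_one_of_hasEnoughRootsOfUnity ↥D.U ℂ
      (a := y') fun e => hy1 (by rw [← hy', e]; rfl)
    have hfix : ∀ i : Fin 3, D.actU i y' = y' := fun i => Subtype.ext (by
      rw [GSide.TorusData.coe_actU, hy', hDr]
      have hc : Commute (d.r ^ (i : ℕ)) y := (Commute.pow_left (show Commute d.r y from hyr.symm) _)
      rw [hc.inv_left.eq, inv_mul_cancel_right])
    refine ⟨φ * φ.comp (D.actU 1) * φ.comp (D.actU 2), fun x => ?_, fun e => ?_⟩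
    · have e2 : (⟨D.r * x * D.r⁻¹, D.r_U x x.2⟩ : ↥D.U) = D.actU 2 x := Subtype.ext (by
        rw [GSide.TorusData.coe_actU, Fin.val_two, show D.r ^ 2 = D.r⁻¹ from D.r_inv.symm, inv_inv])
      rw [e2]
      simp only [MonoidHom.mul_apply, MonoidHom.comp_apply, D.actU_actU]
      rw [show (2 : Fin 3) + 1 = 0 from rfl, show (2 : Fin 3) + 2 = 1 from rfl, D.actU_zero,
        MonoidHom.id_apply]
      simp only [mul_comm, mul_left_comm]
    · refine GSide.TorusData.cube_ne_one h3' hφ ?_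
      have := DFunLike.congr_fun e y'
      simp only [MonoidHom.mul_apply, MonoidHom.comp_apply, hfix, MonoidHom.one_apply] at this
      rwa [pow_succ, pow_two]
  have hθ : D.IsTheta θ := D.isTheta_of_eq hU hne1
  -- the cube roots of unity
  have hζ := Complex.isPrimitiveRoot_exp 3 (by norm_num)
  obtain ⟨ω, hω⟩ : ∃ ω : ℂˣ, IsPrimitiveRoot ω 3 :=
    ⟨(hζ.isUnit (by norm_num)).unit, hζ.isUnit_unit (by norm_num)⟩
  have z1 : (1 : ℂˣ) ^ 3 = 1 := one_pow 3
  have z2 : (ω ^ 2) ^ 3 = 1 := by rw [← pow_mul, mul_comm, pow_mul, hω.pow_eq_one, one_pow]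
  have hω1 : ω ≠ 1 := hω.ne_one (by norm_num)
  have hω2 : ω ^ 2 ≠ 1 := hω.pow_ne_one_of_pos_of_lt (by norm_num) (by norm_num)
  have hω3 : ω ≠ ω ^ 2 := fun e => hω1 (by
    rw [pow_two] at e
    exact left_eq_mul.1 e)
  -- the section coefficients
  have hsec : ∀ g : Fin 3 → ↥c.K → ℂ, GSide.IsProj c.K (sgnQ (Fintype.card F)) 1 g →
      TorusValues c.K g → ∀ (ρ : ↥D.V →* ℂˣ) (i : Fin 3),
        secCoeff t c.K (D.tiFun ρ 1 θ) (g i) =
          (if i = 0 then 0 else -1) * ∑ j : Fin 3, (ρ (D.posV j) : ℂ) := by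
    subst hD
    exact fun g hg hv ρ i => d.secCoeff_torus hcent hg hv hθ i
  have hθrow : Coef X 3 0 1 0 (coefFun (D.tiFun D.rho 1 θ)) := by
    refine coefOf hX (D.isGen_tiFun _ _ _) (D.indFun_one_eq (hθ.support_of_ne _ _))
      (D.indFun_t_eq (hθ.support_of_ne _ _)) ?_ ?_ (fun g hg hv i => ?_) ?_
    · rw [D.norm_rho htw hθ]; norm_num
    · rw [D.classInner_const htw hθ, if_neg fun h => D.rho_ne_one h.1, Int.cast_zero]
    · rw [hsec g hg hv, D.sum_rho_pos]
      split_ifs <;> norm_num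
    · rw [D.sum_sq_tiFun htw hθ, D.sum_rho, mul_zero, Rat.cast_zero]
  have hrow : ∀ (z : ℂˣ) (hz : z ^ 3 = 1),
      Coef X 3 (if z = 1 then 1 else 0) (-1) (X.K * ((X.Q : ℚ) + 1) / 3)
        (coefFun (GSide.TorusData.fFun hr hz)) := fun z hz => by
    refine coefOf hX (GSide.TorusData.isGen_fFun hr hz) (GSide.TorusData.fFun_one hθ hr hz)
      (GSide.TorusData.fFun_t hθ hr hz) ?_ ?_ (fun g hg hv i => ?_) ?_
    · rw [GSide.TorusData.inner_fFun hU h3' hrw hθ hr hz hz, if_pos rfl]; norm_num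
    · rw [GSide.TorusData.classInner_fFun_const hθ hr hz]
      split_ifs <;> norm_num
    · rw [GSide.TorusData.secCoeff_fFun hr hz (hg.supp i), hsec g hg hv]
      simp only [MonoidHom.one_apply, Units.val_one, Finset.sum_const, Finset.card_univ,
        Fintype.card_fin, nsmul_eq_mul, mul_one]
      split_ifs <;> norm_num
    · rw [GSide.TorusData.sum_sq_fFun hU h3' hθ hr hz,
        D.sum_sq_one htw hθ d.card_K (by rw [hTU, hUY, d.card_Y]) (by rw [hTU, one_mul]),
        hX.K_eq, hX.Q_eq]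
      push_cast
      ring
  have orth : ∀ {f f' : G → ℂ}, Cfsg.IsGeneralizedCharacter G f → Cfsg.IsGeneralizedCharacter G f' →
      Cfsg.classInner f f' = 0 → ∑ i, coefFun f i * coefFun f' i = 0 := fun h h' e => by
    apply Int.cast_injective (α := ℂ)
    rw [sum_coefFun_mul h h', e, Int.cast_zero]
  have oθ : ∀ (z : ℂˣ) (hz : z ^ 3 = 1),
      ∑ i, coefFun (D.tiFun D.rho 1 θ) i * coefFun (GSide.TorusData.fFun hr hz) i = 0 := fun z hz =>
    orth (D.isGen_tiFun _ _ _) (GSide.TorusData.isGen_fFun hr hz) (by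
      rw [← Induced.Basic.classInner_conj_symm,
        GSide.TorusData.inner_fFun_rho hU h3' hθ hr hz, map_zero])
  exact Tab.fused_false hQ hθrow (by simpa using hrow 1 z1)
    (by simpa [hω1] using hrow ω hω.pow_eq_one) (by simpa [hω2] using hrow (ω ^ 2) z2)
    (oθ 1 z1) (oθ ω hω.pow_eq_one) (oθ (ω ^ 2) z2)
    (orth (GSide.TorusData.isGen_fFun hr hω.pow_eq_one) (GSide.TorusData.isGen_fFun hr z2) (by
      rw [GSide.TorusData.inner_fFun hU h3' hrw hθ hr hω.pow_eq_one z2, if_neg hω3]))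

end Cfsg.Agent.Lib.JankoThompson
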