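/-
A simple group with an involution centraliser `⟨t⟩ × PSL₂(q)`: the common setting.
-/
import Mathlib
import Cfsg.Prelude.Def_TwoFusion

set_option autoImplicit false

universe u v

namespace Cfsg.Agent.Lib.JankoThompson

/-- The signed order of the field: `q` or `-q`, congruent to `3` modulo `4`. -/
def sgnQ (q : ℕ) : ℤ := if q % 4 = 3 then (q : ℤ) else -(q : ℤ)

theorem sgnQ_abs (q : ℕ) : |sgnQ q| = q := by
  unfold sgnQ; split_ifs <;> simp

theorem sgnQ_mod_eight {q : ℕ} (h : q % 8 = 3 ∨ q % 8 = 5) : sgnQ q % 8 = 3 := by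
  unfold sgnQ; split_ifs <;> omega

theorem four_dvd_sgnQ {q : ℕ} (h : q % 8 = 3 ∨ q % 8 = 5) : (4 : ℤ) ∣ sgnQ q + 1 := by
  have := sgnQ_mod_eight h; omega

/-- An element `t` whose centraliser is `⟨t⟩ × K` with `K ≅ PSL₂(F)`. -/
structure Cfg (G : Type u) [Group G] (F : Type v) [Field F] [Fintype F] (t : G) where
  ord : orderOf t = 2
  K : Subgroup G
  prod : Cfsg.IsInternalDirectProduct (Subgroup.zpowers t) K (Subgroup.centralizer ({t} : Set G))
  iso : ↥K ≃* Matrix.ProjectiveSpecialLinearGroup (Fin 2) F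

variable {G : Type u} [Group G] {F : Type v} [Field F] [Fintype F] {t : G}

theorem Cfg.comm (c : Cfg G F t) {k : G} (hk : k ∈ c.K) : Commute t k :=
  c.prod.2.2.1 t (Subgroup.mem_zpowers t) k hk

theorem Cfg.sq (c : Cfg G F t) : t * t = 1 := by rw [← pow_two, ← c.ord, pow_orderOf_eq_one]

theorem Cfg.ne_one (c : Cfg G F t) : t ≠ 1 := fun h => by
  have := c.ord; rw [h, orderOf_one] at this; norm_num at this

theorem Cfg.mem_cent (c : Cfg G F t) {g : G} :
    Commute g t ↔ g ∈ Subgroup.centralizer ({t} : Set G) := Subgroup.mem_centralizer_singleton_iff.symm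

/-- The torus data of the involution `t`: `V = ⟨t, s⟩`, the odd part `Y` of `C(V)`, and the elements
`w` (inverting `Y`) and `r` (permuting `V#`, fixing `t * w`). -/
structure Torus (c : Cfg G F t) where
  Y : Subgroup G
  s : G
  w : G
  r : G
  s_mem : s ∈ c.K
  s_ord : orderOf s = 2
  w_mem : w ∈ c.K
  w_ord : orderOf w = 2
  w_ne : w ≠ s
  sw : Commute s w
  Y_le : Y ≤ c.K
  Y_cyc : IsCyclic ↥Y
  Y_card : 4 * Nat.card ↥Y = (sgnQ (Fintype.card F) + 1).natAbs
  Y_odd : Odd (Nat.card ↥Y)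
  Y_s : ∀ y ∈ Y, Commute s y
  w_inv : ∀ y ∈ Y, w * y * w⁻¹ = y⁻¹
  cent_ts : ∀ g : G, Commute g t → Commute g s →
    ∃ a ∈ Subgroup.closure ({t, s} : Set G) ⊔ Y, g = a ∨ g = a * w
  cent_ty : ∀ y ∈ Y, y ≠ 1 → ∀ g : G, Commute g t → Commute g y →
    g ∈ Subgroup.closure ({t, s} : Set G) ⊔ Y
  r_ord : orderOf r = 3
  r_tw : Commute r (t * w)
  r_t : r * t * r⁻¹ = s
  r_s : r * s * r⁻¹ = t * s
  r_Y : ∀ y ∈ Y, r * y * r⁻¹ ∈ Y
  one_class : ∀ x : G, orderOf x = 2 → IsConj t x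
  sylow_card : ∀ P : Sylow 2 G, Nat.card ↥(P : Subgroup G) = 8

/-- The four-group `⟨t, s⟩`. -/
def Torus.V {c : Cfg G F t} (d : Torus c) : Subgroup G := Subgroup.closure ({t, d.s} : Set G)

/-- The centralisers of the non-trivial elements of `Y` normalise `V`. -/
def Torus.CentLe {c : Cfg G F t} (d : Torus c) : Prop :=
  ∀ y ∈ d.Y, y ≠ 1 → ∀ g : G, Commute g y → ∀ v ∈ d.V, g * v * g⁻¹ ∈ d.V

/-- The fixed points of `r` on `Y`. -/
def Torus.Y₁ {c : Cfg G F t} (d : Torus c) : Subgroup G := d.Y ⊓ Subgroup.centralizer ({d.r} : Set G)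

theorem exists_cfg (ht : orderOf t = 2)
    (hZ : ∀ z : Matrix.ProjectiveSpecialLinearGroup (Fin 2) F, (∀ x, z * x = x * z) → z = 1)
    (hC : Nonempty (Subgroup.centralizer ({t} : Set G) ≃*
      Multiplicative (ZMod 2) × Matrix.ProjectiveSpecialLinearGroup (Fin 2) F)) :
    Nonempty (Cfg G F t) := by
  obtain ⟨e⟩ := hC
  set C := Subgroup.centralizer ({t} : Set G) with hCd
  have htC : t ∈ C := Subgroup.mem_centralizer_singleton_iff.2 rfl
  set j : Matrix.ProjectiveSpecialLinearGroup (Fin 2) F →* G :=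
    C.subtype.comp (e.symm.toMonoidHom.comp (MonoidHom.inr _ _)) with hj
  have hji : Function.Injective j :=
    C.subtype_injective.comp (e.symm.injective.comp fun a b h => congrArg Prod.snd h)
  have hjC : ∀ x, j x ∈ C := fun x => (e.symm (1, x)).2
  have het : e ⟨t, htC⟩ = (Multiplicative.ofAdd 1, 1) := by
    have hsnd : (e ⟨t, htC⟩).2 = 1 := by
      refine hZ _ fun x => ?_
      have h : e ⟨t, htC⟩ * (1, x) = (1, x) * e ⟨t, htC⟩ := by
        rw [← e.apply_symm_apply (1, x), ← map_mul, ← map_mul]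
        exact congrArg e (Subtype.ext (Subgroup.mem_centralizer_singleton_iff.1 (e.symm (1, x)).2).symm)
      simpa using congrArg Prod.snd h
    have hfst : (e ⟨t, htC⟩).1 ≠ 1 := by
      intro h
      have : (⟨t, htC⟩ : ↥C) = 1 := e.injective ((Prod.ext h hsnd : e ⟨t, htC⟩ = 1).trans e.map_one.symm)
      have h1 : t = 1 := congrArg Subtype.val this
      rw [h1, orderOf_one] at ht
      norm_num at ht
    refine Prod.ext ?_ hsnd
    have key : ∀ a : Multiplicative (ZMod 2), a ≠ 1 → a = Multiplicative.ofAdd 1 := by decide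
    exact key _ hfst
  refine ⟨⟨ht, j.range, ⟨?_, ?_, ?_, ?_, ?_⟩, (MonoidHom.ofInjective hji).symm⟩⟩
  · rw [Subgroup.zpowers_le]; exact htC
  · rintro _ ⟨x, rfl⟩; exact hjC x
  · rintro a ha _ ⟨x, rfl⟩
    obtain ⟨k, rfl⟩ := Subgroup.mem_zpowers_iff.1 ha
    exact ((show Commute (j x) t from Subgroup.mem_centralizer_singleton_iff.1 (hjC x)).symm.zpow_left k).eq
  · refine le_antisymm ?_ bot_le
    rintro g ⟨hg, x, hx⟩
    obtain ⟨k, hk⟩ := Subgroup.mem_zpowers_iff.1 hg
    have h : e.symm (1, x) = (⟨t, htC⟩ : ↥C) ^ k := Subtype.ext (by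
      rw [SubgroupClass.coe_zpow]; exact hx.trans hk.symm)
    have h2 := congrArg (fun z => (e z).2) h
    simp only [e.apply_symm_apply, map_zpow, het, Prod.pow_snd, one_zpow] at h2
    rw [Subgroup.mem_bot, ← hx, h2, map_one]
  · refine le_antisymm (sup_le (by rw [Subgroup.zpowers_le]; exact htC) (by rintro _ ⟨x, rfl⟩; exact hjC x)) ?_
    intro g hg
    obtain ⟨z, x, hzx⟩ : ∃ z x, e ⟨g, hg⟩ = (z, x) := ⟨_, _, rfl⟩
    have key : ∀ a : Multiplicative (ZMod 2), a = 1 ∨ a = Multiplicative.ofAdd 1 := by decide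
    rcases key z with rfl | rfl
    · refine Subgroup.mem_sup_right ⟨x, ?_⟩
      show (e.symm (1, x) : G) = g
      rw [← hzx, e.symm_apply_apply]
    · have : (g : G) = t * j x := by
        have h : (⟨g, hg⟩ : ↥C) = ⟨t, htC⟩ * e.symm (1, x) := e.injective (by
          rw [map_mul, het, e.apply_symm_apply, hzx]; simp)
        exact congrArg Subtype.val h
      rw [this]
      exact Subgroup.mul_mem_sup (Subgroup.mem_zpowers t) ⟨x, rfl⟩

end Cfsg.Agent.Lib.JankoThompson
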