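/-
A simple group with abelian Sylow 2-subgroups and an involution centraliser `⟨t⟩ × PSL₂(q)`, `q` odd:
the torus data.
-/
import Cfsg.Agent.Lib.JankoThompson.Local.TorusY
import Cfsg.Agent.Lib.Walter.Fusion

set_option autoImplicit false
set_option linter.unusedSectionVars false
set_option linter.style.haveILetI false

universe u v

namespace Cfsg.Agent.Lib.JankoThompson

open Subgroup Walter66

variable {G : Type u} [Group G] [Finite G] [IsSimpleGroup G] {F : Type v} [Field F] [Fintype F]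
  {t : G} (c : Cfg G F t)

theorem q_mod_eight (c : Cfg G F t) (hab : ∀ P : Sylow 2 G, ∀ a b : P, a * b = b * a)
    (hodd : Odd (Fintype.card F)) : Fintype.card F % 8 = 3 ∨ Fintype.card F % 8 = 5 :=
  Local.q_mod_eight c hab hodd

theorem exists_torus (hab : ∀ P : Sylow 2 G, ∀ a b : P, a * b = b * a)
    (h8 : Fintype.card F % 8 = 3 ∨ Fintype.card F % 8 = 5) : Nonempty (Torus c) := by
  haveI : Fact (Nat.Prime 2) := ⟨Nat.prime_two⟩
  have hodd : Odd (Fintype.card F) := Nat.odd_iff.2 (by omega)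
  have hC := Local.conf c hab hodd
  obtain ⟨a, b, r, T⟩ := hC.exists_tri
  obtain ⟨P, hcard, hP⟩ := Local.exists_sylow_eight c hC T
  obtain ⟨hall8, -⟩ := Local.sylow_facts c hab hodd
  set N := normalizer ((P : Subgroup G) : Set G) with hN
  have habP : IsMulCommutative (P : Subgroup G) := ⟨⟨hab P⟩⟩
  have ha1 := ne_one_of_ord T.ha
  have hb1 := ne_one_of_ord T.hb
  have ht1 := c.ne_one
  have haa := sq_of_ord T.ha
  have hbb := sq_of_ord T.hb
  let A : G → Prop := fun v => v = a ∨ v = b ∨ v = a * b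
  have hA1 : ∀ {v}, A v → v ≠ 1 := by
    rintro v (rfl | rfl | rfl)
    exacts [ha1, hb1, fun h => T.ne (by
      rw [eq_inv_of_mul_eq_one_left h, inv_eq_of_mul_eq_one_right hbb])]
  have hAK : ∀ {v}, A v → v ∈ c.K := by
    rintro v (rfl | rfl | rfl)
    exacts [T.amem, T.bmem, mul_mem T.amem T.bmem]
  have hAsq : ∀ {v}, A v → v * v = 1 := by
    rintro v (rfl | rfl | rfl)
    exacts [haa, hbb, by
      rw [(show Commute b a from T.comm.symm).mul_mul_mul_comm, haa, hbb, one_mul]]
  have hAP : ∀ {v}, A v → v ∈ (P : Subgroup G) := fun {v} hv =>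
    (hP v).2 ⟨v, Or.inr hv, Or.inl rfl⟩
  have htP : t ∈ (P : Subgroup G) := (hP t).2 ⟨1, Or.inl rfl, Or.inr (mul_one t).symm⟩
  have hcases : ∀ {p}, p ∈ (P : Subgroup G) → p ≠ 1 →
      p = t ∨ A p ∨ ∃ v, A v ∧ p = t * v := by
    intro p hp hp1
    obtain ⟨v, hv, hpv⟩ := (hP p).1 hp
    rcases hv with rfl | hv
    · rcases hpv with rfl | rfl
      · exact absurd rfl hp1
      · exact Or.inl (mul_one t)
    · rcases hpv with rfl | rfl
      exacts [Or.inr (Or.inl hv), Or.inr (Or.inr ⟨v, hv, rfl⟩)]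
  have hcommP : ∀ {x y : G}, x ∈ (P : Subgroup G) → y ∈ (P : Subgroup G) → x * y = y * x :=
    fun hx hy => congrArg Subtype.val (habP.1.1 ⟨_, hx⟩ ⟨_, hy⟩)
  have htv : ∀ {v}, A v → t * v ≠ t := fun hv h => hA1 hv (mul_eq_left.1 h)
  have hsqP : ∀ {x}, x ∈ (P : Subgroup G) → x * x = 1 := by
    intro x hx
    rcases eq_or_ne x 1 with rfl | hx1
    · rw [mul_one]
    rcases hcases hx hx1 with rfl | hv | ⟨v, hv, rfl⟩
    · exact c.sq
    · exact hAsq hv
    · rw [(show Commute v t from hcommP (hAP hv) htP).mul_mul_mul_comm, c.sq, hAsq hv, one_mul]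
  -- the element `r`
  have hrt : r * t * r⁻¹ = t := by rw [← (c.comm T.rmem).eq, mul_inv_cancel_right]
  have hrb : r * b * r⁻¹ = a := T.cb
  have hra : r * a * r⁻¹ = a * b := T.ca
  have hrab : r * (a * b) * r⁻¹ = b := by
    rw [show r * (a * b) * r⁻¹ = (r * a * r⁻¹) * (r * b * r⁻¹) by group, hra, hrb, T.comm,
      mul_assoc, haa, mul_one]
  have hrA : ∀ {v}, A v → A (r * v * r⁻¹) := by
    rintro v (rfl | rfl | rfl)
    exacts [Or.inr (Or.inr hra), Or.inl hrb, Or.inr (Or.inl hrab)]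
  have hrN : r ∈ N := by
    refine PSLTwo.Sylow.mem_normalizer_of_conj_mem fun p hp => ?_
    rcases eq_or_ne p 1 with rfl | hp1
    · simp
    rcases hcases hp hp1 with rfl | hv | ⟨v, hv, rfl⟩
    · rw [hrt]; exact htP
    · exact hAP (hrA hv)
    · rw [show r * (t * v) * r⁻¹ = (r * t * r⁻¹) * (r * v * r⁻¹) by group, hrt]
      exact mul_mem htP (hAP (hrA hv))
  have hr1 : r ≠ 1 := by
    rintro rfl
    exact T.ne (by simpa using hrb.symm)
  have hr3 : orderOf r = 3 := by
    have e : ∀ v, r ^ 3 * v * (r ^ 3)⁻¹ = r * (r * (r * v * r⁻¹) * r⁻¹) * r⁻¹ := fun v => by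
      rw [pow_three]; group
    have h3a : r ^ 3 * a = a * r ^ 3 := mul_inv_eq_iff_eq_mul.1 (by rw [e, hra, hrab, hrb])
    have h3b : r ^ 3 * b = b * r ^ 3 := mul_inv_eq_iff_eq_mul.1 (by rw [e, hrb, hra, hrab])
    haveI : Fact (Nat.Prime 3) := ⟨Nat.prime_three⟩
    refine orderOf_eq_prime ?_ hr1
    have hfix : r * r ^ 3 * r⁻¹ = r ^ 3 := by
      rw [← pow_succ', pow_succ, mul_inv_cancel_right]
    rcases T.cent₀ _ (pow_mem T.rmem 3) h3a h3b with h | h | h | h
    · exact h
    · rw [h, hra] at hfix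
      exact absurd (mul_eq_left.1 hfix) hb1
    · rw [h, hrb] at hfix
      exact absurd hfix T.ne
    · rw [h, hrab] at hfix
      exact absurd (mul_eq_right.1 hfix.symm) ha1
  -- irreducibility
  have hna : ¬ IsMulCommutative G := fun h => T.ne (by
    rw [h.1.1 r b, mul_inv_cancel_right] at hrb
    exact hrb.symm)
  have hOm : ∀ {x}, x ∈ (P : Subgroup G) → x ∈ Walter.Om P := fun {x} hx =>
    (Walter.mem_Om habP).2 ⟨hx, by rw [pow_two]; exact hsqP hx⟩
  have hirr : ∀ U : Subgroup G, U ≤ (P : Subgroup G) →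
      (∀ n ∈ N, ∀ x ∈ U, n * x * n⁻¹ ∈ U) → U = ⊥ ∨ (P : Subgroup G) ≤ U := by
    intro U hU hUn
    rcases (Walter.fusion G inferInstance hna (fun S => ⟨⟨hab S⟩⟩) P).1 U
      (fun x hx => hOm (hU hx)) hUn with h | h
    · exact Or.inl h
    · exact Or.inr fun x hx => h ▸ hOm hx
  -- the orbit of `t`
  let O : G → Prop := fun x => ∃ n ∈ N, n * t * n⁻¹ = x
  have hOconj : ∀ {n x}, n ∈ N → O x → O (n * x * n⁻¹) := by
    rintro n x hn ⟨m, hm, rfl⟩
    exact ⟨n * m, mul_mem hn hm, by group⟩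
  have hOback : ∀ {n x}, n ∈ N → O (n * x * n⁻¹) → O x := fun {n x} hn h => by
    have := hOconj (inv_mem hn) h
    simpa [mul_assoc] using this
  have hAclosed : ∀ {v w}, A v → A w → O v → O w := by
    intro v w hv hw hO
    have h1 := hOconj hrN hO
    have h2 := hOconj hrN h1
    rcases hv with rfl | rfl | rfl <;> rcases hw with rfl | rfl | rfl <;>
      simp only [hra, hrb, hrab] at h1 h2 <;> assumption
  have hBclosed : ∀ {v w}, A v → A w → O (t * v) → O (t * w) := by
    intro v w hv hw hO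
    have e : ∀ x : G, r * (t * x) * r⁻¹ = t * (r * x * r⁻¹) := fun x => by
      rw [show r * (t * x) * r⁻¹ = (r * t * r⁻¹) * (r * x * r⁻¹) by group, hrt]
    have h1 := hOconj hrN hO
    have h2 := hOconj hrN h1
    rcases hv with rfl | rfl | rfl <;> rcases hw with rfl | rfl | rfl <;>
      simp only [e, hra, hrb, hrab] at h1 h2 <;> assumption
  have hOt : O t := ⟨1, one_mem _, by simp⟩
  have himg : ∀ {n x}, n ∈ N → x ∈ (P : Subgroup G) → x ≠ 1 →
      n * x * n⁻¹ ∈ (P : Subgroup G) ∧ n * x * n⁻¹ ≠ 1 := fun {n x} hn hx hx1 =>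
    ⟨(mem_normalizer_iff.1 hn x).1 hx, fun h => hx1 (conj_eq_one_iff.1 h)⟩
  have hB : O (t * a) := by
    by_contra hB
    have hnB : ∀ {v}, A v → ¬ O (t * v) := fun hv h => hB (hBclosed hv (Or.inl rfl) h)
    have hA : O a := by
      by_contra hA
      have hfix : ∀ n ∈ N, n * t * n⁻¹ = t := by
        intro n hn
        obtain ⟨h1, h2⟩ := himg hn htP ht1
        have hO : O (n * t * n⁻¹) := hOconj hn hOt
        rcases hcases h1 h2 with h | h | ⟨v, hv, h⟩
        · exact h
        · exact absurd (hAclosed h (Or.inl rfl) hO) hA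
        · exact absurd (h ▸ hO) (hnB hv)
      rcases hirr (zpowers t) (zpowers_le.2 htP) (fun n hn x hx => by
        obtain ⟨k, rfl⟩ := mem_zpowers_iff.1 hx
        rw [← conj_zpow, hfix n hn]
        exact zpow_mem (mem_zpowers t) k) with h | h
      · exact ht1 (zpowers_eq_bot.1 h)
      · exact Local.not_mem c (by
          have ha' := h (hAP (Or.inl rfl))
          obtain ⟨k, hk⟩ := mem_zpowers_iff.1 ha'
          rcases Int.even_or_odd k with ⟨j, rfl⟩ | ⟨j, rfl⟩
          · rw [← two_mul, zpow_mul, zpow_two, c.sq, one_zpow] at hk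
            exact absurd hk.symm ha1
          · rw [zpow_add, zpow_one, zpow_mul, zpow_two, c.sq, one_zpow, one_mul] at hk
            exact (congrArg (· ∈ c.K) hk).mpr T.amem)
    obtain ⟨n, hn, hna'⟩ := hA
    have hmap : ∀ {v}, A v → ∃ w, A w ∧ n * (t * v) * n⁻¹ = t * w := by
      intro v hv
      have hvP := mul_mem htP (hAP hv)
      have hv1 : t * v ≠ 1 := fun h => Local.not_mem c
        ((congrArg (· ∈ c.K) (eq_inv_of_mul_eq_one_left h)).mpr (inv_mem (hAK hv)))
      obtain ⟨h1, h2⟩ := himg hn hvP hv1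
      rcases hcases h1 h2 with h | h | h
      · exact absurd (hOback hn (show O (n * (t * v) * n⁻¹) by rw [h]; exact hOt)) (hnB hv)
      · exact absurd (hOback hn (hAclosed (Or.inl rfl) h ⟨n, hn, hna'⟩)) (hnB hv)
      · exact h
    obtain ⟨x, hx, ex⟩ := hmap (Or.inl rfl : A a)
    obtain ⟨y, hy, ey⟩ := hmap (Or.inr (Or.inl rfl) : A b)
    obtain ⟨z, hz, ez⟩ := hmap (Or.inr (Or.inr rfl) : A (a * b))
    have hxy : x ≠ y := fun h => T.ne
      (mul_left_cancel (mul_left_cancel (mul_right_cancel (ex.trans (h ▸ ey.symm)))))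
    have hxz : x ≠ z := fun h => hb1 (mul_eq_left.1
      (mul_left_cancel (mul_left_cancel (mul_right_cancel (ex.trans (h ▸ ez.symm))))).symm)
    have hyz : y ≠ z := fun h => ha1 (mul_eq_right.1
      (mul_left_cancel (mul_left_cancel (mul_right_cancel (ey.trans (h ▸ ez.symm))))).symm)
    have hxyz : z = x * y := by
      have h1 : b * a = a * b := T.comm.symm
      have h2 : a * (a * b) = b := by rw [← mul_assoc, haa, one_mul]
      have h3 : a * b * a = b := by rw [T.comm, mul_assoc, haa, mul_one]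
      have h4 : b * (a * b) = a := by rw [T.comm, ← mul_assoc, hbb, one_mul]
      have h5 : a * b * b = a := by rw [mul_assoc, hbb, mul_one]
      rcases hx with rfl | rfl | rfl <;> rcases hy with rfl | rfl | rfl <;>
        rcases hz with rfl | rfl | rfl <;>
        first
        | exact absurd rfl hxy
        | exact absurd rfl hxz
        | exact absurd rfl hyz
        | simp only [h1, h2, h3, h4, h5]
    have key : n * (t * a) * n⁻¹ * (n * (t * b) * n⁻¹) * (n * (t * (a * b)) * n⁻¹) =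
        n * t * n⁻¹ := by
      rw [show n * (t * a) * n⁻¹ * (n * (t * b) * n⁻¹) * (n * (t * (a * b)) * n⁻¹) =
        n * ((t * a) * (t * b) * (t * (a * b))) * n⁻¹ by group,
        (show Commute a t from hcommP (hAP (Or.inl rfl)) htP).mul_mul_mul_comm t b, c.sq, one_mul,
        ← mul_assoc (a * b) t, hcommP (hAP (Or.inr (Or.inr rfl))) htP, mul_assoc t,
        hAsq (Or.inr (Or.inr rfl) : A (a * b)), mul_one]
    rw [ex, ey, ez, hna', hxyz, (show Commute x t from hcommP (hAP hx) htP).mul_mul_mul_comm t y,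
      c.sq, one_mul, ← mul_assoc (x * y) t, hcommP (mul_mem (hAP hx) (hAP hy)) htP, mul_assoc t,
      hsqP (mul_mem (hAP hx) (hAP hy)), mul_one] at key
    exact Local.not_mem c ((congrArg (· ∈ c.K) key).mpr T.amem)
  have hA : O a := by
    by_contra hA
    have hnA : ∀ {v}, A v → ¬ O v := fun hv h => hA (hAclosed hv (Or.inl rfl) h)
    set U := closure ({a, b} : Set G) with hU
    have hUm : ∀ {x}, x ∈ U ↔ x = 1 ∨ A x := fun {x} =>
      Walter.NoField.mem_closure_pair haa hbb T.comm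
    rcases hirr U ((closure_le _).2 (by
      rintro x (rfl | rfl)
      exacts [hAP (Or.inl rfl), hAP (Or.inr (Or.inl rfl))])) (fun n hn x hx => by
      rcases hUm.1 hx with rfl | hv
      · simp
      refine hUm.2 (Or.inr ?_)
      obtain ⟨h1, h2⟩ := himg hn (hAP hv) (hA1 hv)
      rcases hcases h1 h2 with h | h | ⟨w, hw, h⟩
      · exact absurd (hOback hn (h ▸ hOt)) (hnA hv)
      · exact h
      · exact absurd (hOback hn (h ▸ hBclosed (Or.inl rfl) hw hB)) (hnA hv)) with h | h
    · exact ha1 (mem_bot.1 (h ▸ hUm.2 (Or.inr (Or.inl rfl))))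
    · rcases hUm.1 (h htP) with h' | h'
      · exact ht1 h'
      · exact Local.not_mem c (hAK h')
  have hOall : ∀ {p}, p ∈ (P : Subgroup G) → p ≠ 1 → O p := by
    intro p hp hp1
    rcases hcases hp hp1 with rfl | h | ⟨v, hv, rfl⟩
    exacts [hOt, hAclosed (Or.inl rfl) h hA, hBclosed (Or.inl rfl) hv hB]
  have hclass : ∀ x : G, orderOf x = 2 → IsConj t x := by
    intro x hx
    obtain ⟨g, hg⟩ := Walter.exists_conj_mem_Om habP hx
    have hg1 : g * x * g⁻¹ ≠ 1 := fun h => ne_one_of_ord hx (conj_eq_one_iff.1 h)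
    obtain ⟨n, -, hn⟩ := hOall (Walter.Om_le P hg) hg1
    exact (isConj_iff.2 ⟨n, hn⟩).trans (isConj_iff.2 ⟨g, rfl⟩).symm
  -- the line through `t`
  obtain ⟨n, hn, hnt⟩ := hA
  obtain ⟨m, hmN, hma⟩ : ∃ m ∈ N, m * a * m⁻¹ = t :=
    ⟨n⁻¹, inv_mem hn, by rw [← hnt]; group⟩
  obtain ⟨w, hw, hz⟩ : ∃ w, A w ∧ m * t * m⁻¹ = t * w := by
    obtain ⟨h1, h2⟩ := himg hmN htP ht1
    rcases hcases h1 h2 with h | h | h
    · exact absurd (mul_left_cancel (mul_right_cancel (h.trans hma.symm)))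
        fun e => Local.not_mem c ((congrArg (· ∈ c.K) e).mpr T.amem)
    · exfalso
      obtain ⟨k, hk, hkt, hka⟩ : ∃ k ∈ N, k * t * k⁻¹ = t ∧ k * (m * t * m⁻¹) * k⁻¹ = a := by
        rcases h with e | e | e <;> rw [e]
        · exact ⟨1, one_mem _, by simp, by simp⟩
        · exact ⟨r, hrN, hrt, hrb⟩
        · refine ⟨r * r, mul_mem hrN hrN, ?_, ?_⟩
          · rw [show r * r * t * (r * r)⁻¹ = r * (r * t * r⁻¹) * r⁻¹ by group, hrt, hrt]
          · rw [show r * r * (a * b) * (r * r)⁻¹ = r * (r * (a * b) * r⁻¹) * r⁻¹ by group, hrab,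
              hrb]
      refine Local.not_mem c ((congrArg (· ∈ c.K) (Local.not_swap hab c.sq haa
        (hcommP htP (hAP (Or.inl rfl))) (d := k * m) ?_ ?_)).mpr T.amem)
      · rw [← hka]; group
      · rw [show k * m * a * (k * m)⁻¹ = k * (m * a * m⁻¹) * k⁻¹ by group, hma, hkt]
    · exact h
  set x := m * b * m⁻¹ with hxdef
  have htx : m * (a * b) * m⁻¹ = t * x := by
    rw [show m * (a * b) * m⁻¹ = (m * a * m⁻¹) * (m * b * m⁻¹) by group, hma]
  set σ := m * r * m⁻¹ with hσdef
  have hσ : ∀ y, σ * (m * y * m⁻¹) * σ⁻¹ = m * (r * y * r⁻¹) * m⁻¹ := fun y => by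
    rw [hσdef]; group
  have hσt : σ * t * σ⁻¹ = t * x := by rw [← hma, hσ, hra, htx, hma]
  have hσx : σ * x * σ⁻¹ = t := by rw [hxdef, hσ, hrb, hma]
  have hσtx : σ * (t * x) * σ⁻¹ = x := by rw [← htx, hσ, hrab]
  have hσz : σ * (t * w) * σ⁻¹ = t * w := by rw [← hz, hσ, hrt]
  have hσord : orderOf σ = 3 := by rw [hσdef, Involutions.Basic.orderOf_conj_eq, hr3]
  obtain ⟨hxP, hx1⟩ := himg hmN (hAP (Or.inr (Or.inl rfl))) hb1
  have hxt : x ≠ t := fun h => T.ne
    (mul_left_cancel (mul_right_cancel (hma.trans h.symm)))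
  obtain ⟨s, hs, ρ, hρord, hρt, hρs, hρz⟩ : ∃ s, A s ∧ ∃ ρ, orderOf ρ = 3 ∧
      ρ * t * ρ⁻¹ = s ∧ ρ * s * ρ⁻¹ = t * s ∧ Commute ρ (t * w) := by
    have hz' : Commute σ (t * w) := mul_inv_eq_iff_eq_mul.1 hσz
    rcases hcases hxP hx1 with h | h | ⟨v, hv, h⟩
    · exact absurd h hxt
    · refine ⟨x, h, σ * σ, ?_, ?_, ?_, hz'.mul_left hz'⟩
      · rw [← pow_two, Nat.Coprime.orderOf_pow (by rw [hσord]; norm_num), hσord]
      · rw [show σ * σ * t * (σ * σ)⁻¹ = σ * (σ * t * σ⁻¹) * σ⁻¹ by group, hσt, hσtx]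
      · rw [show σ * σ * x * (σ * σ)⁻¹ = σ * (σ * x * σ⁻¹) * σ⁻¹ by group, hσx, hσt]
    · have htxv : t * x = v := by rw [hxdef, h, ← mul_assoc, c.sq, one_mul]
      exact ⟨v, hv, σ, hσord, htxv ▸ hσt, by rw [← htxv, hσtx, ← mul_assoc, c.sq, one_mul], hz'⟩
  have hws : w ≠ s := fun h => by
    have e : ρ * (t * s) * ρ⁻¹ = t := by
      rw [show ρ * (t * s) * ρ⁻¹ = (ρ * t * ρ⁻¹) * (ρ * s * ρ⁻¹) by group, hρt, hρs,
        hcommP htP (hAP hs), ← mul_assoc, hAsq hs, one_mul]
    rw [h] at hρz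
    rw [hρz.eq, mul_inv_cancel_right] at e
    exact hA1 hs (mul_eq_left.1 e)
  have hord : ∀ {v}, A v → orderOf v = 2 := fun hv =>
    orderOf_eq_prime (by rw [pow_two]; exact hAsq hv) (hA1 hv)
  have hfour : ∀ g ∈ c.K, g * s = s * g → g * w = w * g →
      g = 1 ∨ g = s ∨ g = w ∨ g = s * w := by
    intro g hg h1 h2
    have hgs : Commute g s := h1
    have hgw : Commute g w := h2
    have hcov : ∀ {v}, A v → v = s ∨ v = w ∨ v = s * w := by
      have e1 : b * a = a * b := T.comm.symm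
      have e2 : a * (a * b) = b := by rw [← mul_assoc, haa, one_mul]
      have e3 : a * b * a = b := by rw [T.comm, mul_assoc, haa, mul_one]
      have e4 : b * (a * b) = a := by rw [T.comm, ← mul_assoc, hbb, one_mul]
      have e5 : a * b * b = a := by rw [mul_assoc, hbb, mul_one]
      intro v hv
      rcases hs with hs | hs | hs <;> rcases hw with hw | hw | hw <;>
        rcases hv with hv | hv | hv <;>
        first
        | exact absurd (hw.trans hs.symm) hws
        | exact Or.inl (hv.trans hs.symm)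
        | exact Or.inr (Or.inl (hv.trans hw.symm))
        | exact Or.inr (Or.inr (by rw [hv, hs, hw] <;> first | exact e1.symm | exact e2.symm | exact e3.symm | exact e4.symm | exact e5.symm))
    have hgA : ∀ {v}, A v → g * v = v * g := by
      intro v hv
      rcases hcov hv with e | e | e <;> rw [e]
      exacts [hgs.eq, hgw.eq, (hgs.mul_right hgw).eq]
    rcases T.cent₀ g hg (hgA (Or.inl rfl)) (hgA (Or.inr (Or.inl rfl))) with rfl | e | e | e
    · exact Or.inl rfl
    · exact Or.inr (hcov (Or.inl e))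
    · exact Or.inr (hcov (Or.inr (Or.inl e)))
    · exact Or.inr (hcov (Or.inr (Or.inr e)))
  obtain ⟨Y, hY⟩ := Local.exists_torusY c hab h8 (hAK hs) (hAK hw) (hord hs) (hord hw)
    (Ne.symm hws) (hcommP (hAP hs) (hAP hw)) hfour T.oddCent
  have hss := hAsq hs
  have hcts : ∀ g : G, Commute g t → Commute g s →
      ∃ a' ∈ closure ({t, s} : Set G) ⊔ Y, g = a' ∨ g = a' * w := by
    intro g hgt hgs
    obtain ⟨e, he, hge⟩ := Local.decomp c hgt.eq
    have hts : Commute t s := hcommP htP (hAP hs)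
    have hes : Commute e s := by
      rcases hge with rfl | rfl
      · exact hgs
      · have := (hts.symm.symm : Commute t s).inv_left.mul_left hgs
        rwa [inv_mul_cancel_left] at this
    obtain ⟨h, hh, v, hv, rfl⟩ := hY.cent e he hes
    set M := closure ({t, s} : Set G) ⊔ Y
    have htM : t ∈ M := mem_sup_left (subset_closure (Or.inl rfl))
    have hsM : s ∈ M := mem_sup_left (subset_closure (Or.inr rfl))
    have hhM : h ∈ M := mem_sup_right hh
    obtain ⟨q, hq, hqe⟩ : ∃ q ∈ M, h * v = q ∨ h * v = q * w := by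
      rcases hv with rfl | rfl | rfl | rfl
      · exact ⟨h, hhM, Or.inl (mul_one h)⟩
      · exact ⟨h * v, mul_mem hhM hsM, Or.inl rfl⟩
      · exact ⟨h, hhM, Or.inr rfl⟩
      · exact ⟨h * s, mul_mem hhM hsM, Or.inr (mul_assoc h s w).symm⟩
    rcases hge with rfl | rfl
    · exact ⟨q, hq, hqe⟩
    · refine ⟨t * q, mul_mem htM hq, ?_⟩
      rcases hqe with e' | e'
      exacts [Or.inl (by rw [e']), Or.inr (by rw [e', mul_assoc])]
  have hcty : ∀ y ∈ Y, y ≠ 1 → ∀ g : G, Commute g t → Commute g y →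
      g ∈ closure ({t, s} : Set G) ⊔ Y := by
    intro y hy hy1 g hgt hgy
    have hty : Commute t y := c.comm (hY.le hy)
    obtain ⟨e, he, hge⟩ := Local.decomp c hgt.eq
    have hey : Commute e y := by
      rcases hge with rfl | rfl
      · exact hgy
      · have := hty.inv_left.mul_left hgy
        rwa [inv_mul_cancel_left] at this
    have hyo : Odd (orderOf y) := hY.odd.of_dvd_nat (Subgroup.orderOf_dvd_natCard _ hy)
    have hes : Commute e s :=
      (T.oddCent y (hY.le hy) hyo hy1 e he s (hAK hs) hey.eq (hY.comm y hy).eq).1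
    obtain ⟨h, hh, v, hv, rfl⟩ := hY.cent e he hes
    have hhy : Commute h y := by
      haveI := hY.cyc
      exact congrArg Subtype.val (IsCyclic.commGroup.mul_comm (⟨h, hh⟩ : ↥Y) ⟨y, hy⟩)
    have hvy : Commute v y := by
      have := hhy.inv_left.mul_left hey
      rwa [inv_mul_cancel_left] at this
    have hno : ¬ Commute w y := fun hwy => by
      have e' := hY.inv y hy
      rw [hwy.eq, mul_inv_cancel_right] at e'
      have hd : orderOf y ∣ 2 := orderOf_dvd_of_pow_eq_one (by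
        rw [pow_two]; nth_rw 2 [e']; exact mul_inv_cancel y)
      rcases (Nat.dvd_prime Nat.prime_two).1 hd with h1 | h1
      · exact hy1 (orderOf_eq_one_iff.1 h1)
      · rw [h1] at hyo
        exact absurd hyo (by decide)
    set M := closure ({t, s} : Set G) ⊔ Y
    have htM : t ∈ M := mem_sup_left (subset_closure (Or.inl rfl))
    have hsM : s ∈ M := mem_sup_left (subset_closure (Or.inr rfl))
    have hhv : h * v ∈ M := by
      rcases hv with rfl | rfl | rfl | rfl
      · rw [mul_one]; exact mem_sup_right hh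
      · exact mul_mem (mem_sup_right hh) hsM
      · exact absurd hvy hno
      · refine absurd ?_ hno
        have := (hY.comm y hy).inv_left.mul_left hvy
        rwa [inv_mul_cancel_left] at this
    rcases hge with rfl | rfl
    exacts [hhv, mul_mem htM hhv]
  refine ⟨⟨Y, s, w, ρ, hAK hs, hord hs, hAK hw, hord hw, hws, hcommP (hAP hs) (hAP hw), hY.le,
    hY.cyc, hY.card, hY.odd, hY.comm, hY.inv, hcts, hcty, hρord, hρz, hρt, hρs, ?_, hclass,
    hall8⟩⟩
  intro y hy
  have hty : Commute t y := c.comm (hY.le hy)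
  have hsy : Commute s y := hY.comm y hy
  have hys : Commute (ρ * y * ρ⁻¹) s := by
    have := hty.symm.map (MulAut.conj ρ).toMonoidHom
    simpa [hρt] using this
  have hyts : Commute (ρ * y * ρ⁻¹) (t * s) := by
    have := hsy.symm.map (MulAut.conj ρ).toMonoidHom
    simpa [hρs] using this
  have hyt : Commute (ρ * y * ρ⁻¹) t := by
    have := hyts.mul_right hys
    rwa [mul_assoc t, hss, mul_one] at this
  have hyo : Odd (orderOf (ρ * y * ρ⁻¹)) := by
    rw [Involutions.Basic.orderOf_conj_eq]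
    exact hY.odd.of_dvd_nat (Subgroup.orderOf_dvd_natCard _ hy)
  exact hY.mem _ (hC.odd_mem hyt.eq hyo) hys hyo

end Cfsg.Agent.Lib.JankoThompson
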