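import Cfsg.Agent.Lib.JankoThompson.Table
import Cfsg.Agent.Lib.JankoThompson.FreeEight
import Mathlib.FieldTheory.Finite.Basic
import Mathlib.GroupTheory.Perm.Cycle.Type

/-!
# Janko–Thompson: the order of the group from the table

Owner: helper3.
-/

set_option autoImplicit false
set_option linter.style.haveILetI false

universe u v

namespace Cfsg.Agent.Lib.JankoThompson

open Subgroup

variable {G : Type u} [Group G] {F : Type v} [Field F] [Fintype F] {t : G}

/-- An element of order three without fixed points on the torus. -/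
theorem torus_mod_three [Finite G] {c : Cfg G F t} (d : Torus c) (hY : d.Y₁ = ⊥) :
    Nat.card ↥d.Y % 3 = 1 := by
  classical
  haveI : Fintype ↥d.Y := Fintype.ofFinite _
  haveI : Fact (Nat.Prime 3) := ⟨Nat.prime_three⟩
  let f : Function.End ↥d.Y := fun y => ⟨d.r * y * d.r⁻¹, d.r_Y y y.2⟩
  have hr : d.r ^ 3 = 1 := by rw [← d.r_ord, pow_orderOf_eq_one]
  have hf : f ^ 3 ^ 1 = 1 := by
    funext y
    rw [pow_one, pow_succ, pow_two]
    refine Subtype.ext ?_
    show d.r * (d.r * (d.r * (y : G) * d.r⁻¹) * d.r⁻¹) * d.r⁻¹ = (y : G)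
    rw [show d.r * (d.r * (d.r * (y : G) * d.r⁻¹) * d.r⁻¹) * d.r⁻¹ =
      d.r ^ 3 * (y : G) * (d.r ^ 3)⁻¹ by rw [pow_succ, pow_two]; group, hr]
    group
  have hfix : Fintype.card ↥(Function.fixedPoints f) = 1 := by
    rw [Fintype.card_eq_one_iff]
    refine ⟨⟨1, Subtype.ext (by show d.r * ((1 : ↥d.Y) : G) * d.r⁻¹ = _; simp)⟩, fun y => ?_⟩
    refine Subtype.ext (Subtype.ext ?_)
    have hy : d.r * ((y : ↥d.Y) : G) * d.r⁻¹ = ((y : ↥d.Y) : G) := congrArg Subtype.val y.2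
    have h1 : ((y : ↥d.Y) : G) ∈ d.Y₁ :=
      ⟨(y : ↥d.Y).2, mem_centralizer_singleton_iff.2 (mul_inv_eq_iff_eq_mul.1 hy).symm⟩
    rw [hY, mem_bot] at h1
    simpa using h1
  have h := Equiv.Perm.card_fixedPoints_modEq hf
  rw [hfix] at h
  rw [Nat.card_eq_fintype_card]
  exact h

/-- `3 b² = q M²` makes the prime power `q` an odd power of three. -/
theorem odd_power_three {p n b M : ℕ} (hp : p.Prime) (hM : M ≠ 0)
    (h : 3 * b ^ 2 = p ^ n * M ^ 2) : p = 3 ∧ Odd n := by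
  have hne : p ^ n * M ^ 2 ≠ 0 := mul_ne_zero (pow_ne_zero _ hp.ne_zero) (pow_ne_zero 2 hM)
  have hb : b ≠ 0 := fun e => hne (by rw [← h, e]; simp)
  have h1 := congrArg (fun x => Nat.factorization x 3) h
  simp only [Nat.factorization_mul (by norm_num : (3 : ℕ) ≠ 0) (pow_ne_zero 2 hb),
    Nat.factorization_mul (pow_ne_zero n hp.ne_zero) (pow_ne_zero 2 hM), Nat.factorization_pow,
    Finsupp.coe_add, Pi.add_apply, Finsupp.coe_smul, Pi.smul_apply, smul_eq_mul,
    Nat.prime_three.factorization_self] at h1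
  by_cases hp3 : p = 3
  · subst hp3
    rw [hp.factorization_self] at h1
    exact ⟨rfl, Nat.odd_iff.2 (by omega)⟩
  · rw [Nat.factorization_eq_zero_of_not_dvd fun h3 =>
      hp3 (((Nat.prime_dvd_prime_iff_eq Nat.prime_three hp).1 h3).symm)] at h1
    omega

/-- The table of a small Ree group gives the order of the group. -/
theorem order_of_ree [Fintype G] [Fintype (Cfsg.IrrCharacter G)] {c : Cfg G F t}
    {X : Tab (Cfsg.IrrCharacter G)} (hX : Princ c X) (hR : X.Ree)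
    (h11 : 11 ≤ Fintype.card F)
    (hC : GSide.Cent t c.K (sgnQ (Fintype.card F)) 1) :
    ∃ m : ℕ, 1 ≤ m ∧ Fintype.card F = 3 ^ (2 * m + 1) ∧
        Nat.card G =
          (3 ^ (2 * m + 1)) ^ 3 * ((3 ^ (2 * m + 1)) ^ 3 + 1) * (3 ^ (2 * m + 1) - 1) := by
  obtain ⟨q, hq⟩ : ∃ q, q = Fintype.card F := ⟨_, rfl⟩
  obtain ⟨hK, E, -, -, hb⟩ := hR
  rw [hX.K_eq, hX.Q_eq, ← hq] at hK
  rw [hX.Q_eq, ← hq] at hb
  obtain ⟨b, eb⟩ : ∃ b, b = X.x E.B₁ - X.x E.B₂ := ⟨_, rfl⟩
  rw [← eb] at hb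
  rw [← hq] at h11 hC ⊢
  have hQ : sgnQ q = q := by
    by_contra hne
    have hQ : sgnQ q = -(q : ℤ) := by
      rcases abs_eq (Int.natCast_nonneg q) |>.1 (sgnQ_abs q) with e | e
      · exact absurd e hne
      · exact e
    rw [hQ] at hb
    have hq0 : (1 : ℤ) < q := by exact_mod_cast (by omega : 1 < q)
    nlinarith [mul_pos (show (0 : ℤ) < q by omega)
      (mul_pos (show (0 : ℤ) < (q : ℤ) + 1 by omega) (show (0 : ℤ) < (q : ℤ) - 1 by omega)),
      sq_nonneg b, mul_pos (show (0 : ℤ) < (q : ℤ) + 1 by omega) (show (0 : ℤ) < (q : ℤ) - 1 by omega)]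
  rw [hQ] at hK hb hC
  have hCard : (Nat.card ↥(centralizer ({t} : Set G)) : ℚ) = (q : ℚ) * ((q : ℚ) ^ 2 - 1) := by
    have e := hC.part.card
    have h0 : (0 : ℤ) ≤ (q : ℤ) * ((q : ℤ) ^ 2 - 1) :=
      mul_nonneg (Int.natCast_nonneg q) (by nlinarith [show (1 : ℤ) ≤ q by omega])
    rw [Nat.cast_one, one_mul, abs_of_nonneg h0] at e
    rw [Walter.NoField.sec_card hC.split hC.ord]
    exact_mod_cast e
  have hn := (centralizer ({t} : Set G)).card_mul_index
  rw [GSide.kConst] at hK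
  have hi : ((centralizer ({t} : Set G)).index : ℚ) ≠ 0 :=
    Nat.cast_ne_zero.2 index_ne_zero_of_finite
  have hG : (Nat.card G : ℚ) = (q : ℚ) ^ 3 * ((q : ℚ) ^ 3 + 1) * ((q : ℚ) - 1) := by
    rw [← hn, Nat.cast_mul, hCard]
    push_cast at hK
    field_simp at hK
    have hq1 : ((q : ℚ) ^ 2 - 1) ≠ 0 := by
      have : (1 : ℚ) < q := by exact_mod_cast (by omega : 1 < q)
      nlinarith
    have hind : ((centralizer ({t} : Set G)).index : ℚ) = (q : ℚ) ^ 2 * ((q : ℚ) ^ 2 - q + 1) :=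
      mul_left_cancel₀ hq1 (by linear_combination -hK)
    rw [hind]; ring
  obtain ⟨p, hp⟩ := CharP.exists F
  haveI : Fact p.Prime := ⟨CharP.char_is_prime F p⟩
  obtain ⟨n, hp', hn'⟩ := FiniteField.card F p
  rw [← hq] at hn'
  have hb' : 3 * b.natAbs ^ 2 = p ^ (n : ℕ) * ((q - 1) * (q + 1)) ^ 2 := by
    rw [← hn']
    apply Int.natCast_inj.1
    push_cast [Nat.cast_sub (show 1 ≤ q by omega), sq_abs, Int.natCast_natAbs]
    linear_combination hb
  obtain ⟨rfl, hodd⟩ := odd_power_three hp' (mul_ne_zero (by omega) (by omega)) hb'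
  obtain ⟨m, hm⟩ := hodd
  refine ⟨m, ?_, by rw [hn', hm], ?_⟩
  · by_contra h0
    rw [hn', hm, show 2 * m + 1 = 1 by omega] at h11
    norm_num at h11
  · rw [← hm, ← hn']
    apply Nat.cast_injective (R := ℚ)
    push_cast [Nat.cast_sub (show 1 ≤ q by omega)]
    exact hG

end Cfsg.Agent.Lib.JankoThompson
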