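import Cfsg.Agent.Lib.JankoThompson.GSide.Interface
import Cfsg.Agent.Lib.JankoThompson.Setup
import Cfsg.Agent.Lib.Characters.Linear

/-!
# Janko–Thompson: the table of the principal block

From a table of separated projective functions (`GSide.IsTable`) for the trivial linear character:
the row of the trivial character is distinguished, and it is the only row of degree one.

Owner: helper3.
-/

set_option autoImplicit false
set_option linter.style.haveILetI false

universe u

namespace Cfsg.Agent.Lib.JankoThompson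

open Subgroup Cfsg.Agent.Lib.Walter.NoField Cfsg.Agent.Lib.Characters.Basic
open scoped ComplexConjugate

variable {G : Type u} [Group G] {t : G} {K : Subgroup G} {Q : ℤ} {c : ℕ}

/-- A simple group of order divisible by eight is perfect. -/
theorem GSide.Cent.perfect [Finite G] (h : GSide.Cent t K Q c) : commutator G = ⊤ := by
  haveI : Fact (Nat.Prime 2) := ⟨Nat.prime_two⟩
  haveI := h.simple
  refine (Subgroup.Normal.eq_bot_or_eq_top (inferInstance : (commutator G).Normal)).resolve_left
    fun e => ?_
  letI : CommGroup G :=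
    { (inferInstance : Group G) with
      mul_comm := fun a b => by
        have := commutator_mem_commutator (mem_top a) (mem_top b)
        rw [← commutator_def, e, mem_bot, commutatorElement_eq_one_iff_mul_comm] at this
        exact this }
  have hp : (Nat.card G).Prime := IsSimpleGroup.prime_card
  obtain ⟨S⟩ := (inferInstance : Nonempty (Sylow 2 G))
  have h8 := Subgroup.card_subgroup_dvd_card (S : Subgroup G)
  rw [h.card_sylow S] at h8
  rcases hp.eq_one_or_self_of_dvd 8 h8 with e8 | e8
  · norm_num at e8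
  · rw [← e8] at hp; norm_num at hp

/-- Only the trivial character of a perfect group has degree one. -/
theorem eq_oneChar_of_apply_one (hG : commutator G = ⊤) (χ : Cfsg.IrrCharacter G)
    (h1 : (χ : G → ℂ) 1 = 1) : χ = oneChar G := by
  set φ := Characters.Linear.degOneHom (isCharacter_irr χ) h1 with hφ
  have hk : commutator G ≤ φ.ker := Abelianization.commutator_subset_ker φ
  rw [hG] at hk
  refine Subtype.ext (funext fun g => ?_)
  have : φ g = 1 := hk (mem_top g)
  rw [oneChar_apply, ← Characters.Linear.degOneHom_apply (isCharacter_irr χ) h1 g, ← hφ, this,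
    Units.val_one]

/-- The table of the principal block, with the trivial character as distinguished row. -/
theorem exists_tab [Fintype G] [Fintype (Cfsg.IrrCharacter G)] [Fintype ↥K]
    (hG : commutator G = ⊤) {g : Fin 3 → ↥K → ℂ} {X : GSide.BTab (Cfsg.IrrCharacter G)}
    (hX : GSide.IsTable t K Q g X)
    (hone : ∀ i, Cfsg.classInner (g i) 1 = if i = 0 then 1 else 0) :
    ∃ Y : Tab (Cfsg.IrrCharacter G), Y.o = oneChar G ∧ Y.Q = Q ∧ Y.K = GSide.kConst t Q ∧
      Y.d = X.d ∧ Y.T = X.T ∧ Y.a = X.a ∧ Y.b = X.b ∧ Y.c = X.c := by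
  have hval : ∀ i, secCoeff t K ((oneChar G : Cfsg.IrrCharacter G) : G → ℂ) (g i) =
      if i = 0 then 1 else 0 := fun i => by
    have e : secCoeff t K ((oneChar G : Cfsg.IrrCharacter G) : G → ℂ) (g i) =
        conj (Cfsg.classInner (g i) 1) := by
      simp only [secCoeff, oneChar_apply, Cfsg.classInner, Pi.one_apply, map_mul, map_sum, map_inv₀,
        map_natCast, map_one, one_mul, mul_one]
    rw [e, hone]
    split_ifs <;> simp
  have cast1 : ∀ {z : ℤ}, (z : ℂ) = 1 → z = 1 := fun h => by exact_mod_cast h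
  have cast0 : ∀ {z : ℤ}, (z : ℂ) = 0 → z = 0 := fun h => by exact_mod_cast h
  refine ⟨{ Q := X.Q, m := X.m, hm := X.hm, K := X.K, hK := X.hK, Nt := X.Nt, hNt := X.hNt
            o := oneChar G, d := X.d, T := X.T, a := X.a, b := X.b, c := X.c, d_pos := X.d_pos
            lin := fun χ hχ => eq_oneChar_of_apply_one hG χ (by rw [← hX.hd, hχ, Int.cast_one])
            d_o := cast1 (by rw [hX.hd, oneChar_apply])
            a_o := cast1 (by rw [hX.ha, hval, if_pos rfl])
            b_o := cast0 (by rw [hX.hb, hval, if_neg (by decide)])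
            c_o := cast0 (by rw [hX.hc, hval, if_neg (by decide)])
            T_o := cast1 (by rw [hX.hT', oneChar_apply])
            T_le := X.T_le, hT := X.hT, cong := X.cong, omega := X.omega
            aa := X.aa, bb := X.bb, cc := X.cc, ab := X.ab, ac := X.ac, bc := X.bc
            da := X.da, db := X.db, dc := X.dc, eqA := X.eqA, eqB := X.eqB, eqC := X.eqC },
    rfl, hX.hQ, hX.hK, rfl, rfl, rfl, rfl, rfl⟩

/-- The values of the projective functions at a non-trivial element of odd order of a torus. -/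
def TorusValues (K : Subgroup G) (g : Fin 3 → ↥K → ℂ) : Prop :=
  ∀ k : ↥K, ¬ 2 ∣ orderOf k → k ≠ 1 → (∃ s : ↥K, orderOf s = 2 ∧ Commute s k) →
    g 0 k = 0 ∧ g 1 k = -2 ∧ g 2 k = -2

/-- `X` is the table of the principal block of the group in the configuration `c`. -/
structure Princ {F : Type*} [Field F] [Fintype F] [Fintype G] [Fintype (Cfsg.IrrCharacter G)]
    (cf : Cfg G F t) (X : Tab (Cfsg.IrrCharacter G)) : Prop where
  o_eq : X.o = oneChar G
  Q_eq : X.Q = sgnQ (Fintype.card F)
  K_eq : X.K = GSide.kConst t (sgnQ (Fintype.card F))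
  hd : ∀ χ, (X.d χ : ℂ) = (χ : G → ℂ) 1
  hT' : ∀ χ, (X.T χ : ℂ) = (χ : G → ℂ) t
  proj : ∀ [Fintype ↥cf.K], ∃ g : Fin 3 → ↥cf.K → ℂ,
    GSide.IsProj cf.K (sgnQ (Fintype.card F)) 1 g ∧ TorusValues cf.K g ∧
    (∀ χ, (X.a χ : ℂ) = secCoeff t cf.K (χ : G → ℂ) (g 0)) ∧
    (∀ χ, (X.b χ : ℂ) = secCoeff t cf.K (χ : G → ℂ) (g 1)) ∧
    (∀ χ, (X.c χ : ℂ) = secCoeff t cf.K (χ : G → ℂ) (g 2))

end Cfsg.Agent.Lib.JankoThompson
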