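import Cfsg.Agent.Lib.JankoThompson.SLValues
import Cfsg.Agent.Lib.JankoThompson.Table
import Cfsg.Agent.Lib.JankoThompson.GSide.Proj
import Cfsg.Agent.Lib.JankoThompson.GSide.Block

/-!
# Janko–Thompson: the table of the principal block in the configuration `C(t) = ⟨t⟩ × PSL(2, q)`

Owner: helper3.
-/

set_option autoImplicit false
set_option linter.style.haveILetI false
set_option linter.unusedSectionVars false

universe u v

namespace Cfsg.Agent.Lib.JankoThompson

open Subgroup Cfsg.Agent.Lib.Characters.Basic Cfsg.Agent.Lib.Blocks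
open Cfsg.Agent.Lib.PSLTwo.Sylow Cfsg.Agent.Lib.Walter.NoField

section Lifts

variable {F : Type v} [Field F]

local notation "SL" => Matrix.SpecialLinearGroup (Fin 2) F
local notation "PSL" => Matrix.ProjectiveSpecialLinearGroup (Fin 2) F
local notation "π" => QuotientGroup.mk' (Subgroup.center (Matrix.SpecialLinearGroup (Fin 2) F))

theorem negOne_mem_center : (negOne : SL) ∈ center SL :=
  mem_center_iff.2 fun g => (negOne_central g).symm

theorem proj_eq_one {g : SL} : π g = (1 : PSL) ↔ g = 1 ∨ g = negOne := by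
  rw [QuotientGroup.mk'_apply, QuotientGroup.eq_one_iff]
  refine ⟨fun h => ?_, ?_⟩
  · by_contra hn
    push Not at hn
    have hs : NonScalar g := by
      by_contra h'
      exact (scalar_cases h').elim hn.1 hn.2
    obtain ⟨r, -, hr⟩ := Matrix.SpecialLinearGroup.mem_center_iff.1 h
    rcases hs with h' | h' | h' <;> apply h' <;> rw [← hr] <;> simp
  · rintro (rfl | rfl)
    exacts [one_mem _, negOne_mem_center]

/-- Lifts of a commuting pair consisting of an element of odd order and an involution. -/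
theorem exists_lift (h2 : (2 : F) ≠ 0) {P S : PSL} (hP : Odd (orderOf P)) (hP1 : P ≠ 1)
    (hS : orderOf S = 2) (hc : S * P = P * S) :
    ∃ g σ : SL, π g = P ∧ σ * σ = negOne ∧ g * σ = σ * g ∧ g ≠ 1 ∧ Odd (orderOf g) := by
  obtain ⟨σ, hσ⟩ := QuotientGroup.mk'_surjective (center SL) S
  obtain ⟨g₀, hg₀⟩ := QuotientGroup.mk'_surjective (center SL) P
  have hσ2 : σ * σ = negOne := by
    have h : π (σ * σ) = (1 : PSL) := by
      rw [map_mul, hσ, ← pow_two, orderOf_dvd_iff_pow_eq_one.1 (dvd_of_eq hS)]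
    refine (proj_eq_one.1 h).resolve_left fun e => ?_
    have hS1 : S = 1 := by rw [← hσ]; exact proj_eq_one.2 (sq_eq_one h2 e)
    rw [hS1, orderOf_one] at hS
    norm_num at hS
  obtain ⟨n, hn⟩ : ∃ n, n = orderOf P := ⟨_, rfl⟩
  rw [← hn] at hP
  have hneg : (negOne : SL) ^ n = negOne := by
    obtain ⟨k, rfl⟩ := hP
    rw [pow_succ, pow_mul, pow_two, negOne_sq, one_pow, one_mul]
  obtain ⟨g, hg, hgn⟩ : ∃ g : SL, π g = P ∧ g ^ n = 1 := by
    have h : π (g₀ ^ n) = (1 : PSL) := by rw [map_pow, hg₀, hn, pow_orderOf_eq_one]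
    rcases proj_eq_one.1 h with e | e
    · exact ⟨g₀, hg₀, e⟩
    · refine ⟨negOne * g₀, ?_, ?_⟩
      · rw [map_mul, proj_eq_one.2 (Or.inr rfl), one_mul, hg₀]
      · rw [(show Commute (negOne : SL) g₀ from negOne_central g₀).mul_pow, hneg, e, negOne_sq]
  have hcomm : g * σ = σ * g := by
    have h : π ((g * σ) * (σ * g)⁻¹) = (1 : PSL) := by
      rw [map_mul, map_inv, map_mul, map_mul, hg, hσ, hc, mul_inv_cancel]
    rcases proj_eq_one.1 h with e | e
    · exact mul_inv_eq_one.1 e
    · exfalso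
      have hc' : g * σ = negOne * (σ * g) := mul_inv_eq_iff_eq_mul.1 e
      have h1 : σ⁻¹ * g * (σ⁻¹)⁻¹ = negOne * g := by
        rw [inv_inv, mul_assoc, hc', ← mul_assoc, ← mul_assoc,
          mul_assoc σ⁻¹ negOne σ, negOne_central σ, ← mul_assoc σ⁻¹ σ negOne, inv_mul_cancel, one_mul]
      have h2' := congrArg (fun x => x ^ n) h1
      simp only [conj_pow, hgn, (show Commute (negOne : SL) g from negOne_central g).mul_pow, hneg,
        mul_one, mul_inv_cancel] at h2'
      exact negOne_ne_one h2 h2'.symm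
  exact ⟨g, σ, hg, hσ2, hcomm, fun e => hP1 (by rw [← hg, e, map_one]),
    hP.of_dvd_nat (orderOf_dvd_of_pow_eq_one hgn)⟩

end Lifts

variable {G : Type u} [Group G] {F : Type v} [Field F] [Fintype F] {t : G} {cf : Cfg G F t}

local notation "q" => Fintype.card F

/-- The projective functions on the torus. -/
theorem quad_torusValues [Finite G] [Fintype ↥cf.K] (h8 : q % 8 = 3 ∨ q % 8 = 5) (h5 : 5 ≤ q)
    {M : Ideal Cfsg.AlgInt} (D : GSide.Quad M ↥cf.K (sgnQ q)) : TorusValues cf.K D.g := by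
  classical
  intro k hk hk1 hs
  obtain ⟨s, hs2, hsk⟩ := hs
  have hodd : q % 2 = 1 := by omega
  have h2 := two_ne_zero_of_odd (F := F) hodd
  obtain ⟨g, σ, hg, hσ, hgσ, hg1, hgo⟩ := exists_lift h2 (P := cf.iso k) (S := cf.iso s)
    (by rw [MulEquiv.orderOf_eq]; exact Nat.odd_iff.2 (Nat.two_dvd_ne_zero.1 hk))
    (fun e => hk1 (cf.iso.map_eq_one_iff.1 e))
    (by rw [MulEquiv.orderOf_eq]; exact hs2) (by rw [← map_mul, ← map_mul, hsk.eq])
  set f : Matrix.SpecialLinearGroup (Fin 2) F →* ↥cf.K :=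
    cf.iso.symm.toMonoidHom.comp (QuotientGroup.mk' _) with hf
  have hfs : Function.Surjective f :=
    cf.iso.symm.surjective.comp (QuotientGroup.mk'_surjective _)
  have hfg : f g = k := by
    show cf.iso.symm (QuotientGroup.mk' _ g) = k
    rw [hg, MulEquiv.symm_apply_apply]
  have key : ∀ b : Fin 4, b ≠ 0 → (D.e b : ℂ) * (D.θ b : ↥cf.K → ℂ) k = if b = 1 then 1 else -1 := by
    intro b hb
    have hv := SLValues.values hodd h5 (isIrrCharacter_comp f hfs (D.θ b).2) hσ hgσ hg1 hgo
    simp only [Function.comp_apply, map_one, hfg] at hv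
    obtain ⟨d, hd0, hd⟩ := exists_degree_pos (D.θ b)
    have he := D.deg b
    rw [hd] at he
    have he' : D.e b * (d : ℤ) = GSide.quadDeg (sgnQ q) b := by exact_mod_cast he
    have hdz : (0 : ℤ) < d := by exact_mod_cast hd0
    by_cases h3 : q % 4 = 3
    · have hQ : sgnQ q = q := if_pos h3
      rw [if_pos h3, hd] at hv
      by_cases hb1 : b = 1
      · subst hb1
        simp only [GSide.quadDeg, hQ, Matrix.cons_val_one, Matrix.cons_val_zero] at he'
        rcases D.sign 1 with e | e <;> rw [e] at he' ⊢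
        · omega
        · rw [hv (Or.inl (by exact_mod_cast (show (d : ℤ) = q by omega))), if_pos rfl]; norm_num
      · have he2 : D.e b * (d : ℤ) = ((q : ℤ) - 1) / 2 := by
          rw [he', hQ]
          fin_cases b <;> simp [GSide.quadDeg] at hb hb1 ⊢
        rcases D.sign b with e | e <;> rw [e] at he2 ⊢
        · have : 2 * (d : ℤ) = q + (-1) := by omega
          rw [hv (Or.inr (by exact_mod_cast this)), if_neg hb1]; norm_num
        · omega
    · have hQ : sgnQ q = -(q : ℤ) := if_neg h3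
      rw [if_neg h3, hd] at hv
      by_cases hb1 : b = 1
      · subst hb1
        simp only [GSide.quadDeg, hQ, Matrix.cons_val_one, Matrix.cons_val_zero] at he'
        rcases D.sign 1 with e | e <;> rw [e] at he' ⊢
        · rw [hv (Or.inl (by exact_mod_cast (show (d : ℤ) = q by omega))), if_pos rfl]; norm_num
        · omega
      · have he2 : D.e b * (d : ℤ) = (-(q : ℤ) - 1) / 2 := by
          rw [he', hQ]
          fin_cases b <;> simp [GSide.quadDeg] at hb hb1 ⊢
        rcases D.sign b with e | e <;> rw [e] at he2 ⊢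
        · omega
        · have : 2 * (d : ℤ) = q + 1 := by omega
          rw [hv (Or.inr (by exact_mod_cast this)), if_neg hb1]; norm_num
  have h0 : (D.e 0 : ℂ) * (D.θ 0 : ↥cf.K → ℂ) k = 1 := by
    rw [D.e_zero, D.θ_zero, oneChar_apply]; norm_num
  refine ⟨?_, ?_, ?_⟩ <;>
    simp [GSide.Quad.g, GSide.Quad.idx, h0, key 1 (by decide), key 2 (by decide), key 3 (by decide)] <;>
    norm_num

/-- The table of the principal block. -/
theorem exists_princ [Fintype G] [Fintype (Cfsg.IrrCharacter G)]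
    (h8 : q % 8 = 3 ∨ q % 8 = 5) (h5 : 5 ≤ q) (hC : GSide.Cent t cf.K (sgnQ q) 1)
    (hO : GSide.FixedOdd t) : ∃ X : Tab (Cfsg.IrrCharacter G), Princ cf X := by
  classical
  letI := Fintype.ofFinite ↥cf.K
  obtain ⟨M, hM⟩ := exists_isPModular 2 Nat.prime_two
  obtain ⟨D⟩ := GSide.exists_quad hC.part hC.part.hasSteinberg M hM
  have h1 : (fun i k => D.g i k * (((1 : ↥cf.K →* ℂˣ) k : ℂˣ) : ℂ)) = D.g := by
    funext i k; simp
  have hsupp : ∀ i (k : ↥cf.K), 2 ∣ orderOf (k : G) → D.g i k = 0 := fun i k hk =>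
    D.g_even (by rwa [Subgroup.orderOf_coe] at hk) i
  have hproj : GSide.IsProj cf.K (sgnQ q) 1 D.g :=
    { gen := fun i => by
        have := D.g_gen 1 i
        rwa [show (fun k => D.g i k * (((1 : ↥cf.K →* ℂˣ) k : ℂˣ) : ℂ)) = D.g i from congrFun h1 i]
          at this
      class_fn := fun i => D.g_class i
      supp := hsupp
      gram := fun i j => D.g_gram i j
      pairs_eq := fun i => D.g_pairs hC.part i }
  have hsep : GSide.IsSep t cf.K (sgnQ q) D.g := by
    have := hC.isSep hM hO ⟨D.g_span, D.g_reg hC.part.Q_mod⟩ (fun i => D.g_class i) hsupp 1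
    rwa [h1] at this
  obtain ⟨X, hX⟩ := GSide.propBlock G t cf.K (sgnQ q) 1 D.g hC hproj hsep
  obtain ⟨Y, ho, hQ, hK, hd, hT, ha, hb, hc⟩ := exists_tab hC.perfect hX D.g_one
  refine ⟨Y, ⟨ho, hQ, hK, fun χ => by rw [hd]; exact hX.hd χ, fun χ => by rw [hT]; exact hX.hT' χ,
    fun {inst} => ?_⟩⟩
  have hi : inst = Fintype.ofFinite ↥cf.K := Subsingleton.elim _ _
  subst hi
  exact ⟨D.g, hproj, quad_torusValues h8 h5 D, fun χ => by rw [ha]; exact hX.ha χ,
    fun χ => by rw [hb]; exact hX.hb χ, fun χ => by rw [hc]; exact hX.hc χ⟩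

end Cfsg.Agent.Lib.JankoThompson
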