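import Cfsg.Agent.Lib.JankoThompson.Local
import Cfsg.Agent.Lib.JankoThompson.GSide.Interface
import Cfsg.Agent.Lib.JankoThompson.GSide.Separation
import Cfsg.Agent.Lib.Walter.KnownFacts
import Cfsg.Agent.Lib.PSLFacts.FourGroups
import Cfsg.Agent.Lib.Elem70.Degrees.SL2Deg

/-!
# Janko–Thompson: the configuration `C(t) = ⟨t⟩ × PSL(2, q)` satisfies the hypotheses of the blocks

`cfg_kleinPart`, `cfg_cent`, `cfg_fixedOdd`.

Owner: helper87.
-/

set_option autoImplicit false
set_option linter.style.haveILetI false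
set_option linter.unusedSectionVars false

universe u v

namespace Cfsg.Agent.Lib.JankoThompson

open Subgroup

namespace Psl

variable {F : Type} [Field F] [Fintype F]

local notation "PSL" => Matrix.ProjectiveSpecialLinearGroup (Fin 2) F

/-- The centraliser of an involution of `PSL(2, q)` has order `|Q + 1|`. -/
theorem card_centralizer (hodd : Fintype.card F % 2 = 1) {y : PSL} (hy : orderOf y = 2) :
    (Nat.card ↥(centralizer ({y} : Set PSL)) : ℤ) = |sgnQ (Fintype.card F) + 1| := by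
  have h2 : (2 : F) ≠ 0 := Cfsg.Agent.Lib.Linear.two_ne_zero_of_odd_card (Nat.odd_iff.2 hodd)
  have h1 : 1 ≤ Fintype.card F := Fintype.card_pos
  obtain ⟨g, rfl, hg⟩ := PSLFacts.Invol.trace_zero_of_involution hy
  set C := centralizer ({SL2Tori.Products.proj g} : Set PSL) with hC
  have hgcd : Nat.gcd 2 (Fintype.card F - 1) = 2 := Nat.gcd_eq_left (by omega)
  have hpre : Nat.card (PSLTwo.ClassSize.pre g) = 2 * Nat.card C := by
    have h := DicksonId.card_pre C
    rw [hgcd] at h
    exact h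
  obtain ⟨hv1, hv3⟩ := PSLFacts.Invol.card_pre h2 hg
  unfold sgnQ
  split_ifs with h
  · rw [abs_of_nonneg (by positivity)]
    have := hv3 h
    omega
  · rw [abs_of_nonpos (by omega)]
    have := hv1 (by omega)
    omega

/-- A real irreducible character of degree `q`. -/
theorem exists_steinberg : ∃ φ : Cfsg.IrrCharacter PSL,
    (∀ k : PSL, ((φ : PSL → ℂ) k).im = 0) ∧ (φ : PSL → ℂ) 1 = (Fintype.card F : ℂ) := by
  classical
  obtain ⟨φ, -, hφ, hirr⟩ := Characters.Kernel.exists_descend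
    (Subgroup.center (Matrix.SpecialLinearGroup (Fin 2) F))
    (Characters.Basic.isCharacter_irr
      (⟨SL2Chars49.st, SL2Chars49.isIrr_st⟩ :
        Cfsg.IrrCharacter (Matrix.SpecialLinearGroup (Fin 2) F)))
    (fun g hg => by
      obtain ⟨z, rfl⟩ := Elem70.Degrees.SL2Deg.exists_sc hg
      show SL2Chars49.st (SL2Chars49.sc z) = SL2Chars49.st 1
      rw [SL2Chars49.st_sc, SL2Chars49.st_one])
  refine ⟨⟨φ, hirr SL2Chars49.isIrr_st⟩, fun k => ?_, ?_⟩
  · obtain ⟨g, rfl⟩ := QuotientGroup.mk'_surjective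
      (Subgroup.center (Matrix.SpecialLinearGroup (Fin 2) F)) k
    show ((φ ∘ QuotientGroup.mk' _) g).im = 0
    rw [hφ]
    show (SL2Chars49.pi (1 : MulChar F ℂ) g - 1).im = 0
    rw [← Complex.conj_eq_iff_im, map_sub, map_one, SL2Chars49.pi, Cfsg.indFun, map_mul,
      map_inv₀, Complex.conj_natCast, map_sum]
    congr 2
    refine Finset.sum_congr rfl fun x _ => ?_
    unfold Cfsg.extendByZero
    by_cases hx : ∃ b : ↥(SL2Tori.Borel.borel : Subgroup (Matrix.SpecialLinearGroup (Fin 2) F)),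
        (b : Matrix.SpecialLinearGroup (Fin 2) F) = x⁻¹ * g * x
    · obtain ⟨b, hb⟩ := hx
      rw [← hb, Subtype.val_injective.extend_apply]
      show (starRingEnd ℂ) ((1 : MulChar F ℂ) _) = (1 : MulChar F ℂ) _
      by_cases hu : IsUnit (((b : Matrix.SpecialLinearGroup (Fin 2) F) : Matrix (Fin 2) (Fin 2) F) 0 0)
      · rw [MulChar.one_apply hu, map_one]
      · rw [MulChar.map_nonunit _ hu, map_zero]
    · rw [Function.extend_apply' _ _ _ hx, Pi.zero_apply, map_zero]
  · show φ 1 = _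
    rw [← map_one (QuotientGroup.mk' (Subgroup.center (Matrix.SpecialLinearGroup (Fin 2) F)))]
    show (φ ∘ QuotientGroup.mk' _) 1 = _
    rw [hφ]
    exact SL2Chars49.st_one

end Psl

variable {G : Type u} [Group G] [Finite G] {F : Type v} [Field F] [Fintype F] {t : G}

local notation "q" => Fintype.card F

theorem cfg_oddBasic (c : Cfg G F t) (h8 : q % 8 = 3 ∨ q % 8 = 5) (h5 : 5 ≤ q) :
    Walter.Known.OddBasic ↥c.K := by
  obtain ⟨F₀, i1, i2, hq, ⟨e⟩⟩ := Local.exists_model c
  exact Walter.Known.odd_basic (hq ▸ h8) (hq ▸ h5) e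

/-- A Sylow 2-subgroup of `K` is its own centraliser. -/
theorem cfg_centralizer_four (c : Cfg G F t) (h8 : q % 8 = 3 ∨ q % 8 = 5) (h5 : 5 ≤ q)
    (P : Sylow 2 ↥c.K) : centralizer ((P : Subgroup ↥c.K) : Set ↥c.K) = (P : Subgroup ↥c.K) := by
  haveI : Fact (Nat.Prime 2) := ⟨Nat.prime_two⟩
  have hB := cfg_oddBasic c h8 h5
  obtain ⟨h4, hsq⟩ := hB.sylow P
  haveI : Nontrivial ↥(P : Subgroup ↥c.K) := Finite.one_lt_card_iff_nontrivial.1 (by omega)
  obtain ⟨⟨a, ha⟩, ha1⟩ := exists_ne (1 : ↥(P : Subgroup ↥c.K))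
  have ha1' : a ≠ 1 := fun h => ha1 (Subtype.ext h)
  obtain ⟨b, hb, hbn⟩ : ∃ b ∈ (P : Subgroup ↥c.K), b ∉ zpowers a := by
    by_contra hno
    push Not at hno
    have := Subgroup.card_le_of_le (show (P : Subgroup ↥c.K) ≤ zpowers a from hno)
    rw [h4, Nat.card_zpowers] at this
    have := orderOf_le_of_pow_eq_one (x := a) two_pos (by rw [pow_two]; exact hsq a ha)
    omega
  have hoa : orderOf a = 2 := orderOf_eq_prime (by rw [pow_two]; exact hsq a ha) ha1'
  have hob : orderOf b = 2 :=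
    orderOf_eq_prime (by rw [pow_two]; exact hsq b hb) fun h => hbn (h ▸ one_mem _)
  have hcomm : ∀ x ∈ (P : Subgroup ↥c.K), ∀ y ∈ (P : Subgroup ↥c.K), x * y = y * x :=
    fun x hx y hy => Walter.Known.comm_of_exp_two hsq x hx y hy
  refine le_antisymm (fun g hg => ?_) fun x hx => mem_centralizer_iff.2 fun y hy => hcomm y hy x hx
  rcases hB.klein a b g hoa hob (hcomm a ha b hb) (fun h => hbn (h ▸ mem_zpowers a))
    (mem_centralizer_iff.1 hg a ha).symm (mem_centralizer_iff.1 hg b hb).symm with h | h | h | h <;>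
    rw [h]
  exacts [one_mem _, ha, hb, mul_mem ha hb]

/-- `K` is a group as required for the blocks. -/
theorem cfg_kleinPart (c : Cfg G F t) (h8 : q % 8 = 3 ∨ q % 8 = 5) (h5 : 5 ≤ q) :
    GSide.KleinPart c.K (sgnQ q) 1 := by
  haveI : Fact (Nat.Prime 2) := ⟨Nat.prime_two⟩
  have hB := cfg_oddBasic c h8 h5
  obtain ⟨F₀, i1, i2, hq, ⟨e⟩⟩ := Local.exists_model c
  have hodd : Odd (Fintype.card F₀) := Nat.odd_iff.2 (by omega)
  refine
    { odd_c := odd_one
      Q_mod := sgnQ_mod_eight h8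
      Q_big := by rw [sgnQ_abs]; exact_mod_cast h5
      klein := fun P => ?_
      conjK := hB.conj
      card := ?_
      cent := fun x hx => ?_
      centP := fun P => ?_
      st := fun hQ => ?_ }
  · obtain ⟨h4, hsq⟩ := hB.sylow P
    refine { card_four := h4, exponent_two := ?_ }
    refine ((Nat.dvd_prime Nat.prime_two).1 (Monoid.exponent_dvd_of_forall_pow_eq_one fun x =>
      Subtype.ext (by rw [coe_pow, pow_two]; exact hsq x x.2))).resolve_left fun h => ?_
    haveI := Monoid.exp_eq_one_iff.1 h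
    rw [Nat.card_of_subsingleton (1 : ↥(P : Subgroup ↥c.K))] at h4
    omega
  · rw [Nat.card_congr e.toEquiv, Nat.cast_one, one_mul]
    have h := Linear.two_mul_card_PSL_two_of_odd (F := F₀) hodd
    rw [hq] at h
    have hcast : ((2 * Nat.card (Matrix.ProjectiveSpecialLinearGroup (Fin 2) F₀) : ℕ) : ℤ) =
        ((q * (q - 1) * (q + 1) : ℕ) : ℤ) := congrArg Nat.cast h
    push_cast [Nat.cast_sub (show 1 ≤ q by omega)] at hcast
    have hq1 : (5 : ℤ) ≤ q := by exact_mod_cast h5
    have hsq : sgnQ q ^ 2 = (q : ℤ) ^ 2 := by rw [← sq_abs, sgnQ_abs]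
    rw [hcast, abs_mul, sgnQ_abs, hsq, abs_of_nonneg (by nlinarith : (0 : ℤ) ≤ (q : ℤ) ^ 2 - 1)]
    ring
  · have hx' : orderOf (e x) = 2 := by rw [MulEquiv.orderOf_eq, hx]
    have hm : (centralizer ({x} : Set ↥c.K)).map e.toMonoidHom =
        centralizer ({e x} : Set (Matrix.ProjectiveSpecialLinearGroup (Fin 2) F₀)) := by
      ext y
      obtain ⟨y, rfl⟩ := e.surjective y
      constructor
      · rintro ⟨z, hz, hzy⟩
        rw [← hzy]
        exact (Walter.Known.map_centralizer_iff e).2 hz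
      · exact fun h => ⟨y, (Walter.Known.map_centralizer_iff e).1 h, rfl⟩
    rw [Nat.cast_one, one_mul, ← hq, ← Psl.card_centralizer (by omega) hx', ← hm,
      Subgroup.card_map_of_injective e.injective]
  · rw [cfg_centralizer_four c h8 h5 P, (hB.sylow P).1]
  · obtain ⟨φ, hr, h1⟩ := Psl.exists_steinberg (F := F₀)
    refine ⟨⟨(φ : _ → ℂ) ∘ e.toMonoidHom,
      Characters.Basic.isIrrCharacter_comp _ e.surjective φ.2⟩, fun k => hr (e k), ?_⟩
    show (φ : _ → ℂ) (e 1) = _
    rw [map_one, h1, hq]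
    unfold sgnQ at hQ ⊢
    split_ifs at hQ ⊢ with h
    · omega
    · push_cast
      rw [neg_neg]

/-- The hypotheses on `G`. -/
theorem cfg_cent [IsSimpleGroup G] (c : Cfg G F t)
    (hab : ∀ P : Sylow 2 G, ∀ a b : P, a * b = b * a) (h8 : q % 8 = 3 ∨ q % 8 = 5) (h5 : 5 ≤ q) :
    GSide.Cent t c.K (sgnQ q) 1 := by
  haveI : Fact (Nat.Prime 2) := ⟨Nat.prime_two⟩
  have hodd : Odd q := Nat.odd_iff.2 (by omega)
  obtain ⟨d⟩ := exists_torus c hab h8
  refine
    { simple := inferInstance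
      card_sylow := (Local.sylow_facts c hab hodd).1
      elementary := fun S => ?_
      conjG := fun x y hx hy => (d.one_class x hx).symm.trans (d.one_class y hy)
      ord := c.ord
      split := c.prod
      part := cfg_kleinPart c h8 h5 }
  have hC := Local.conf c hab hodd
  obtain ⟨a, b, r, T⟩ := hC.exists_tri
  obtain ⟨P₀, -, hP₀⟩ := Local.exists_sylow_eight c hC T
  obtain ⟨g, hg⟩ := MulAction.exists_smul_eq G P₀ S
  refine ⟨⟨⟨fun x y => hab S x y⟩⟩, fun x hx => ?_⟩
  rw [← hg, Sylow.coe_subgroup_smul] at hx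
  obtain ⟨p, hp, rfl⟩ := hx
  obtain ⟨v, hv, hpv⟩ := (hP₀ p).1 hp
  have hvv : v * v = 1 := by
    rcases hv with rfl | rfl | rfl | rfl
    · exact one_mul 1
    · exact Walter66.sq_of_ord T.ha
    · exact Walter66.sq_of_ord T.hb
    · rw [show a * b * (a * b) = a * (b * a) * b by group, ← T.comm,
        show a * (a * b) * b = (a * a) * (b * b) by group, Walter66.sq_of_ord T.ha,
        Walter66.sq_of_ord T.hb, one_mul]
  have hvK : v ∈ c.K := by
    rcases hv with rfl | rfl | rfl | rfl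
    exacts [one_mem _, T.amem, T.bmem, mul_mem T.amem T.bmem]
  show MulAut.conj g p ^ 2 = 1
  rw [← map_pow, pow_two]
  rcases hpv with rfl | rfl
  · rw [hvv, map_one]
  · rw [(c.comm hvK).symm.mul_mul_mul_comm, c.sq, hvv, one_mul, map_one]

/-- `C(S) = S`. -/
theorem cfg_fixedOdd [IsSimpleGroup G] (c : Cfg G F t)
    (hab : ∀ P : Sylow 2 G, ∀ a b : P, a * b = b * a) (h8 : q % 8 = 3 ∨ q % 8 = 5) (h5 : 5 ≤ q) :
    GSide.FixedOdd t := by
  haveI : Fact (Nat.Prime 2) := ⟨Nat.prime_two⟩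
  have hB := cfg_oddBasic c h8 h5
  have hodd : Odd q := Nat.odd_iff.2 (by omega)
  refine GSide.fixedOdd_of_card t fun S htS => ?_
  rw [← (Local.sylow_facts c hab hodd).1 S]
  refine le_antisymm (Subgroup.card_le_of_le fun x hx => ?_)
    (Subgroup.card_le_of_le fun x hx => mem_centralizer_iff.2 fun y hy =>
      congrArg Subtype.val (hab S ⟨y, hy⟩ ⟨x, hx⟩))
  obtain ⟨e, he, hxe⟩ := Local.decomp c (mem_centralizer_iff.1 hx t htS).symm
  suffices heS : e ∈ (S : Subgroup G) by
    rcases hxe with rfl | rfl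
    exacts [heS, mul_mem htS heS]
  have hcom : ∀ s ∈ (S : Subgroup G), Commute e s := fun s hs => by
    have h1 : Commute x s := (mem_centralizer_iff.1 hx s hs).symm
    rcases hxe with rfl | rfl
    · exact h1
    · have h2 : Commute t s := congrArg Subtype.val (hab S ⟨t, htS⟩ ⟨s, hs⟩)
      have := h2.mul_left h1
      rwa [← mul_assoc, c.sq, one_mul] at this
  -- the part of `S` in `K`
  obtain ⟨P, hP⟩ := (S.isPGroup'.comap_of_injective c.K.subtype c.K.subtype_injective).exists_le_sylow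
  have hPS : (P : Subgroup ↥c.K) ≤ (S : Subgroup G).comap c.K.subtype := by
    have hle : (S : Subgroup G) ≤ centralizer ({t} : Set G) := fun s hs =>
      mem_centralizer_singleton_iff.2 (congrArg Subtype.val (hab S ⟨s, hs⟩ ⟨t, htS⟩))
    have hinj : Nat.card ↥(S : Subgroup G) ≤
        2 * Nat.card ↥((S : Subgroup G).comap c.K.subtype) := by
      classical
      have hd : ∀ s : ↥(S : Subgroup G), ∃ p : Bool × ↥((S : Subgroup G).comap c.K.subtype),
          (s : G) = (if p.1 then t else 1) * ((p.2 : ↥c.K) : G) := fun s => by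
        obtain ⟨k, hk, hsk⟩ := Local.decomp c (mem_centralizer_singleton_iff.1 (hle s.2))
        rcases hsk with h | h
        · exact ⟨(false, ⟨⟨k, hk⟩, h ▸ s.2⟩), by simpa using h⟩
        · have hkS : k ∈ (S : Subgroup G) := by
            have := mul_mem htS s.2
            rwa [h, ← mul_assoc, c.sq, one_mul] at this
          exact ⟨(true, ⟨⟨k, hk⟩, hkS⟩), by simpa using h⟩
      choose f hf using hd
      have := Nat.card_le_card_of_injective f fun a b hab' => Subtype.ext (by rw [hf a, hf b, hab'])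
      rwa [Nat.card_prod, Nat.card_eq_fintype_card (α := Bool), Fintype.card_bool] at this
    rw [(Local.sylow_facts c hab hodd).1 S] at hinj
    exact (eq_of_le_of_card_ge hP (by rw [(hB.sylow P).1]; omega)).ge
  have hmem : (⟨e, he⟩ : ↥c.K) ∈ centralizer ((P : Subgroup ↥c.K) : Set ↥c.K) :=
    mem_centralizer_iff.2 fun y hy => Subtype.ext ((hcom _ (hPS hy)).eq.symm)
  rw [cfg_centralizer_four c h8 h5 P] at hmem
  exact hPS hmem

end Cfsg.Agent.Lib.JankoThompson
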