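import Cfsg.Agent.Lib.JankoThompson.Centralizer
import Cfsg.Agent.Lib.JankoThompson.TorusBound.CentLe

/-!
Three does not divide the order of the torus, and the centralisers of its elements normalise the
four-group.
-/

set_option autoImplicit false

universe u v

namespace Cfsg.Agent.Lib.JankoThompson

variable {G : Type u} [Group G] [Finite G] {F : Type v} [Field F] [Fintype F] {t : G} {c : Cfg G F t}
  (d : Torus c)

/-- Three does not divide `|Y|`. -/
theorem three_not_dvd (hab : ∀ P : Sylow 2 G, ∀ a b : P, a * b = b * a)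
    (h8 : Fintype.card F % 8 = 3 ∨ Fintype.card F % 8 = 5) (_hq : 11 ≤ Fintype.card F) :
    ¬ 3 ∣ Nat.card ↥d.Y :=
  TorusBound.three_not_dvd_of d hab h8 (cent_cases d)

/-- The centralisers of the non-trivial elements of `Y` normalise `V`. -/
theorem cent_le (hab : ∀ P : Sylow 2 G, ∀ a b : P, a * b = b * a)
    (h8 : Fintype.card F % 8 = 3 ∨ Fintype.card F % 8 = 5) (hq : 11 ≤ Fintype.card F) : d.CentLe :=
  TorusBound.centLe_of d hab h8 hq (cent_cases d)

end Cfsg.Agent.Lib.JankoThompson
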