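import Cfsg.Agent.Lib.JankoThompson.EvenQ
import Cfsg.Agent.Lib.JankoThompson.Local
import Cfsg.Agent.Lib.JankoThompson.TorusBound
import Cfsg.Agent.Lib.JankoThompson.Principal
import Cfsg.Agent.Lib.JankoThompson.Order
import Cfsg.Agent.Lib.JankoThompson.Free
import Cfsg.Agent.Lib.JankoThompson.FusedFun
import Cfsg.Agent.Lib.JankoThompson.Psl
import Cfsg.Agent.Lib.SmallGroups.ProjLine

/-!
# Janko–Thompson: assembly

Owner: helper3.
-/

set_option autoImplicit false
set_option linter.style.haveILetI false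
set_option linter.unusedSectionVars false

universe u v

namespace Cfsg.Agent.Lib.JankoThompson

open Subgroup

variable {G : Type u} [Group G] [Finite G] [IsSimpleGroup G] {F : Type v} [Field F] [Fintype F]
  {t : G}

/-- The same statement over a field in the lowest universe. -/
theorem exists_small (hC : Nonempty (centralizer ({t} : Set G) ≃*
      Multiplicative (ZMod 2) × Matrix.ProjectiveSpecialLinearGroup (Fin 2) F)) :
    ∃ (F₀ : Type) (_ : Field F₀) (_ : Fintype F₀), Fintype.card F₀ = Fintype.card F ∧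
      Nonempty (centralizer ({t} : Set G) ≃*
        Multiplicative (ZMod 2) × Matrix.ProjectiveSpecialLinearGroup (Fin 2) F₀) := by
  classical
  obtain ⟨p, hp⟩ := CharP.exists F
  haveI : Fact p.Prime := ⟨CharP.char_is_prime F p⟩
  obtain ⟨n, -, hn⟩ := FiniteField.card F p
  letI : Fintype (GaloisField p n) := Fintype.ofFinite _
  have hcard : Fintype.card (GaloisField p n) = Fintype.card F := by
    rw [← Nat.card_eq_fintype_card, GaloisField.card p n n.pos.ne', hn]
  obtain ⟨e⟩ := SmallGroups.ProjLine.psl_congr_card (F := F) (F' := GaloisField p n) hcard.symm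
  obtain ⟨e'⟩ := hC
  exact ⟨GaloisField p n, inferInstance, inferInstance, hcard,
    ⟨e'.trans ((MulEquiv.refl _).prodCongr e)⟩⟩

/-- The hypothesis of `exists_cfg`. -/
theorem psl_center_trivial {F₀ : Type} [Field F₀] [Fintype F₀]
    (z : Matrix.ProjectiveSpecialLinearGroup (Fin 2) F₀) (h : ∀ x, z * x = x * z) : z = 1 := by
  have hz : z ∈ Subgroup.center (Matrix.ProjectiveSpecialLinearGroup (Fin 2) F₀) :=
    Subgroup.mem_center_iff.2 fun x => (h x).symm
  exact (Subgroup.mem_bot).1 (PushUpP.center_psl.le hz)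

/-- The torus has at least seven elements when `r` has no fixed points on it. -/
theorem Q_big_of_Y₁ {c : Cfg G F t} (d : Torus c) (hY : d.Y₁ = ⊥) (h11 : 11 ≤ Fintype.card F) :
    28 ≤ |sgnQ (Fintype.card F) + 1| := by
  have h3 := torus_mod_three d hY
  have hc := d.Y_card
  obtain ⟨k, hk⟩ := d.Y_odd
  have habs : |sgnQ (Fintype.card F) + 1| = ((sgnQ (Fintype.card F) + 1).natAbs : ℤ) :=
    Int.abs_eq_natAbs _
  have hQ : (Fintype.card F : ℤ) - 1 ≤ |sgnQ (Fintype.card F) + 1| := by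
    have := abs_sub_abs_le_abs_sub (sgnQ (Fintype.card F)) (-1)
    rw [sgnQ_abs, sub_neg_eq_add] at this
    simpa using this
  rw [habs] at hQ ⊢
  omega

/-- The table of the principal block exists. -/
theorem exists_princ' [Fintype G] [Fintype (Cfsg.IrrCharacter G)] (c : Cfg G F t)
    (hab : ∀ P : Sylow 2 G, ∀ a b : P, a * b = b * a)
    (h8 : Fintype.card F % 8 = 3 ∨ Fintype.card F % 8 = 5) (h5 : 5 ≤ Fintype.card F) :
    ∃ X : Tab (Cfsg.IrrCharacter G), Princ c X :=
  exists_princ h8 h5 (cfg_cent c hab h8 h5) (cfg_fixedOdd c hab h8 h5)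

/-- The elements of order three normalising the four-group have no fixed points on the torus. -/
theorem Torus.Y₁_eq_bot {c : Cfg G F t} (d : Torus c)
    (hab : ∀ P : Sylow 2 G, ∀ a b : P, a * b = b * a)
    (h8 : Fintype.card F % 8 = 3 ∨ Fintype.card F % 8 = 5) (h11 : 11 ≤ Fintype.card F) :
    d.Y₁ = ⊥ := by
  classical
  letI := Fintype.ofFinite G
  letI := Fintype.ofFinite (Cfsg.IrrCharacter G)
  obtain ⟨X, hX⟩ := exists_princ' c hab h8 (by omega)
  refine fused_case c d X hX (cent_le d hab h8 h11) (three_not_dvd d hab h8 h11) ?_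
  rw [hX.Q_eq, sgnQ_abs]
  exact_mod_cast h11

/-- The table of the principal block is that of a small Ree group. -/
theorem Princ.ree [Fintype G] [Fintype (Cfsg.IrrCharacter G)] {c : Cfg G F t}
    {X : Tab (Cfsg.IrrCharacter G)} (hX : Princ c X)
    (hab : ∀ P : Sylow 2 G, ∀ a b : P, a * b = b * a)
    (h8 : Fintype.card F % 8 = 3 ∨ Fintype.card F % 8 = 5) (h11 : 11 ≤ Fintype.card F) : X.Ree := by
  obtain ⟨d⟩ := exists_torus c hab h8
  have hY := d.Y₁_eq_bot hab h8 h11
  refine free_case c d X hX (cent_le d hab h8 h11) hY ?_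
  rw [hX.Q_eq]
  exact Q_big_of_Y₁ d hY h11

/-- The order when `q` is odd and at least eleven. -/
theorem odd_case (c : Cfg G F t) (hab : ∀ P : Sylow 2 G, ∀ a b : P, a * b = b * a)
    (h8 : Fintype.card F % 8 = 3 ∨ Fintype.card F % 8 = 5) (h11 : 11 ≤ Fintype.card F) :
    ∃ m : ℕ, 1 ≤ m ∧ Fintype.card F = 3 ^ (2 * m + 1) ∧
        Nat.card G =
          (3 ^ (2 * m + 1)) ^ 3 * ((3 ^ (2 * m + 1)) ^ 3 + 1) * (3 ^ (2 * m + 1) - 1) := by
  classical
  letI := Fintype.ofFinite G
  letI := Fintype.ofFinite (Cfsg.IrrCharacter G)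
  obtain ⟨X, hX⟩ := exists_princ' c hab h8 (by omega)
  exact order_of_ree hX (hX.ree hab h8 h11) h11 (cfg_cent c hab h8 (by omega))

/-- S0343 given the exclusion of `q = 3`. -/
theorem main_of
    (hthree : ∀ (F₀ : Type) [Field F₀] [Fintype F₀], Cfg G F₀ t → Fintype.card F₀ = 3 → False)
    (hab : ∀ P : Sylow 2 G, ∀ a b : P, a * b = b * a) (hq : 3 ≤ Fintype.card F) (ht : orderOf t = 2)
    (hC : Nonempty (centralizer ({t} : Set G) ≃*
      Multiplicative (ZMod 2) × Matrix.ProjectiveSpecialLinearGroup (Fin 2) F)) :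
    (∃ m : ℕ, 1 ≤ m ∧ Fintype.card F = 3 ^ (2 * m + 1) ∧
        Nat.card G =
          (3 ^ (2 * m + 1)) ^ 3 * ((3 ^ (2 * m + 1)) ^ 3 + 1) * (3 ^ (2 * m + 1) - 1)) ∨
      ((Fintype.card F = 4 ∨ Fintype.card F = 5) ∧ Cfsg.IsJ1 G) := by
  obtain ⟨F₀, i1, i2, hcard, hC₀⟩ := exists_small hC
  rcases Nat.even_or_odd (Fintype.card F) with he | ho
  · obtain ⟨h4, hJ⟩ := EvenQ.even_case hab F₀ (by omega) (by rw [hcard]; exact he) t ht hC₀
    exact Or.inr ⟨Or.inl (hcard ▸ h4), hJ⟩
  · rw [← hcard] at ho ⊢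
    obtain ⟨c⟩ := exists_cfg ht psl_center_trivial hC₀
    have h8 := q_mod_eight c hab ho
    by_cases h3 : Fintype.card F₀ = 3
    · exact (hthree F₀ c h3).elim
    by_cases h5 : Fintype.card F₀ = 5
    · exact Or.inr ⟨Or.inr h5, EvenQ.five_case hab F₀ h5 t ht hC₀⟩
    exact Or.inl (odd_case c hab h8 (by omega))

end Cfsg.Agent.Lib.JankoThompson
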