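/-
The table of a simple group with an involution centraliser `2 × PSL₂(3)`: it does not exist.
-/
import Cfsg.Agent.Lib.JankoThompson.Rows
import Cfsg.Agent.Lib.JankoThompson.Arith.Small

set_option autoImplicit false

namespace Cfsg.Agent.Lib.JankoThompson

open Finset

variable {ι : Type*} [Fintype ι]

namespace Tab

variable {X : Tab ι} {i : ι} {p q r : ℤ}

theorem IsRow.eq_o (h : X.IsRow i p q r) (h1 : X.x i = 1 ∨ X.x i = -1) : i = X.o := by
  refine X.lin i ?_
  rw [← h.abs_x]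
  rcases h1 with e | e <;> rw [e] <;> norm_num

theorem Seven.three_half (_E : X.Seven) {P U R : ℤ} (hP : 8 ∣ P - 2) (hR : 8 ∣ R - 2) (hP0 : P ≠ 0)
    (hR0 : R ≠ 0) (hU0 : U ≠ 0) (hU1 : U ≠ 1) (hs : U + R = 1 + P)
    (h : 1 + 4 / (P : ℚ) = 1 / (U : ℚ) + 4 / (R : ℚ)) : P = -6 ∧ R = 10 := by
  obtain ⟨p, rfl⟩ : (2 : ℤ) ∣ P := by omega
  obtain ⟨r, rfl⟩ : (2 : ℤ) ∣ R := by omega
  have hp : p ≠ 0 := by omega
  have hr : r ≠ 0 := by omega
  have h' : 1 + 2 / (p : ℚ) = 1 / (U : ℚ) + 2 / (r : ℚ) := by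
    have hp' : (p : ℚ) ≠ 0 := Int.cast_ne_zero.2 hp
    have hr' : (r : ℚ) ≠ 0 := Int.cast_ne_zero.2 hr
    push_cast at h
    rw [show (4 : ℚ) / (2 * p) = 2 / p by field_simp; ring, show (4 : ℚ) / (2 * r) = 2 / r by field_simp; ring] at h
    exact h
  rcases Arith.three_seven hp hr hU0 (by linarith) h' hU1 with ⟨e, e'⟩ | ⟨e, e'⟩ | ⟨e, e'⟩ | ⟨e, e'⟩ <;>
    subst e e' <;> omega

/-- There is no table with `Q = 3`. -/
theorem three_false (hQ : X.Q = 3) {n : ℕ} (hn : X.K * (n : ℚ) = 576) (hd : ∀ i, X.d i ∣ (n : ℤ)) : False := by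
  have hm : X.m = 1 := by have := X.hm; omega
  rcases X.rows with ⟨⟨E⟩⟩ | ⟨⟨E⟩⟩
  · obtain ⟨hA, hB, -⟩ := E.eqs
    obtain ⟨hs, hsB, -⟩ := E.deg
    rw [hQ] at hA hB
    norm_num at hA hB
    have ha : (X.x E.A : ℚ) ≠ 0 := Int.cast_ne_zero.2 E.rA.x_ne
    have hne : E.A ≠ X.o := fun e => by have := E.nodup; simp [e] at this
    have h1 : (1 : ℚ) + X.x E.A ≠ 0 := fun e => hne (E.rA.eq_o (Or.inr (by
      have : ((1 + X.x E.A : ℤ) : ℚ) = 0 := by push_cast; exact e
      have : 1 + X.x E.A = 0 := by exact_mod_cast this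
      omega)))
    have hsum : (X.x E.B₁ : ℚ) + X.x E.B₂ = 1 + X.x E.A := by
      have : X.x E.B₁ + X.x E.B₂ = 1 + X.x E.A := by omega
      exact_mod_cast this
    rcases Arith.three_eight (a := (X.x E.A : ℚ)) ha (Int.cast_ne_zero.2 E.rB₁.x_ne)
      (Int.cast_ne_zero.2 E.rB₂.x_ne) h1 hsum (by simp only [one_div]; linarith) with e | e
    · have := E.nodup
      rw [show E.B₁ = X.o from E.rB₁.eq_o (Or.inl (by exact_mod_cast e))] at this
      simp at this
    · have := E.nodup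
      rw [show E.B₂ = X.o from E.rB₂.eq_o (Or.inl (by exact_mod_cast e))] at this
      simp at this
  · obtain ⟨hA, hB, hC⟩ := E.eqs
    obtain ⟨hs, hsU, hsU'⟩ := E.deg
    rw [hQ] at hA hB hC
    norm_num at hA hB hC
    have c1 := E.rP₁.cong (by norm_num)
    have c2 := E.rP₂.cong (by norm_num)
    have c3 := E.rR.cong (by norm_num)
    rw [hm] at c1 c2 c3
    norm_num at c1 c2 c3
    have hU : X.x E.U ≠ 1 := fun e => by
      have := E.nodup
      rw [show E.U = X.o from E.rU.eq_o (Or.inl e)] at this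
      simp at this
    have hU' : X.x E.U' ≠ 1 := fun e => by
      have := E.nodup
      rw [show E.U' = X.o from E.rU'.eq_o (Or.inl e)] at this
      simp at this
    obtain ⟨p2, hR⟩ := E.three_half (P := X.x E.P₂) (U := X.x E.U) (R := X.x E.R) c2 c3 E.rP₂.x_ne
      E.rR.x_ne E.rU.x_ne hU (by omega) (by simp only [one_div]; ring_nf at hA hB ⊢; linarith)
    obtain ⟨p1, -⟩ := E.three_half (P := X.x E.P₁) (U := X.x E.U') (R := X.x E.R) c1 c3 E.rP₁.x_ne
      E.rR.x_ne E.rU'.x_ne hU' (by omega) (by simp only [one_div]; ring_nf at hA hC ⊢; linarith)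
    have hD : X.x E.D = 11 := by omega
    rw [p1, p2, hD] at hA
    norm_num at hA
    have hK : X.K = 8 / 33 := by linarith
    rw [hK] at hn
    have hn' : n = 2376 := by
      have : (n : ℚ) = ((2376 : ℕ) : ℚ) := by push_cast; linarith
      exact_mod_cast this
    have h10 := hd E.R
    rw [← E.rR.abs_x, hR, hn'] at h10
    norm_num at h10

end Tab

end Cfsg.Agent.Lib.JankoThompson
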