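import Cfsg.Agent.Lib.JankoThompson.Psl
import Cfsg.Agent.Lib.JankoThompson.Table
import Cfsg.Agent.Lib.JankoThompson.Three
import Cfsg.Agent.Lib.JankoThompson.GSide.Block
import Cfsg.Agent.Lib.Characters.Degree
import Cfsg.Agent.Lib.Characters.Transitive
import Cfsg.Agent.Lib.DicksonFull.Exist
import Cfsg.Agent.Lib.DicksonId.MaxCommon
import Mathlib.NumberTheory.LegendreSymbol.AddCharacter

/-!
# Janko–Thompson: there is no configuration with `q = 3`

`K ≅ A₄`.  The projective functions are `g i = fix · λⁱ`, `fix` the permutation character on four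
points and `λ` a faithful linear character of `A₄ / V`.  Their sum is twelve times the indicator of
`1`, so the separation needs no blocks, and the table contradicts `Tab.three_false`.

Owner: helper68.
-/

set_option autoImplicit false
set_option linter.style.haveILetI false
set_option linter.unusedSectionVars false

universe u v

namespace Cfsg.Agent.Lib.JankoThompson

open Subgroup Cfsg.Agent.Lib.Characters.Basic Cfsg.Agent.Lib.Walter.NoField
open scoped ComplexConjugate

namespace QThree

local notation "A4" => alternatingGroup (Fin 4)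

/-- The number of fixed points. -/
def fixN (x : A4) : ℕ := (Finset.univ.filter fun i : Fin 4 => x.1 i = i).card

/-- The image in the quotient of order three, read off the partner of a point. -/
def lab (x : A4) : ZMod 3 := (((x.1 0 : Fin 4) : ℕ) ^^^ ((x.1 1 : Fin 4) : ℕ) : ℕ) - 1

/-- The number of pairs of involutions with product `x`. -/
def pairN (x : A4) : ℕ :=
  (Finset.univ.filter fun p : A4 × A4 =>
    p.1 ≠ 1 ∧ p.1 * p.1 = 1 ∧ p.2 ≠ 1 ∧ p.2 * p.2 = 1 ∧ p.1 * p.2 = x).card

theorem lab_mul : ∀ x y : A4, lab (x * y) = lab x + lab y := by decide +kernel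

theorem two_or_three : ∀ x : A4, x = 1 ∨ (x * x = 1 ∧ fixN x = 0) ∨ x ^ 3 = 1 := by decide +kernel

theorem fixN_of_lab : ∀ x : A4, lab x = 0 → x ≠ 1 → fixN x = 0 := by decide +kernel

theorem fixN_one : fixN 1 = 4 ∧ lab 1 = 0 := by decide +kernel

theorem transitive : ∀ a b : Fin 4, ∃ x : A4, x.1 a = b := by decide +kernel

theorem fibre_one : ∀ j : ZMod 3, (∑ x ∈ Finset.univ.filter fun x : A4 => lab x = j, fixN x) =
    if j = 0 then 0 + 4 else 4 := by decide +kernel

theorem fibre_sq : ∀ j : ZMod 3,
    (∑ x ∈ Finset.univ.filter fun x : A4 => lab x = j, fixN x * fixN x) =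
      if j = 0 then 12 + 4 else 4 := by decide +kernel

theorem fibre_pair : ∀ j : ZMod 3,
    (∑ x ∈ Finset.univ.filter fun x : A4 => lab x = j, pairN x * fixN x) =
      if j = 0 then 12 + 0 else 0 := by decide +kernel

theorem prim : (ZMod.stdAddChar (N := 3)).IsPrimitive := ZMod.isPrimitive_stdAddChar 3

/-- Character sums over the quotient of order three. -/
theorem sum_lab (w : A4 → ℕ) (a b : ℕ)
    (hw : ∀ j : ZMod 3, (∑ x ∈ Finset.univ.filter fun x : A4 => lab x = j, w x) =
      if j = 0 then a + b else b) (n : ZMod 3) :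
    ∑ x : A4, (w x : ℂ) * ZMod.stdAddChar (n * lab x) =
      (a : ℂ) + if n = 0 then 3 * (b : ℂ) else 0 := by
  rw [← Finset.sum_fiberwise Finset.univ lab]
  have h1 : ∀ j : ZMod 3, (∑ x ∈ Finset.univ.filter fun x : A4 => lab x = j,
      (w x : ℂ) * ZMod.stdAddChar (n * lab x)) =
      (if j = 0 then (a : ℂ) else 0) + (b : ℂ) * ZMod.stdAddChar (j * n) := by
    intro j
    rw [Finset.sum_congr rfl (g := fun x => (w x : ℂ) * ZMod.stdAddChar (j * n)) fun x hx => by
      rw [(Finset.mem_filter.1 hx).2, mul_comm n], ← Finset.sum_mul, ← Nat.cast_sum, hw j]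
    split_ifs with hj
    · subst hj
      rw [zero_mul, AddChar.map_zero_eq_one]
      push_cast
      ring
    · rw [zero_add]
  rw [Finset.sum_congr rfl fun j _ => h1 j, Finset.sum_add_distrib, Finset.sum_ite_eq', if_pos (Finset.mem_univ _),
    ← Finset.mul_sum, AddChar.sum_mulShift n prim, ZMod.card]
  split_ifs <;> push_cast <;> ring

/-- The functions `fix · λⁱ`. -/
noncomputable def g4 (i : Fin 3) (x : A4) : ℂ :=
  (fixN x : ℂ) * ZMod.stdAddChar (((i : ℕ) : ZMod 3) * lab x)

theorem sum_g4 (x : A4) : ∑ i, g4 i x = if x = 1 then 12 else 0 := by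
  have h : ∑ i : Fin 3, ZMod.stdAddChar (((i : ℕ) : ZMod 3) * lab x) =
      if lab x = 0 then (3 : ℂ) else 0 := by
    have := AddChar.sum_mulShift (lab x) prim
    rw [ZMod.card] at this
    refine Eq.trans ?_ (this.trans (by split_ifs <;> simp))
    exact Fintype.sum_bijective (fun i : Fin 3 => ((i : ℕ) : ZMod 3)) (by decide) _ _ fun i => rfl
  simp only [g4, ← Finset.mul_sum, h]
  by_cases hx : x = 1
  · rw [if_pos hx, hx, fixN_one.1, if_pos fixN_one.2]; norm_num
  · rw [if_neg hx]
    split_ifs with h0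
    · rw [fixN_of_lab x h0 hx]; simp
    · simp

theorem conj_g4 (i : Fin 3) (x : A4) :
    conj (g4 i x) = (fixN x : ℂ) * ZMod.stdAddChar (-((i : ℕ) : ZMod 3) * lab x) := by
  rw [g4, map_mul, map_natCast, ← AddChar.map_neg_eq_conj, neg_mul]

/-- The linear characters. -/
noncomputable def linHom (n : ZMod 3) : A4 →* ℂˣ :=
  MonoidHom.toHomUnits
    { toFun := fun x => ZMod.stdAddChar (n * lab x)
      map_one' := by rw [fixN_one.2, mul_zero, AddChar.map_zero_eq_one]
      map_mul' := fun x y => by rw [lab_mul, mul_add, AddChar.map_add_eq_mul] }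

theorem isCharacter_g4 (i : Fin 3) : Cfsg.IsCharacter A4 (g4 i) := by
  haveI : MulAction.IsPretransitive A4 (Fin 4) := ⟨transitive⟩
  have hp : Cfsg.IsCharacter A4 (Characters.Transitive.permChar (G := A4) (Fin 4)) := by
    have := isCharacter_add (Characters.Transitive.isCharacter_permChar_sub_one (G := A4) (Fin 4))
      isCharacter_one
    convert this using 1
    funext x
    simp
  have := isCharacter_mul hp (isCharacter_irr (Characters.Linear.linChar (linHom ((i : ℕ) : ZMod 3))))
  convert this using 1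
  funext x
  show g4 i x = Characters.Transitive.permChar (Fin 4) x * _
  rw [Characters.Linear.linChar_apply, g4]
  congr 1
  rw [Characters.Transitive.permChar, fixN, Nat.card_eq_fintype_card]
  congr 1
  exact (Fintype.card_of_subtype _ fun j => by simp; rfl).symm

/-- `PSL(2,3) ≅ A₄`. -/
theorem exists_equiv {F : Type v} [Field F] [Fintype F] (h3 : Fintype.card F = 3) :
    Nonempty (Matrix.ProjectiveSpecialLinearGroup (Fin 2) F ≃* A4) := by
  haveI : Fact (Nat.Prime 3) := ⟨Nat.prime_three⟩
  haveI : CharP F 3 := charP_of_card_eq_prime h3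
  have h2 : (2 : F) ≠ 0 := fun e => by
    have h' : ((2 : ℕ) : F) = 0 := by exact_mod_cast e
    rw [CharP.cast_eq_zero_iff F 3] at h'
    omega
  obtain ⟨φ, hφ⟩ := DicksonFull.exists_alt_four (F := F) h2
  have h := DicksonId.card_PSL_mul (F := F) (p := 3)
  rw [h3, show Nat.gcd 2 (3 - 1) = 2 from rfl] at h
  have hb : Function.Bijective φ := (Nat.bijective_iff_injective_and_card φ).2 ⟨hφ, by
    have hA : Nat.card A4 = 12 := by
      rw [Nat.card_eq_fintype_card]; decide +kernel
    omega⟩
  exact ⟨(MulEquiv.ofBijective φ hb).symm⟩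

section Transfer

variable {G : Type u} [Group G] [Fintype G] {K : Subgroup G} [Fintype ↥K] (e : ↥K ≃* A4)

/-- The functions on `K`. -/
noncomputable def g (i : Fin 3) (k : ↥K) : ℂ := g4 i (e k)

theorem inner_eq (f h : ↥K → ℂ) :
    Cfsg.classInner f h = (12 : ℂ)⁻¹ * ∑ x : A4, f (e.symm x) * conj (h (e.symm x)) := by
  rw [Cfsg.classInner, Nat.card_congr e.toEquiv,
    show Nat.card A4 = 12 by rw [Nat.card_eq_fintype_card]; decide +kernel]
  push_cast
  exact congrArg _ (Fintype.sum_equiv e.toEquiv _ _ fun k => by simp)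

theorem pairs_eq (k : ↥K) : GSide.pairs K k = pairN (e k) := by
  have h2 : ∀ a : ↥K, orderOf a = 2 ↔ e a ≠ 1 ∧ e a * e a = 1 := fun a => by
    rw [← MulEquiv.orderOf_eq e a, orderOf_eq_prime_iff, pow_two, and_comm]
  rw [GSide.pairs, pairN]
  refine (Nat.card_congr
    ((e.toEquiv.prodCongr e.toEquiv).subtypeEquiv (q := fun p : A4 × A4 =>
      p.1 ≠ 1 ∧ p.1 * p.1 = 1 ∧ p.2 ≠ 1 ∧ p.2 * p.2 = 1 ∧ p.1 * p.2 = e k) fun p => ?_)).trans ?_
  · simp only [Equiv.prodCongr_apply, Prod.map, MulEquiv.toEquiv_eq_coe, MulEquiv.coe_toEquiv, h2,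
      ← map_mul, e.injective.eq_iff, and_assoc]
  · rw [Nat.card_eq_fintype_card]
    exact Fintype.card_subtype _

theorem g_supp (i : Fin 3) : OddSupport (g e i) := by
  intro k hk
  rw [Subgroup.orderOf_coe, ← MulEquiv.orderOf_eq e] at hk
  rcases two_or_three (e k) with h | ⟨-, h⟩ | h
  · rw [h, orderOf_one] at hk; norm_num at hk
  · rw [g, g4, h, Nat.cast_zero, zero_mul]
  · have := hk.trans (orderOf_dvd_of_pow_eq_one h)
    norm_num at this

theorem g_gen (i : Fin 3) : Cfsg.IsGeneralizedCharacter ↥K (g e i) :=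
  Characters.Generalized.of_isCharacter (isCharacter_comp e.toMonoidHom (isCharacter_g4 i))

theorem g_one (i : Fin 3) : Cfsg.classInner (g e i) 1 = if i = 0 then 1 else 0 := by
  rw [inner_eq e]
  simp only [g, g4, MulEquiv.apply_symm_apply, Pi.one_apply, map_one, mul_one,
    sum_lab fixN 0 4 fibre_one]
  fin_cases i <;> simp (config := { decide := true }) <;> norm_num

theorem g_gram (i j : Fin 3) : Cfsg.classInner (g e i) (g e j) = if i = j then 2 else 1 := by
  rw [inner_eq e]
  simp only [g, MulEquiv.apply_symm_apply, conj_g4]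
  rw [Finset.sum_congr rfl (g := fun x : A4 => ((fixN x * fixN x : ℕ) : ℂ) *
    ZMod.stdAddChar ((((i : ℕ) : ZMod 3) - ((j : ℕ) : ZMod 3)) * lab x)) fun x _ => by
      rw [g4, sub_mul, sub_eq_add_neg, AddChar.map_add_eq_mul, neg_mul]
      push_cast
      ring, sum_lab _ 12 4 fibre_sq]
  fin_cases i <;> fin_cases j <;> simp (config := { decide := true }) <;> norm_num

theorem g_pairs (i : Fin 3) :
    Cfsg.classInner (fun k => (GSide.pairs K k : ℂ)) (g e i) = 1 := by
  rw [inner_eq e]
  simp only [g, MulEquiv.apply_symm_apply, pairs_eq e, conj_g4]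
  rw [Finset.sum_congr rfl (g := fun x : A4 => ((pairN x * fixN x : ℕ) : ℂ) *
    ZMod.stdAddChar (-((i : ℕ) : ZMod 3) * lab x)) fun x _ => by push_cast; ring,
    sum_lab _ 12 0 fibre_pair]
  simp

theorem g_sum (f : ↥K → ℂ) : ∑ i, Cfsg.classInner f (g e i) = f 1 := by
  simp only [inner_eq e, ← Finset.mul_sum, g, MulEquiv.apply_symm_apply]
  rw [Finset.sum_comm]
  simp only [← Finset.mul_sum, ← map_sum, sum_g4]
  rw [Finset.sum_eq_single (1 : A4) (fun x _ hx => by simp [hx]) (fun h => absurd (Finset.mem_univ _) h)]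
  simp [Complex.conj_ofNat]
  ring

end Transfer

end QThree

open QThree in
/-- There is no simple group with abelian Sylow 2-subgroups and an involution centraliser
`Z₂ × PSL₂(3)`. -/
theorem three_case {G : Type u} [Group G] [Finite G] [IsSimpleGroup G] {F : Type v} [Field F]
    [Fintype F] {t : G} (c : Cfg G F t) (hab : ∀ P : Sylow 2 G, ∀ a b : P, a * b = b * a)
    (h3 : Fintype.card F = 3) : False := by
  classical
  haveI : Fact (Nat.Prime 2) := ⟨Nat.prime_two⟩
  letI := Fintype.ofFinite G
  letI := Fintype.ofFinite (Cfsg.IrrCharacter G)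
  letI := Fintype.ofFinite ↥c.K
  have hodd : Odd (Fintype.card F) := by rw [h3]; decide
  obtain ⟨d⟩ := exists_torus c hab (Or.inl (by rw [h3]))
  obtain ⟨e₁⟩ := exists_equiv h3
  set e : ↥c.K ≃* alternatingGroup (Fin 4) := c.iso.trans e₁
  have hK : Nat.card ↥c.K = 12 := by
    rw [Nat.card_congr e.toEquiv, Nat.card_eq_fintype_card]; decide +kernel
  have hconj : ∀ x y : G, orderOf x = 2 → orderOf y = 2 → IsConj x y := fun x y hx hy =>
    (d.one_class x hx).symm.trans (d.one_class y hy)
  have hel : ∀ S : Sylow 2 G, Cfsg.IsElementaryAbelian 2 (S : Subgroup G) := by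
    intro S
    have hC := Local.conf c hab hodd
    obtain ⟨a, b, r, T⟩ := hC.exists_tri
    obtain ⟨P₀, -, hP₀⟩ := Local.exists_sylow_eight c hC T
    obtain ⟨g, hg⟩ := MulAction.exists_smul_eq G P₀ S
    refine ⟨⟨⟨fun x y => hab S x y⟩⟩, fun x hx => ?_⟩
    rw [← hg, Sylow.coe_subgroup_smul] at hx
    obtain ⟨p, hp, rfl⟩ := hx
    obtain ⟨v, hv, hpv⟩ := (hP₀ p).1 hp
    have hvv : v * v = 1 := by
      rcases hv with rfl | rfl | rfl | rfl
      · exact one_mul 1
      · exact Walter66.sq_of_ord T.ha
      · exact Walter66.sq_of_ord T.hb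
      · rw [show a * b * (a * b) = a * (b * a) * b by group, ← T.comm,
          show a * (a * b) * b = (a * a) * (b * b) by group, Walter66.sq_of_ord T.ha,
          Walter66.sq_of_ord T.hb, one_mul]
    have hvK : v ∈ c.K := by
      rcases hv with rfl | rfl | rfl | rfl
      exacts [one_mem _, T.amem, T.bmem, mul_mem T.amem T.bmem]
    show MulAut.conj g p ^ 2 = 1
    rw [← map_pow, pow_two]
    rcases hpv with rfl | rfl
    · rw [hvv, map_one]
    · rw [(c.comm hvK).symm.mul_mul_mul_comm, c.sq, hvv, one_mul, map_one]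
  have hS : GSide.SecCfg t c.K 3 1 :=
    { card_sylow := (Local.sylow_facts c hab hodd).1
      elementary := hel
      conjG := hconj
      ord := c.ord
      split := c.prod
      odd_c := odd_one
      Q_mod := by norm_num
      card := by rw [hK]; norm_num }
  have hg : GSide.IsProj c.K 3 1 (QThree.g e) :=
    { gen := QThree.g_gen e
      class_fn := fun i => Characters.Generalized.isClassFunction (QThree.g_gen e i)
      supp := QThree.g_supp e
      gram := QThree.g_gram e
      pairs_eq := fun i => by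
        rw [QThree.g_pairs e i, hK]
        split_ifs <;> norm_num }
  have hsep : GSide.IsSep t c.K 3 (QThree.g e) := fun χ _ => by
    have h := QThree.g_sum e (fun k : ↥c.K => (χ : G → ℂ) (t * (k : G)))
    rw [Fin.sum_univ_three] at h
    simp only [OneMemClass.coe_one, mul_one] at h
    rw [← h]
    simp only [secCoeff]
    push_cast
    ring
  have hperf : commutator G = ⊤ := by
    refine (Subgroup.Normal.eq_bot_or_eq_top (inferInstance : (commutator G).Normal)).resolve_left
      fun e' => ?_
    have h := commutator_eq_bot_iff_le_centralizer.1 e' (mem_top t)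
    have hZ : Subgroup.center G = ⊤ :=
      (Subgroup.Normal.eq_bot_or_eq_top (inferInstance : (center G).Normal)).resolve_left fun e'' =>
        c.ne_one (mem_bot.1 (e'' ▸ mem_center_iff.2 fun x =>
          mem_centralizer_iff.1 h x (mem_top x)))
    have hp : (Nat.card G).Prime := by
      letI : CommGroup G := Group.commGroupOfCenterEqTop hZ
      exact IsSimpleGroup.prime_card
    obtain ⟨S⟩ := (inferInstance : Nonempty (Sylow 2 G))
    have h8 := Subgroup.card_subgroup_dvd_card (S : Subgroup G)
    rw [hS.card_sylow S] at h8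
    rcases hp.eq_one_or_self_of_dvd 8 h8 with e8 | e8
    · norm_num at e8
    · rw [← e8] at hp; norm_num at hp
  obtain ⟨X, hX⟩ := hS.exists_table hg hsep
  obtain ⟨Y, -, hQ, hKY, hd, -⟩ := exists_tab hperf hX (QThree.g_one e)
  refine Y.three_false hQ (n := Nat.card G) ?_ fun χ => ?_
  · rw [hKY, GSide.kConst, ← (centralizer ({t} : Set G)).card_mul_index, sec_card c.prod c.ord, hK]
    have hi : ((centralizer ({t} : Set G)).index : ℚ) ≠ 0 :=
      Nat.cast_ne_zero.2 index_ne_zero_of_finite
    push_cast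
    field_simp
    norm_num
  · obtain ⟨m, -, hdvd, hm⟩ := Characters.Degree.exists_degree_dvd χ
    have hdm : X.d χ = m := by
      have := hX.hd χ
      rw [hm] at this
      exact_mod_cast this
    rw [hd, hdm]
    exact_mod_cast hdvd

end Cfsg.Agent.Lib.JankoThompson
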