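/-
The principal block on the section of an involution with centraliser `⟨t⟩ × K`.
-/
import Cfsg.Agent.Lib.JankoThompson.Setup
import Cfsg.Agent.Lib.BrauerMap.PrincipalSection
import Cfsg.Agent.Lib.DeficiencyBound.CentralQuotient
import Cfsg.Agent.Lib.Characters.Linear
import Cfsg.Agent.Lib.Clifford.Rep

set_option autoImplicit false
set_option linter.style.haveILetI false

universe u v

namespace Cfsg.Agent.Lib.JankoThompson

open Subgroup Cfsg.Agent.Lib.Blocks Cfsg.Agent.Lib.Characters.Basic Cfsg.Agent.Lib.Characters.Linear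
open Cfsg.Agent.Lib.BrauerMap.Inflation (infl infl_apply exists_infl sameBlock_infl)

variable {G : Type u} [Group G] {F : Type v} [Field F] [Fintype F] {t : G}

/-- The projection of `C(t)` onto `K` together with the sign at `t`. -/
theorem Cfg.exists_proj (c : Cfg G F t) :
    ∃ (π : ↥(centralizer ({t} : Set G)) →* ↥c.K) (σ : ↥(centralizer ({t} : Set G)) →* ℂˣ),
      Function.Surjective π ∧ (∀ k (hk : k ∈ c.K) (h : k ∈ centralizer ({t} : Set G)),
        π ⟨k, h⟩ = ⟨k, hk⟩ ∧ σ ⟨k, h⟩ = 1) ∧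
      (∀ h : t ∈ centralizer ({t} : Set G), π ⟨t, h⟩ = 1 ∧ σ ⟨t, h⟩ = -1) ∧
      (∀ g, σ g = 1 ∨ σ g = -1) ∧ (∀ g, π g = 1 → (g : G) = 1 ∨ (g : G) = t) := by
  classical
  obtain ⟨hle₁, hle₂, hcomm, hdisj, hsup⟩ := c.prod
  haveI : Finite ↥(zpowers t) := by
    refine Nat.finite_of_card_ne_zero ?_
    rw [Nat.card_zpowers, c.ord]
    norm_num
  have hz : ∀ x : G, x ∈ zpowers t → x = 1 ∨ x = t := by
    intro x hx
    obtain ⟨k, rfl⟩ := mem_zpowers_iff.1 hx
    rw [← zpow_mod_orderOf, c.ord]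
    rcases Int.emod_two_eq_zero_or_one k with e | e <;> simp [e]
  let f : ↥(zpowers t) × ↥c.K →* ↥(centralizer ({t} : Set G)) :=
    { toFun := fun p => ⟨(p.1 : G) * p.2, mul_mem (hle₁ p.1.2) (hle₂ p.2.2)⟩
      map_one' := Subtype.ext (mul_one _)
      map_mul' := fun p r => Subtype.ext (by
        simp only [Prod.fst_mul, Prod.snd_mul, Subgroup.coe_mul]
        rw [mul_assoc, ← mul_assoc (r.1 : G), hcomm _ r.1.2 _ p.2.2]
        group) }
  have hinj : Function.Injective f := by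
    refine (MonoidHom.ker_eq_bot_iff f).1 (le_antisymm (fun p hp => ?_) bot_le)
    have he : (p.1 : G) * p.2 = 1 := congrArg Subtype.val (MonoidHom.mem_ker.1 hp)
    have h1 : (p.1 : G) ∈ zpowers t ⊓ c.K :=
      ⟨p.1.2, show (p.1 : G) ∈ c.K by rw [eq_inv_of_mul_eq_one_left he]; exact inv_mem p.2.2⟩
    rw [hdisj, mem_bot] at h1
    rw [h1, one_mul] at he
    exact mem_bot.2 (Prod.ext (Subtype.ext h1) (Subtype.ext he))
  have hsurj : Function.Surjective f := by
    intro g
    have h : (centralizer ({t} : Set G)) ≤ f.range.map (centralizer ({t} : Set G)).subtype := by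
      conv_lhs => rw [← hsup]
      refine sup_le (fun x hx => ⟨f (⟨x, hx⟩, 1), ⟨_, rfl⟩, mul_one x⟩)
        (fun x hx => ⟨f (1, ⟨x, hx⟩), ⟨_, rfl⟩, one_mul x⟩)
    obtain ⟨g', ⟨p, rfl⟩, hp⟩ := h g.2
    exact ⟨p, Subtype.ext hp⟩
  let e := MulEquiv.ofBijective f ⟨hinj, hsurj⟩
  let s : ↥(zpowers t) →* ℂˣ :=
    { toFun := fun x => if (x : G) = 1 then 1 else -1
      map_one' := by simp
      map_mul' := fun x y => by
        rcases hz x x.2 with a | a <;> rcases hz y y.2 with b | b <;>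
          simp [a, b, c.ne_one, c.sq] }
  have hes : ∀ p g, f p = g → e.symm g = p := fun p g h => by rw [← h]; exact e.symm_apply_apply p
  refine ⟨(MonoidHom.snd _ _).comp e.symm.toMonoidHom, s.comp ((MonoidHom.fst _ _).comp e.symm.toMonoidHom),
    fun k => ⟨e (1, k), by simp⟩, ?_, ?_, ?_, ?_⟩
  · intro k hk h
    have := hes (1, ⟨k, hk⟩) ⟨k, h⟩ (Subtype.ext (one_mul k))
    simp [this]
  · intro h
    have := hes (⟨t, mem_zpowers t⟩, 1) ⟨t, h⟩ (Subtype.ext (mul_one t))
    simp [this, s, c.ne_one]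
  · intro g
    by_cases h : ((e.symm g).1 : G) = 1
    · left
      show (if ((e.symm g).1 : G) = 1 then (1 : ℂˣ) else -1) = 1
      rw [if_pos h]
    · right
      show (if ((e.symm g).1 : G) = 1 then (1 : ℂˣ) else -1) = -1
      rw [if_neg h]
  · intro g hg
    have h : (g : G) = ((e.symm g).1 : G) * ((e.symm g).2 : G) :=
      (congrArg Subtype.val (e.apply_symm_apply g)).symm
    rw [show (e.symm g).2 = 1 from hg, OneMemClass.coe_one, mul_one] at h
    rw [h]
    exact hz _ (e.symm g).1.2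

variable [Finite G] {M : Ideal Cfsg.AlgInt}

/-- A sign character does not change the block at the prime two. -/
theorem sameBlock_sign {H : Type u} [Group H] [Finite H] (hM : Cfsg.IsPModular 2 M) (σ : H →* ℂˣ)
    (hσ : ∀ g, σ g = 1 ∨ σ g = -1) (θ θ' : Cfsg.IrrCharacter H)
    (hθ : ∀ g, (θ' : H → ℂ) g = (θ : H → ℂ) g * (σ g : ℂ)) :
    Cfsg.SameBlock M (θ : H → ℂ) (θ' : H → ℂ) := by
  haveI := hM.2.1
  intro g
  have h1 : (1 : Cfsg.AlgInt) ∉ M := fun h => Ideal.IsMaximal.ne_top hM.2.1 ((Ideal.eq_top_iff_one M).2 h)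
  have hcc : Cfsg.centralChar (θ' : H → ℂ) g = (σ g : ℂ) * Cfsg.centralChar (θ : H → ℂ) g := by
    rw [Cfsg.centralChar, Cfsg.centralChar, hθ g, hθ 1, map_one, Units.val_one, mul_one]
    ring
  have hint := Cfsg.Agent.Lib.Blocks.isIntegral_centralChar θ g
  rcases hσ g with e | e <;> rw [hcc, e]
  · exact ⟨0, 1, M.zero_mem, h1, by simp⟩
  · exact ⟨⟨_, hint⟩ + ⟨_, hint⟩, 1, by rw [← two_mul]; exact M.mul_mem_right _ hM.2.2, h1, by push_cast; simp⟩

/-- The principal block of `C(t)` on the section of `t`. -/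
theorem Cfg.principal_pairing (c : Cfg G F t) (hM : Cfsg.IsPModular 2 M) (l l' : ↥c.K)
    (hl : ¬ 2 ∣ orderOf (l : G)) (hl' : ¬ 2 ∣ orderOf (l' : G)) :
    ∑ᶠ χ ∈ Cfsg.principalBlock M G, (χ : G → ℂ) (t * (l : G)) * (χ : G → ℂ) (t * (l' : G))⁻¹ =
      2 * ∑ᶠ ψ ∈ Cfsg.principalBlock M ↥c.K, (ψ : ↥c.K → ℂ) l * (ψ : ↥c.K → ℂ) l'⁻¹ := by
  classical
  haveI : Fact (Nat.Prime 2) := ⟨Nat.prime_two⟩
  haveI := hM.2.1
  obtain ⟨π, σ, hπ, hK, ht, hσ, hker⟩ := c.exists_proj
  have htC : t ∈ centralizer ({t} : Set G) := mem_centralizer_singleton_iff.2 rfl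
  have hC : ∀ k : ↥c.K, t * (k : G) ∈ centralizer ({t} : Set G) := fun k =>
    mul_mem htC (mem_centralizer_singleton_iff.2 (c.comm k.2).symm)
  have hsec : ∀ k : ↥c.K, ¬ 2 ∣ orderOf (k : G) → Cfsg.IsPPart 2 (t * (k : G)) t := fun k hk =>
    ⟨k, rfl, c.comm k.2, ⟨1, by rw [c.ord, pow_one]⟩, hk⟩
  have key := BrauerMap.PrincipalSection.sum_principal_section hM
    (⟨t * (l : G), hC l⟩ : ↥(centralizer ({t} : Set G))) ⟨t * (l' : G), hC l'⟩ (hsec l hl) (hsec l' hl')
  rw [key]
  -- the kernel of the projection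
  have hcen : π.ker ≤ Subgroup.center ↥(centralizer ({t} : Set G)) := by
    intro g hg
    refine Subgroup.mem_center_iff.2 fun x => Subtype.ext ?_
    rcases hker g hg with e | e <;> simp only [Subgroup.coe_mul, e, one_mul, mul_one]
    exact mem_centralizer_singleton_iff.1 x.2
  have hp : IsPGroup 2 π.ker := by
    intro g
    refine ⟨1, Subtype.ext (Subtype.ext ?_)⟩
    simp only [pow_one, SubgroupClass.coe_pow, OneMemClass.coe_one]
    rcases hker g g.2 with e | e <;> rw [e]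
    · simp
    · rw [pow_two, c.sq]
  -- the characters of `C(t)`
  have hlin : ∀ g, (linChar σ : ↥(centralizer ({t} : Set G)) → ℂ) g = (σ g : ℂ) := fun g => linChar_apply σ g
  let tw : Cfsg.IrrCharacter ↥(centralizer ({t} : Set G)) → Cfsg.IrrCharacter ↥(centralizer ({t} : Set G)) :=
    fun θ => ⟨_, isIrrCharacter_linear_mul (lam := (linChar σ : ↥(centralizer ({t} : Set G)) → ℂ)) (χ := (θ : ↥(centralizer ({t} : Set G)) → ℂ))
      (isCharacter_irr _) (by rw [hlin, map_one, Units.val_one]) θ.2⟩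
  have htw : ∀ θ g, (tw θ : ↥(centralizer ({t} : Set G)) → ℂ) g = (θ : ↥(centralizer ({t} : Set G)) → ℂ) g * (σ g : ℂ) := fun θ g => by
    show (linChar σ : ↥(centralizer ({t} : Set G)) → ℂ) g * _ = _
    rw [hlin, mul_comm]
  let J : Bool → Cfsg.IrrCharacter ↥c.K → Cfsg.IrrCharacter ↥(centralizer ({t} : Set G)) :=
    fun b ψ => if b then tw (infl π hπ ψ) else infl π hπ ψ
  have hsq : ∀ g, (σ g : ℂ) * σ g = 1 := fun g => by rcases hσ g with e | e <;> rw [e] <;> simp
  have hJval : ∀ b ψ (k : ↥c.K), (J b ψ : ↥(centralizer ({t} : Set G)) → ℂ) ⟨t * (k : G), hC k⟩ =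
      (if b then -1 else 1) * (ψ : ↥c.K → ℂ) k := by
    intro b ψ k
    have hk : (k : G) ∈ centralizer ({t} : Set G) := mem_centralizer_singleton_iff.2 (c.comm k.2).symm
    have e : (⟨t * (k : G), hC k⟩ : ↥(centralizer ({t} : Set G))) = ⟨t, htC⟩ * ⟨k, hk⟩ := rfl
    have ep : π ⟨t * (k : G), hC k⟩ = k := by
      rw [e, map_mul, (ht htC).1, (hK k k.2 hk).1, one_mul]
    have es : σ ⟨t * (k : G), hC k⟩ = -1 := by
      rw [e, map_mul, (ht htC).2, (hK k k.2 hk).2, mul_one]
    cases b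
    · simp only [J, if_neg (Bool.false_ne_true), infl_apply, ep, one_mul]
    · simp only [J, if_pos, htw, infl_apply, ep, es]
      simp
  have hone : infl π hπ (oneChar ↥c.K) = oneChar _ := Subtype.ext rfl
  have hblock : ∀ b ψ, J b ψ ∈ Cfsg.principalBlock M ↥(centralizer ({t} : Set G)) ↔
      ψ ∈ Cfsg.principalBlock M ↥c.K := by
    intro b ψ
    have hs : Cfsg.SameBlock M (infl π hπ ψ : ↥(centralizer ({t} : Set G)) → ℂ) (J b ψ : ↥(centralizer ({t} : Set G)) → ℂ) := by
      cases b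
      · exact sameBlock_refl _
      · exact sameBlock_sign hM σ hσ _ _ (htw _)
    rw [principalBlock_eq, principalBlock_eq, mem_blockOf_iff, mem_blockOf_iff, ← hone, ← sameBlock_iff_omegaBar,
      ← sameBlock_iff_omegaBar]
    constructor
    · intro h
      exact DeficiencyBound.CentralQuotient.sameBlock_of_infl hM π hπ hcen hp
        (sameBlock_trans h (sameBlock_symm hs))
    · intro h
      exact sameBlock_trans (sameBlock_infl π hπ h) hs
  have himage : Cfsg.principalBlock M ↥(centralizer ({t} : Set G)) =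
      J false '' Cfsg.principalBlock M ↥c.K ∪ J true '' Cfsg.principalBlock M ↥c.K := by
    ext θ
    constructor
    · intro hθ
      -- the value at `t`
      obtain ⟨n, ρ, hirr, hρ⟩ := θ.2
      haveI := hirr
      have htcen : ∀ g : ↥(centralizer ({t} : Set G)), g * ⟨t, htC⟩ = ⟨t, htC⟩ * g := fun g =>
        Subtype.ext (mem_centralizer_singleton_iff.1 g.2)
      obtain ⟨a, ha⟩ := Clifford.Rep.schur ρ (ρ ⟨t, htC⟩) fun g => by rw [← map_mul, ← map_mul, htcen]
      have hval : ∀ g, (θ : ↥(centralizer ({t} : Set G)) → ℂ) (⟨t, htC⟩ * g) = a * (θ : ↥(centralizer ({t} : Set G)) → ℂ) g := fun g => by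
        rw [← hρ]
        simp only [Representation.character, map_mul, ha, smul_mul_assoc, one_mul, map_smul, smul_eq_mul]
      have h1 : (θ : ↥(centralizer ({t} : Set G)) → ℂ) 1 ≠ 0 := apply_one_ne_zero θ
      have htt : (⟨t, htC⟩ : ↥(centralizer ({t} : Set G))) * ⟨t, htC⟩ = 1 := Subtype.ext c.sq
      have haa : a * a = 1 := by
        have := hval ⟨t, htC⟩
        rw [htt, show (θ : ↥(centralizer ({t} : Set G)) → ℂ) ⟨t, htC⟩ = a * (θ : ↥(centralizer ({t} : Set G)) → ℂ) 1 by rw [← hval, mul_one]] at this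
        exact mul_right_cancel₀ h1 (by linear_combination -this)
      have hkerv : ∀ g, π g = 1 → g = 1 ∨ g = ⟨t, htC⟩ := fun g hg =>
        (hker g hg).imp (fun e => Subtype.ext e) (fun e => Subtype.ext e)
      rcases mul_self_eq_one_iff.1 haa with rfl | rfl
      · obtain ⟨ψ, hψ⟩ := exists_infl π hπ θ (fun g hg => by
          rcases hkerv g hg with rfl | rfl
          · rfl
          · have := hval 1; rw [mul_one, one_mul] at this; exact this)
        have hJ : J false ψ = θ := hψ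
        exact Or.inl ⟨ψ, (hblock false ψ).1 (hJ ▸ hθ), hJ⟩
      · obtain ⟨ψ, hψ⟩ := exists_infl π hπ (tw θ) (fun g hg => by
          rcases hkerv g hg with rfl | rfl
          · rfl
          · rw [htw, htw, (ht htC).2, map_one]
            have := hval 1
            rw [mul_one] at this
            rw [this]
            simp)
        have hJ : J true ψ = θ := by
          show tw (infl π hπ ψ) = θ
          rw [hψ]
          exact Subtype.ext (funext fun g => by rw [htw, htw, mul_assoc, hsq, mul_one])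
        exact Or.inr ⟨ψ, (hblock true ψ).1 (hJ ▸ hθ), hJ⟩
    · rintro (⟨ψ, hψ, rfl⟩ | ⟨ψ, hψ, rfl⟩) <;> exact (hblock _ _).2 hψ
  have hJ1 : ∀ (b : Bool) ψ, (J b ψ : ↥(centralizer ({t} : Set G)) → ℂ) ⟨t * ((1 : ↥c.K) : G), hC 1⟩ =
      (if b then -1 else 1) * (ψ : ↥c.K → ℂ) 1 := fun b ψ => hJval b ψ 1
  have hinjJ : ∀ b, Function.Injective (J b) := by
    intro b ψ ψ' h
    refine Subtype.ext (funext fun k => ?_)
    have e := hJval b ψ k
    rw [h, hJval b ψ' k] at e
    cases b <;> simpa using e.symm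
  have hdisj : Disjoint (J false '' Cfsg.principalBlock M ↥c.K) (J true '' Cfsg.principalBlock M ↥c.K) := by
    rw [Set.disjoint_left]
    rintro θ ⟨ψ, -, rfl⟩ ⟨ψ', -, h⟩
    obtain ⟨k0, hk0⟩ := hπ 1
    have e1 : (J true ψ' : ↥(centralizer ({t} : Set G)) → ℂ) 1 = (J false ψ : ↥(centralizer ({t} : Set G)) → ℂ) 1 := by rw [h]
    simp only [J, if_pos, Bool.false_eq_true, if_false, htw, infl_apply, map_one, Units.val_one, mul_one] at e1
    have e2 := hJ1 false ψ
    rw [← h, hJ1 true ψ'] at e2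
    simp only [Bool.false_eq_true, if_false, if_pos, one_mul, neg_one_mul] at e2
    exact apply_one_ne_zero ψ (by linear_combination (-1 / 2 : ℂ) * e2 + (-1 / 2 : ℂ) * e1)
  have hinv : ∀ b ψ (k : ↥c.K), (J b ψ : ↥(centralizer ({t} : Set G)) → ℂ) (⟨t * (k : G), hC k⟩ : ↥(centralizer ({t} : Set G)))⁻¹ =
      (if b then -1 else 1) * (ψ : ↥c.K → ℂ) k⁻¹ := by
    intro b ψ k
    rw [apply_inv (isCharacter_irr _), hJval, map_mul, apply_inv (isCharacter_irr ψ)]
    cases b <;> simp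
  rw [himage, finsum_mem_union hdisj (Set.toFinite _) (Set.toFinite _),
    finsum_mem_image (hinjJ false).injOn, finsum_mem_image (hinjJ true).injOn, two_mul]
  congr 1 <;> refine finsum_congr fun ψ => finsum_congr fun _ => ?_ <;> rw [hJval, hinv] <;> simp

end Cfsg.Agent.Lib.JankoThompson
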