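import Cfsg.Agent.Lib.SL2Chars49.Facts
import Cfsg.Agent.Lib.SL2Chars49.Counts
import Cfsg.Agent.Lib.SL2Chars49.Sum

/-!
# Janko–Thompson: characters of `SL(2, q)` at an element of odd order centralised by an element of
order four

Owner: helper3.
-/

set_option autoImplicit false
set_option linter.unusedSectionVars false
set_option linter.unnecessarySeqFocus false

namespace Cfsg.Agent.Lib.JankoThompson.SLValues

open Cfsg.Agent.Lib.SL2Chars49 Cfsg.Agent.Lib.PSLTwo.Sylow
open Cfsg.Agent.Lib.Characters.Basic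
open Cfsg.Agent.Lib.SL2Tori (Regular)

variable {F : Type*} [Field F] [Fintype F] [DecidableEq F]

local notation "SL" => Matrix.SpecialLinearGroup (Fin 2) F

/-- A non-scalar element commuting with an element of square `-1` has discriminant `-4 β²`. -/
theorem exists_disc (h2 : (2 : F) ≠ 0) {g σ : SL} (hσ : σ * σ = negOne) (hc : g * σ = σ * g)
    (hg : NonScalar g) :
    ∃ β : F, β ≠ 0 ∧ (g.1 0 0 - g.1 1 1) ^ 2 + 4 * (g.1 0 1 * g.1 1 0) = -4 * β ^ 2 := by
  have e00 := congrArg (fun x : SL => x.1 0 0) hσ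
  have e01 := congrArg (fun x : SL => x.1 0 1) hσ
  have e10 := congrArg (fun x : SL => x.1 1 0) hσ
  have e11 := congrArg (fun x : SL => x.1 1 1) hσ
  have c00 := congrArg (fun x : SL => x.1 0 0) hc
  have c01 := congrArg (fun x : SL => x.1 0 1) hc
  have c10 := congrArg (fun x : SL => x.1 1 0) hc
  simp only [mul_apply', negOne_00, negOne_01, negOne_10, negOne_11] at e00 e01 e10 e11 c00 c01 c10
  have htr : σ.1 0 0 + σ.1 1 1 = 0 := by
    have hd := det_eq σ
    have h := mul_eq_zero.1 (show (σ.1 0 0 + σ.1 1 1) * (σ.1 0 0 + σ.1 1 1) = 0 by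
      linear_combination e00 + e11 + 2 * hd)
    exact h.elim id id
  have hp : σ.1 1 1 = -σ.1 0 0 := by linear_combination htr
  by_cases hr : σ.1 0 1 = 0
  · have hp0 : σ.1 0 0 ≠ 0 := fun e => by rw [hr, e] at e00; simp at e00
    have g01 : g.1 0 1 = 0 := by
      have : g.1 0 1 * (2 * σ.1 0 0) = 0 := by
        rw [hr, hp] at c01; linear_combination -c01
      exact (mul_eq_zero.1 this).resolve_right (mul_ne_zero h2 hp0)
    refine ⟨(g.1 0 0 - g.1 1 1) / (2 * σ.1 0 0) , fun e => ?_, ?_⟩
    · have h0 : g.1 0 0 - g.1 1 1 = 0 :=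
        (div_eq_zero_iff.1 e).resolve_right (mul_ne_zero h2 hp0)
      have g10 : g.1 1 0 = 0 := by
        have : g.1 1 0 * (2 * σ.1 0 0) = 0 := by
          rw [hp] at c10; linear_combination c10 + σ.1 1 0 * h0
        exact (mul_eq_zero.1 this).resolve_right (mul_ne_zero h2 hp0)
      rcases hg with h | h | h
      · exact h g01
      · exact h g10
      · exact h (sub_eq_zero.1 h0)
    · rw [hr] at e00
      field_simp
      rw [g01]
      linear_combination 4 * (g.1 0 0 - g.1 1 1) ^ 2 * e00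
  · refine ⟨g.1 0 1 / σ.1 0 1, fun e => ?_, ?_⟩
    · have g01 : g.1 0 1 = 0 := (div_eq_zero_iff.1 e).resolve_right hr
      rw [g01] at c00 c01
      have g10 : g.1 1 0 = 0 := by
        have : σ.1 0 1 * g.1 1 0 = 0 := by linear_combination -c00
        exact (mul_eq_zero.1 this).resolve_left hr
      have h0 : g.1 0 0 = g.1 1 1 := by
        have : σ.1 0 1 * (g.1 0 0 - g.1 1 1) = 0 := by linear_combination c01
        exact sub_eq_zero.1 ((mul_eq_zero.1 this).resolve_left hr)
      rcases hg with h | h | h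
      · exact h g01
      · exact h g10
      · exact h h0
    · rw [hp] at c01
      have hd2 : σ.1 0 1 * (g.1 0 0 - g.1 1 1) = 2 * σ.1 0 0 * g.1 0 1 := by linear_combination c01
      field_simp
      linear_combination (σ.1 0 1 * (g.1 0 0 - g.1 1 1) + 2 * σ.1 0 0 * g.1 0 1) * hd2 -
        4 * g.1 0 1 * σ.1 0 1 * c00 + 4 * g.1 0 1 ^ 2 * e00

/-- Such an element is regular, and split exactly when `-1` is a square. -/
theorem regular_and_split (h2 : (2 : F) ≠ 0) {g σ : SL} (hσ : σ * σ = negOne) (hc : g * σ = σ * g)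
    (hg : NonScalar g) :
    Regular g ∧ (Split g ↔ IsSquare (-1 : F)) := by
  obtain ⟨β, hβ, hdisc⟩ := exists_disc h2 hσ hc hg
  have h4 : (4 : F) ≠ 0 := by
    rw [show (4 : F) = 2 * 2 by norm_num]; exact mul_ne_zero h2 h2
  refine ⟨?_, ⟨?_, ?_⟩⟩
  · rw [SL2Tori.regular_iff_disc, hdisc]
    exact mul_ne_zero (neg_ne_zero.2 h4) (pow_ne_zero 2 hβ)
  · rintro ⟨a, ha⟩
    simp only [slTr, Units.val_inv_eq_inv_val] at ha
    refine ⟨((a : F) - (a : F)⁻¹) / (2 * β), ?_⟩
    have hd := det_eq g
    have hai : (a : F) * (a : F)⁻¹ = 1 := mul_inv_cancel₀ a.ne_zero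
    rw [div_mul_div_comm, eq_div_iff (by simp [h2, hβ])]
    linear_combination (g.1 0 0 + g.1 1 1 + a + (a : F)⁻¹) * ha - hdisc - 4 * hd + 4 * hai
  · rintro ⟨i, hi⟩
    have hd := det_eq g
    have hu : ((g.1 0 0 + g.1 1 1) / 2 + i * β) * ((g.1 0 0 + g.1 1 1) / 2 - i * β) = 1 := by
      field_simp
      linear_combination hdisc + 4 * hd + 4 * β ^ 2 * hi
    refine ⟨⟨(g.1 0 0 + g.1 1 1) / 2 + i * β, (g.1 0 0 + g.1 1 1) / 2 - i * β, hu,
      by rw [mul_comm]; exact hu⟩, ?_⟩
    simp only [slTr]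
    show g.1 0 0 + g.1 1 1 =
      (g.1 0 0 + g.1 1 1) / 2 + i * β + ((g.1 0 0 + g.1 1 1) / 2 - i * β)
    field_simp
    ring

theorem eq_one_of_sq_of_odd {M : Type*} [Monoid M] {x : M} {n : ℕ} (hn : Odd n) (h2 : x ^ 2 = 1)
    (h : x ^ n = 1) : x = 1 := by
  obtain ⟨k, rfl⟩ := hn
  rwa [pow_succ, pow_mul, h2, one_pow, one_mul] at h

/-- The Steinberg character and the characters of degree `(q ± 1) / 2` at `g`. -/
theorem values (hodd : Fintype.card F % 2 = 1) (h5 : 5 ≤ Fintype.card F) {χ : SL → ℂ}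
    (hχ : Cfsg.IsIrrCharacter SL χ) {g σ : SL} (hσ : σ * σ = negOne) (hc : g * σ = σ * g)
    (hne : g ≠ 1) (hord : Odd (orderOf g)) :
    let s : ℂ := if Fintype.card F % 4 = 3 then -1 else 1
    (χ 1 = (Fintype.card F : ℂ) ∨ 2 * χ 1 = (Fintype.card F : ℂ) + s) → χ g = s := by
  intro s
  obtain ⟨C, hC, hcard⟩ := exists_C (F := F)
  have h2 := two_ne_zero_of_odd (F := F) hodd
  have hodd' : Odd (Fintype.card F) := Nat.odd_iff.2 hodd
  have hg : NonScalar g := (nonScalar_iff h2).2 ⟨hne, fun e => by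
    rw [e, orderOf_negOne h2] at hord; exact absurd hord (by decide)⟩
  obtain ⟨hreg, hsplit⟩ := regular_and_split h2 hσ hc hg
  rw [FiniteField.isSquare_neg_one_iff] at hsplit
  have hq : (5 : ℝ) ≤ Fintype.card F := by exact_mod_cast h5
  intro hdeg
  have hdeg' : (χ 1).re = (Fintype.card F : ℝ) ∨ 2 * (χ 1).re = (Fintype.card F : ℝ) + s.re := by
    rcases hdeg with h | h
    · exact Or.inl (by rw [h, Complex.natCast_re])
    · refine Or.inr ?_
      have := congrArg Complex.re h
      simpa using this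
  have hbase : ∀ {d : ℂ}, χ 1 = d → d.re = (Fintype.card F : ℝ) ∨ 2 * d.re = (Fintype.card F : ℝ) + s.re :=
    fun h => h ▸ hdeg'
  have hsre : s.re = -1 ∨ s.re = 1 := by
    by_cases h : Fintype.card F % 4 = 3
    · left; simp [s, h]
    · right; simp [s, h]
  have hcase : χ = st ∨ (Fintype.card F % 4 = 3 ∧ IsHalfM hC hcard χ) ∨
      (Fintype.card F % 4 ≠ 3 ∧ IsHalfP χ) := by
    rcases classify hC hcard hχ with h | ⟨-, h | h⟩
    · rcases h with rfl | rfl | ⟨α, -, rfl⟩ | ⟨θ, -, rfl⟩
      · exfalso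
        rcases hbase (d := 1) rfl with e | e <;> simp at e <;>
          rcases hsre with e' | e' <;> linarith
      · exact Or.inl rfl
      · exfalso
        rcases hbase (pi_one α) with e | e <;> simp at e <;>
          rcases hsre with e' | e' <;> linarith
      · exfalso
        rcases hbase (dX_one hC hcard θ) with e | e <;> simp at e <;>
          rcases hsre with e' | e' <;> linarith
    · refine Or.inr (Or.inr ⟨fun h3 => ?_, h⟩)
      have hd : 2 * (χ 1).re = (Fintype.card F : ℝ) + 1 := by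
        simpa using congrArg Complex.re h.degree
      have hs : s.re = -1 := by simp [s, h3]
      rcases hdeg' with e | e <;> linarith
    · refine Or.inr (Or.inl ⟨?_, h⟩)
      by_contra h3
      have hd : 2 * (χ 1).re = (Fintype.card F : ℝ) - 1 := by
        simpa using congrArg Complex.re h.degree
      have hs : s.re = 1 := by simp [s, h3]
      rcases hdeg' with e | e <;> linarith
  have hclass := isClassFunction_of_isCharacter (IsCharacter_of_isIrrCharacter hχ)
  have hhalf : ∀ (ε : MulChar F ℂ) (x : ℂ), halfFun ε x g = 0 := fun ε x => by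
    rw [halfFun, if_neg hreg]
  by_cases h3 : Fintype.card F % 4 = 3
  · have hns : ¬ Split g := fun h => hsplit.1 h h3
    obtain ⟨c, P, hcn, hP⟩ :=
      exists_conj_of_noEigen hC hcard ((not_split_iff_noEigen g).1 hns)
    simp only [s, if_pos h3]
    rcases hcase with rfl | ⟨-, hM⟩ | ⟨h, -⟩
    · exact st_nonsplit hns
    · obtain ⟨ε, θ, d, -, -, hθ, -, -, rfl⟩ := hM
      have hco : (c : SL) = P⁻¹ * g * P := by rw [← hP]; group
      have hθc : θ c = 1 := eq_one_of_sq_of_odd hord (DFunLike.congr_fun hθ c)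
        (by
          rw [← map_pow, ← map_one θ]
          refine congrArg θ (Subtype.ext ?_)
          rw [SubmonoidClass.coe_pow, hco]
          have := conj_pow (a := P⁻¹) (b := g) (i := orderOf g)
          rw [inv_inv] at this
          rw [this, pow_orderOf_eq_one, OneMemClass.coe_one]; group)
      have hθc' : θ c⁻¹ = 1 := by rw [map_inv, hθc, inv_one]
      have hd : dX hC hcard θ g = -2 := by
        rw [← hP, show dX hC hcard θ (P * (c : SL) * P⁻¹) = dX hC hcard θ (c : SL) from ?_,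
          dX_C hC hcard θ c hcn, hθc, hθc', Units.val_one]
        · norm_num
        · exact classFun_dX hC hcard θ _ _
      show (dX hC hcard θ g + d * halfFun ε (-1) g) / 2 = -1
      rw [hhalf, hd]; ring
    · exact absurd h3 h
  · obtain ⟨a, ha⟩ := hsplit.2 h3
    have htr : slTr g = slTr (dg a) := by rw [slTr_dg]; exact ha
    obtain ⟨P, hP⟩ := exists_conj_of_regular hreg htr.symm
    have ha2 : (a : F) * a ≠ 1 := by
      rw [← dg_regular_iff]
      show slTr (dg a) ^ 2 ≠ 4
      rw [← htr]; exact hreg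
    have hda : χ g = χ (dg a) := by rw [← hP]; exact (hclass g P).symm
    simp only [s, if_neg h3]
    rw [hda]
    rcases hcase with rfl | ⟨h, -⟩ | ⟨-, hH⟩
    · exact st_dg ha2
    · exact absurd h h3
    · obtain ⟨ε, d, hε, -, -, rfl⟩ := hH
      have hr : halfFun ε 1 (dg a) = 0 := by
        rw [halfFun, if_neg]; rw [← htr]; exact hreg
      have hεa : ε (a : F) = 1 := by
        refine eq_one_of_sq_of_odd hord (by rw [← MulChar.pow_apply_coe, hε, MulChar.one_apply_coe]) ?_
        have ha1 : a ^ orderOf g = 1 := by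
          refine dg_injective ?_
          rw [map_pow, map_one, ← hP, conj_pow, pow_orderOf_eq_one, mul_one, mul_inv_cancel]
        rw [← map_pow, ← Units.val_pow_eq_pow_val, ha1, Units.val_one, map_one]
      have hεa' : ε ((a⁻¹ : Fˣ) : F) = 1 := by
        have : ε (a : F) * ε ((a⁻¹ : Fˣ) : F) = 1 := by
          rw [← map_mul, ← Units.val_mul, mul_inv_cancel, Units.val_one, map_one]
        rwa [hεa, one_mul] at this
      show (pi ε (dg a) + d * halfFun ε 1 (dg a)) / 2 = 1
      rw [hr, pi_dg _ ha2, hεa, hεa']; ring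

end Cfsg.Agent.Lib.JankoThompson.SLValues
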