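import Mathlib
import Cfsg.Agent.Lib.JankoThompson.Arith.Small
import Cfsg.Agent.Lib.Coprime.Generation
import Cfsg.Agent.Lib.OffenderComp.Facts
import Cfsg.Agent.S0948
import Cfsg.Agent.S4479

/-!
A group with a fused Klein four Sylow 2-subgroup whose involution centralisers are all the same abelian group:
either the four-group is normal or the quotient by the odd part is alternating of degree five.
-/

set_option autoImplicit false
set_option linter.unusedSectionVars false
set_option linter.style.haveILetI false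

universe u

namespace Cfsg.Agent.Lib.JankoThompson.Centralizer

open Subgroup
open scoped Pointwise

variable {X : Type u} [Group X] [Finite X]

/-- The four group `P`, the odd part `Y` of the common centraliser, and the element `r` permuting `P`;
`Y` need not be commutative. -/
structure FusedCore (P : Sylow 2 X) (Y : Subgroup X) (r : X) : Prop where
  four : IsKleinFour (P : Subgroup X)
  cen : ∀ v ∈ (P : Subgroup X), v ≠ 1 → centralizer ({v} : Set X) = (P : Subgroup X) ⊔ Y
  comm : ∀ a ∈ (P : Subgroup X), ∀ z ∈ Y, Commute a z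
  odd : Odd (Nat.card Y)
  r3 : orderOf r = 3
  rP : ∀ v ∈ (P : Subgroup X), r * v * r⁻¹ ∈ (P : Subgroup X)
  rfix : ∀ v ∈ (P : Subgroup X), r * v * r⁻¹ = v → v = 1

/-- The same with a commutative `Y`. -/
structure Fused (P : Sylow 2 X) (Y : Subgroup X) (r : X) : Prop extends FusedCore P Y r where
  ab : ∀ z ∈ Y, ∀ z' ∈ Y, Commute z z'

variable {P : Sylow 2 X} {Y : Subgroup X} {r : X} (h : FusedCore P Y r)

include h

theorem FusedCore.sq {v : X} (hv : v ∈ (P : Subgroup X)) : v * v = 1 :=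
  Involutions.KleinSylow.sq_eq_one h.four hv

theorem FusedCore.meet : (P : Subgroup X) ⊓ Y = ⊥ := by
  rw [eq_bot_iff]
  rintro v ⟨hv, hvY⟩
  have h1 : orderOf v ∣ 2 := orderOf_dvd_of_pow_eq_one (by rw [pow_two, h.sq hv])
  have h2 := orderOf_dvd_natCard Y hvY
  exact mem_bot.2 (orderOf_eq_one_iff.1 (Nat.eq_one_of_dvd_coprimes
    (Nat.coprime_two_left.2 h.odd) h1 h2))

theorem FusedCore.card_sup : Nat.card ↥((P : Subgroup X) ⊔ Y) = 4 * Nat.card Y := by
  have hc := OffenderComp.Aux.card_sup_inf (H := (P : Subgroup X)) (K := Y) fun a ha => by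
    rw [mem_normalizer_iff]
    refine fun z => ⟨fun hz => ?_, fun hz => ?_⟩
    · rwa [mul_inv_eq_iff_eq_mul.2 (h.comm a ha z hz).eq]
    · have := h.comm a ha _ hz
      have e : a * (a * z * a⁻¹) * a⁻¹ = a * z * a⁻¹ := mul_inv_eq_iff_eq_mul.2 this.eq
      rwa [mul_left_cancel (mul_right_cancel e : a * (a * z * a⁻¹) = a * z)] at hz
  rw [h.meet, card_bot, mul_one, h.four.card_four] at hc
  exact hc

theorem FusedCore.sup_cent {a : X} (ha : a ∈ (P : Subgroup X) ⊔ Y) {v : X} (hv : v ∈ (P : Subgroup X)) :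
    Commute a v := by
  rcases eq_or_ne v 1 with rfl | hv1
  · exact Commute.one_right a
  rw [← h.cen v hv hv1] at ha
  exact mem_centralizer_singleton_iff.1 ha

theorem FusedCore.r_notMem : r ∉ (P : Subgroup X) ⊔ Y := fun hr => by
  haveI := h.four
  obtain ⟨v, hv⟩ : ∃ v : (P : Subgroup X), v ≠ 1 := by
    haveI : Nontrivial (P : Subgroup X) :=
      Finite.one_lt_card_iff_nontrivial.1 (by rw [h.four.card_four]; norm_num)
    exact exists_ne 1
  exact hv (Subtype.ext (h.rfix v v.2 (mul_inv_eq_iff_eq_mul.2 (h.sup_cent hr v.2).eq)))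

/-- An element normalising the four group is, up to a power of `r`, in the centraliser. -/
theorem FusedCore.norm_cases {g : X} (hg : ∀ v ∈ (P : Subgroup X), g * v * g⁻¹ ∈ (P : Subgroup X)) :
    g ∈ (P : Subgroup X) ⊔ Y ∨ r⁻¹ * g ∈ (P : Subgroup X) ⊔ Y ∨ (r * r)⁻¹ * g ∈ (P : Subgroup X) ⊔ Y := by
  haveI : Nontrivial (P : Subgroup X) :=
    Finite.one_lt_card_iff_nontrivial.1 (by rw [h.four.card_four]; norm_num)
  obtain ⟨⟨a, ha⟩, ha1⟩ := exists_ne (1 : (P : Subgroup X))
  have ha1' : a ≠ 1 := fun e => ha1 (Subtype.ext e)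
  set b := r * a * r⁻¹ with hb
  set c := r * b * r⁻¹ with hc
  have hbP := h.rP a ha
  have hcP := h.rP b hbP
  have hab : b ≠ a := fun e => ha1' (h.rfix a ha e)
  have hb1 : b ≠ 1 := fun e => ha1' (conj_eq_one_iff.1 e)
  have hc1 : c ≠ 1 := fun e => hb1 (conj_eq_one_iff.1 e)
  have hbc : c ≠ b := fun e => hb1 (h.rfix b hbP e)
  have hr3 : r * r * r = 1 := by
    rw [show r * r * r = r ^ 3 by simp [pow_succ], ← h.r3, pow_orderOf_eq_one]
  have hac : c ≠ a := fun e => hab (by
    have : r * c * r⁻¹ = r * a * r⁻¹ := by rw [e]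
    rw [hc, hb, show r * (r * (r * a * r⁻¹) * r⁻¹) * r⁻¹ = r * r * r * a * (r * r * r)⁻¹ by group, hr3,
      one_mul, inv_one, mul_one] at this
    exact this.symm)
  have hall : ∀ x ∈ (P : Subgroup X), x = 1 ∨ x = a ∨ x = b ∨ x = c := by
    intro x hx
    by_contra hne
    push Not at hne
    haveI := h.four
    exact hne.2.2.2 (congrArg Subtype.val ((IsKleinFour.eq_mul_of_ne_all (x := (⟨a, ha⟩ : (P : Subgroup X)))
      (y := ⟨b, hbP⟩) (z := ⟨x, hx⟩) (by simpa using ha1') (by simpa using hb1) (by simpa using hab.symm)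
      (by simpa using hne.1) (by simpa using hne.2.1) (by simpa using hne.2.2.1)).trans
      (IsKleinFour.eq_mul_of_ne_all (x := (⟨a, ha⟩ : (P : Subgroup X)))
      (y := ⟨b, hbP⟩) (z := ⟨c, hcP⟩) (by simpa using ha1') (by simpa using hb1) (by simpa using hab.symm)
      (by simpa using hc1) (by simpa using hac) (by simpa using hbc)).symm))
  have hfix : ∀ k : X, k * a * k⁻¹ = a → k ∈ (P : Subgroup X) ⊔ Y := fun k hk => by
    rw [← h.cen a ha ha1']
    exact mem_centralizer_singleton_iff.2 (mul_inv_eq_iff_eq_mul.1 hk)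
  rcases hall _ (hg a ha) with e | e | e | e
  · exact absurd (conj_eq_one_iff.1 e) ha1'
  · exact Or.inl (hfix g e)
  · refine Or.inr (Or.inl (hfix _ ?_))
    rw [show r⁻¹ * g * a * (r⁻¹ * g)⁻¹ = r⁻¹ * (g * a * g⁻¹) * r by group, e, hb]
    group
  · refine Or.inr (Or.inr (hfix _ ?_))
    rw [show (r * r)⁻¹ * g * a * ((r * r)⁻¹ * g)⁻¹ = (r * r)⁻¹ * (g * a * g⁻¹) * (r * r) by simp [mul_assoc], e, hc, hb]
    simp [mul_assoc]

theorem FusedCore.r_normalizes : r ∈ normalizer (P : Set X) := by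
  have hle : (P : Subgroup X).map (MulAut.conj r).toMonoidHom ≤ (P : Subgroup X) := by
    rintro _ ⟨v, hv, rfl⟩
    exact h.rP v hv
  have := eq_of_le_of_card_ge hle (card_map_of_injective (MulAut.conj r).injective).ge
  show r ∈ normalizer ((P : Subgroup X) : Set X)
  rw [mem_normalizer_iff_map_conj_eq]
  exact this

theorem FusedCore.normalizer_eq :
    normalizer (P : Set X) = zpowers r ⊔ ((P : Subgroup X) ⊔ Y) := by
  refine le_antisymm (fun g hg => ?_) (sup_le (zpowers_le.2 h.r_normalizes) ?_)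
  · have hc := h.norm_cases fun v hv => (mem_normalizer_iff.1 hg v).1 hv
    rcases hc with e | e | e
    · exact mem_sup_right e
    · rw [show g = r * (r⁻¹ * g) by group]
      exact mul_mem (mem_sup_left (mem_zpowers r)) (mem_sup_right e)
    · rw [show g = r * r * ((r * r)⁻¹ * g) by group]
      exact mul_mem (mem_sup_left (mul_mem (mem_zpowers r) (mem_zpowers r))) (mem_sup_right e)
  · refine fun a ha => mem_normalizer_iff.2 fun v => ⟨fun hv => ?_, fun hv => ?_⟩
    · show a * v * a⁻¹ ∈ (P : Subgroup X)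
      rwa [mul_inv_eq_iff_eq_mul.2 (h.sup_cent ha hv).eq]
    · have e : a⁻¹ * (a * v * a⁻¹) * a⁻¹⁻¹ = a * v * a⁻¹ :=
        mul_inv_eq_iff_eq_mul.2 (h.sup_cent (inv_mem ha) hv).eq
      have hv' : a * v * a⁻¹ ∈ (P : Subgroup X) := hv
      rw [← e] at hv'
      rwa [show a⁻¹ * (a * v * a⁻¹) * a⁻¹⁻¹ = v by group] at hv'

theorem FusedCore.card_normalizer : Nat.card ↥(normalizer (P : Set X)) = 12 * Nat.card Y := by
  rw [h.normalizer_eq]
  have hn : zpowers r ≤ normalizer (((P : Subgroup X) ⊔ Y : Subgroup X) : Set X) := by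
    refine zpowers_le.2 ?_
    rw [mem_normalizer_iff_map_conj_eq]
    refine eq_of_le_of_card_ge ?_ (card_map_of_injective (MulAut.conj r).injective).ge
    rintro _ ⟨a, ha, rfl⟩
    haveI : Nontrivial (P : Subgroup X) :=
      Finite.one_lt_card_iff_nontrivial.1 (by rw [h.four.card_four]; norm_num)
    obtain ⟨⟨v, hv⟩, hv1⟩ := exists_ne (1 : (P : Subgroup X))
    have hv1' : v ≠ 1 := fun e => hv1 (Subtype.ext e)
    rw [← h.cen _ (h.rP v hv) (fun e => hv1' (conj_eq_one_iff.1 e))]
    exact mem_centralizer_singleton_iff.2 ((Commute.map (h.sup_cent ha hv) (MulAut.conj r).toMonoidHom)).eq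
  have hmeet : zpowers r ⊓ ((P : Subgroup X) ⊔ Y) = ⊥ := by
    rw [eq_bot_iff]
    rintro x ⟨hx, hxA⟩
    by_contra hne
    have h3 := orderOf_dvd_natCard (zpowers r) hx
    rw [Nat.card_zpowers, h.r3] at h3
    rcases (Nat.dvd_prime Nat.prime_three).1 h3 with e | e
    · exact hne (mem_bot.2 (orderOf_eq_one_iff.1 e))
    · refine h.r_notMem (?_ : r ∈ _)
      have : zpowers x = zpowers r :=
        eq_of_le_of_card_ge (zpowers_le.2 hx) (by rw [Nat.card_zpowers, Nat.card_zpowers, h.r3, e])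
      exact zpowers_le.2 hxA (this ▸ mem_zpowers r)
  have hc := OffenderComp.Aux.card_sup_inf hn
  rw [hmeet, card_bot, mul_one, Nat.card_zpowers, h.r3, h.card_sup] at hc
  rw [hc]; ring

/-- The index of the common centraliser is three or fifteen. -/
theorem FusedCore.index_cases : Nat.card X = 12 * Nat.card Y ∨ Nat.card X = 60 * Nat.card Y := by
  classical
  haveI : Fact (Nat.Prime 2) := ⟨Nat.prime_two⟩
  haveI := h.four
  set A := (P : Subgroup X) ⊔ Y with hA
  have h12 : 12 * Nat.card Y ∣ Nat.card X := h.card_normalizer ▸ card_subgroup_dvd_card _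
  obtain ⟨k, hk⟩ := h12
  have hg₀ : Odd (3 * Nat.card Y * k) := by
    have hP : Nat.card ↥(P : Subgroup X) = 4 := h.four.card_four
    have hnd := P.not_dvd_index
    have hi : (P : Subgroup X).index = 3 * Nat.card Y * k := by
      have := card_mul_index (P : Subgroup X)
      rw [hP, hk] at this
      linarith
    rw [hi] at hnd
    exact Nat.not_even_iff_odd.1 fun he => hnd (even_iff_two_dvd.1 he)
  have hG : Nat.card X = 4 * (3 * Nat.card Y * k) := by rw [hk]; ring
  -- one class of involutions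
  haveI : Nontrivial (P : Subgroup X) :=
    Finite.one_lt_card_iff_nontrivial.1 (by rw [h.four.card_four]; norm_num)
  obtain ⟨⟨t, ht⟩, ht1⟩ := exists_ne (1 : (P : Subgroup X))
  have ht1' : t ≠ 1 := fun e => ht1 (Subtype.ext e)
  have ht2 : orderOf t = 2 := Involutions.KleinSylow.orderOf_mem h.four ht ht1'
  have hrt := h.rP t ht
  have hne : t ≠ r * t * r⁻¹ := fun e => ht1' (h.rfix t ht e.symm)
  have hone : ∀ a b : X, orderOf a = 2 → orderOf b = 2 → IsConj a b := by
    have key : ∀ a : X, orderOf a = 2 → IsConj t a := by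
      intro a ha
      obtain ⟨c, hc⟩ := FpfBlock.Setting.exists_conj_mem (P := P) (g := a) ⟨1, by rw [ha, pow_one]⟩
      refine (Involutions.KleinSylow.isConj_all h.four ht ht1' hrt (by simpa using ht1') hne
        (isConj_iff.2 ⟨r, rfl⟩) hc (fun e => ?_)).trans (isConj_iff.2 ⟨c, rfl⟩ : IsConj a _).symm
      rw [conj_eq_one_iff.1 e, orderOf_one] at ha
      norm_num at ha
    exact fun a b ha hb => (key a ha).symm.trans (key b hb)
  have hnc : ¬ ∃ N : Subgroup X, N.Normal ∧ Nat.card N = 3 * Nat.card Y * k := by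
    rintro ⟨N, hN, hNc⟩
    -- a normal complement meets the four group trivially, so `r` would fix it
    have hdis : N ⊓ (P : Subgroup X) = ⊥ := by
      rw [eq_bot_iff]
      rintro v ⟨hvN, hv⟩
      have h1 : orderOf v ∣ 2 := orderOf_dvd_of_pow_eq_one (by rw [pow_two, h.sq hv])
      have h2 := orderOf_dvd_natCard N hvN
      rw [hNc] at h2
      exact mem_bot.2 (orderOf_eq_one_iff.1 (Nat.eq_one_of_dvd_coprimes (Nat.coprime_two_left.2 hg₀) h1 h2))
    have hrN : r ∈ N := by
      have hq : (QuotientGroup.mk' N) r = 1 := by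
        rw [← orderOf_eq_one_iff]
        refine Nat.eq_one_of_dvd_coprimes (a := 3) (b := 4) (by norm_num) (h.r3 ▸ orderOf_map_dvd _ r) ?_
        have h4 : N.index = 4 := by
          have := card_mul_index N
          rw [hNc, hG, mul_comm 4] at this
          exact Nat.eq_of_mul_eq_mul_left (by
            rcases Nat.eq_zero_or_pos (3 * Nat.card Y * k) with e | e
            · rw [e] at hg₀; simp at hg₀
            · exact e) this
        rw [← h4, index_eq_card]
        exact orderOf_dvd_natCard _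
      exact (QuotientGroup.eq_one_iff r).1 hq
    have hbot : r * t * r⁻¹ * t⁻¹ ∈ N ⊓ (P : Subgroup X) := by
      refine mem_inf.2 ⟨?_, mul_mem hrt (inv_mem ht)⟩
      rw [show r * t * r⁻¹ * t⁻¹ = r * (t * r⁻¹ * t⁻¹) by group]
      exact mul_mem hrN (hN.conj_mem _ (inv_mem hrN) t)
    rw [hdis, mem_bot] at hbot
    exact hne (mul_inv_eq_one.1 hbot).symm
  obtain ⟨M, hM⟩ := Blocks.exists_isPModular 2 Nat.prime_two
  obtain ⟨ζ₂, ζ₃, ζ₄, ε, hε, hn2, hn3, h23, h24, h34, hB, hval, h42, h43, h44, hrel⟩ :=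
    S0948.result M hM P h.four hone
  have hn4 : (ζ₄ : X → ℂ) ≠ fun _ => 1 := fun e => by
    have := (hval t ht2).2.2
    rw [e] at this
    norm_num at this
  have hform := S4479.result M hM _ hg₀ hG hnc P t ht ht2 ζ₂ ζ₃ ζ₄ 1 ε (-1) hB
    ⟨hn2, hn3, hn4, h23, h24, h34⟩ ⟨Or.inl rfl, hε, Or.inr rfl⟩
    ⟨by simpa using (hval t ht2).1, (hval t ht2).2.1, by simpa using (hval t ht2).2.2⟩
  have hct : Nat.card ↥(centralizer ({t} : Set X)) = 4 * Nat.card Y := by rw [h.cen t ht ht1', h.card_sup]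
  have hcP : Nat.card ↥(centralizer ((P : Subgroup X) : Set X)) = 4 * Nat.card Y := by
    rw [← h.card_sup]
    refine congrArg (fun H : Subgroup X => Nat.card H) (le_antisymm ?_ fun a ha =>
      mem_centralizer_iff.2 fun v hv => (h.sup_cent ha hv).eq.symm)
    exact (centralizer_le (Set.singleton_subset_iff.2 ht)).trans (h.cen t ht ht1').le
  rw [hct, hcP, hk] at hform
  have hr1 := hrel 1 (by rw [orderOf_one]; decide)
  simp only [Blocks.char_one_eq_degree] at hr1
  set a := Cfsg.charDegree (ζ₂ : X → ℂ)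
  set b := Cfsg.charDegree (ζ₃ : X → ℂ)
  set c := Cfsg.charDegree (ζ₄ : X → ℂ)
  have hr1' : (1 : ℤ) + a + ε * b - c = 0 := by exact_mod_cast hr1
  have hε2 : (ε : ℚ) * ε = 1 := by rcases hε with rfl | rfl <;> norm_num
  have ha1 : ((a : ℚ) + ((1 : ℤ) : ℚ)) ≠ 0 := by push_cast; positivity
  have hb1 : ((b : ℚ) + (ε : ℚ)) ≠ 0 := by
    intro e
    have e' : (b : ℤ) + ε = 0 := by exact_mod_cast e
    rcases hε with rfl | rfl <;> omega
  have hc1 : ((c : ℚ) + ((-1 : ℤ) : ℚ)) ≠ 0 := by
    intro e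
    have e' : (c : ℤ) + -1 = 0 := by exact_mod_cast e
    omega
  have hY : (Nat.card Y : ℚ) ≠ 0 := Nat.cast_ne_zero.2 Nat.card_pos.ne'
  have key : ((3 * k : ℕ) : ℤ) * (((a : ℤ) + 1) * ((ε * b : ℤ) + 1) * (-(c : ℤ) + 1)) =
      8 * ((a : ℤ) * (ε * b) * (-(c : ℤ))) := by
    have hq : ((3 * k : ℕ) : ℚ) * (((a : ℚ) + 1) * ((ε * b : ℚ) + 1) * (-(c : ℚ) + 1)) =
        8 * ((a : ℚ) * (ε * b) * (-(c : ℚ))) := by
      push_cast at hform ha1 hc1 ⊢
      have hD : ((a : ℚ) + 1) * ((b : ℚ) + ε) * ((c : ℚ) + -1) ≠ 0 := mul_ne_zero (mul_ne_zero ha1 hb1) hc1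
      have h' : ((3 : ℚ) * k) * (((a : ℚ) + 1) * ((b : ℚ) + ε) * ((c : ℚ) + -1)) = 8 * ((a : ℚ) * b * c) := by
        set Dn := ((a : ℚ) + 1) * ((b : ℚ) + ε) * ((c : ℚ) + -1) with hDn
        set N := (a : ℚ) * b * c
        field_simp at hform
        linear_combination hform / 4
      rcases hε with rfl | rfl <;> push_cast at h' ⊢ <;>
        first
          | linear_combination h'
          | linear_combination -h'
    exact_mod_cast hq
  have hk0 : 0 < k := by
    rcases Nat.eq_zero_or_pos k with e | e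
    · rw [e, mul_zero] at hg₀; simp at hg₀
    · exact e
  have hn : ((3 * k : ℕ) : ℤ) % 2 = 1 := by
    have : Odd (3 * k) := Odd.of_dvd_nat hg₀ ⟨Nat.card Y, by ring⟩
    rw [Nat.odd_iff] at this
    omega
  rcases Arith.klein_index hn (by omega) (by omega) (by omega) (by rcases hε with rfl | rfl <;> omega)
    (by omega) (by linarith) key with e | e
  · left; rw [hk, show k = 1 by omega, mul_one]
  · right; rw [hk, show k = 5 by omega]; ring

/-- The five four groups; the centraliser of `Y` covers the quotient. -/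
theorem FusedCore.five (h60 : Nat.card X = 60 * Nat.card Y) :
    ∃ f : X →* alternatingGroup (Fin 5), Function.Surjective f ∧ (∀ g, f g = 1 ↔ g ∈ Y) ∧
      (centralizer (Y : Set X)).map f = ⊤ ∧
      ∀ α : MulAut X, (∀ v ∈ (P : Subgroup X), α v = v) → α r = r → ∀ g, f (α g) = f g := by
  classical
  haveI : Fact (Nat.Prime 2) := ⟨Nat.prime_two⟩
  haveI := h.four
  haveI : Nontrivial (P : Subgroup X) :=
    Finite.one_lt_card_iff_nontrivial.1 (by rw [h.four.card_four]; norm_num)
  obtain ⟨⟨t, ht⟩, ht1⟩ := exists_ne (1 : (P : Subgroup X))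
  have ht1' : t ≠ 1 := fun e => ht1 (Subtype.ext e)
  have h5 : Nat.card (Sylow 2 X) = 5 := by
    rw [Sylow.card_eq_index_normalizer P]
    have := card_mul_index (normalizer (P : Set X))
    rw [h.card_normalizer, h60] at this
    exact Nat.eq_of_mul_eq_mul_left (Nat.mul_pos (by norm_num : 0 < 12) Nat.card_pos) (this.trans (by ring))
  -- an element of the four group fixes only `P`
  have honly : ∀ v ∈ (P : Subgroup X), v ≠ 1 → ∀ Q : Sylow 2 X, v • Q = Q → Q = P := by
    intro v hv hv1 Q hQ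
    have hvn := Sylow.smul_eq_iff_mem_normalizer.1 hQ
    have hzp : IsPGroup 2 (zpowers v) := by
      refine IsPGroup.of_card (n := 1) ?_
      rw [Nat.card_zpowers, Involutions.KleinSylow.orderOf_mem h.four hv hv1, pow_one]
    have hvQ : v ∈ (Q : Subgroup X) := by
      have := hzp.inf_normalizer_sylow Q
      exact (this.le ⟨mem_zpowers v, hvn⟩).2
    have hQ4 : Nat.card ↥(Q : Subgroup X) = 4 := by
      rw [Nat.card_congr (Sylow.equiv Q P).toEquiv, h.four.card_four]
    haveI : IsMulCommutative (Q : Subgroup X) := IsPGroup.isMulCommutative_of_card_eq_prime_sq (p := 2) (by rw [hQ4]; norm_num)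
    have hQA : (Q : Subgroup X) ≤ (P : Subgroup X) ⊔ Y := fun q hq => by
      rw [← h.cen v hv hv1]
      exact mem_centralizer_singleton_iff.2 (setLike_mul_comm hq hvQ)
    have hQP : (Q : Subgroup X) ≤ (P : Subgroup X) := by
      intro q hq
      obtain ⟨a, ha, z, hz, rfl⟩ : ∃ a ∈ (P : Subgroup X), ∃ z ∈ Y, a * z = q := by
        have hh := hQA hq
        rw [← SetLike.mem_coe, coe_mul_of_left_le_normalizer_right] at hh
        · exact Set.mem_mul.1 hh
        · intro a ha
          rw [mem_normalizer_iff]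
          refine fun z => ⟨fun hz => ?_, fun hz => ?_⟩
          · rwa [mul_inv_eq_iff_eq_mul.2 (h.comm a ha z hz).eq]
          · have := h.comm a⁻¹ (inv_mem ha) _ hz
            have e : a⁻¹ * (a * z * a⁻¹) * a⁻¹⁻¹ = a * z * a⁻¹ := mul_inv_eq_iff_eq_mul.2 this.eq
            rw [show a⁻¹ * (a * z * a⁻¹) * a⁻¹⁻¹ = z by group] at e
            rwa [e]
      have hd : orderOf (a * z) ∣ 4 := hQ4 ▸ orderOf_dvd_natCard _ hq
      have hz4 : z ^ 4 = 1 := by
        have := orderOf_dvd_iff_pow_eq_one.1 hd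
        rwa [(h.comm a ha z hz).mul_pow, show a ^ 4 = (a * a) * (a * a) by simp [pow_succ, mul_assoc], h.sq ha, one_mul, one_mul] at this
      have hz1 : z = 1 := orderOf_eq_one_iff.1 (Nat.eq_one_of_dvd_coprimes (a := 4) (b := Nat.card Y)
        ((Nat.Coprime.pow_left 2 (Nat.coprime_two_left.2 h.odd) : (2 ^ 2).Coprime _))
        (orderOf_dvd_of_pow_eq_one hz4) (orderOf_dvd_natCard Y hz))
      rwa [hz1, mul_one]
    exact Sylow.ext (eq_of_le_of_card_ge hQP (by rw [hQ4, h.four.card_four]))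
  -- the action
  let e5 : Sylow 2 X ≃ Fin 5 := Finite.equivFinOfCardEq h5
  let ρ : X →* Equiv.Perm (Fin 5) := e5.permCongrHom.toMonoidHom.comp (MulAction.toPermHom X (Sylow 2 X))
  have hker : ∀ g, ρ g = 1 ↔ ∀ Q : Sylow 2 X, g • Q = Q := by
    intro g
    show e5.permCongrHom (MulAction.toPermHom X (Sylow 2 X) g) = 1 ↔ _
    rw [MulEquiv.map_eq_one_iff]
    exact ⟨fun hg Q => congrArg (fun σ : Equiv.Perm (Sylow 2 X) => σ Q) hg, fun hg => Equiv.ext hg⟩
  -- four points besides `P`, permuted regularly by the four group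
  have hfixP : ∀ a ∈ (P : Subgroup X) ⊔ Y, a • P = P := fun a ha =>
    Sylow.smul_eq_iff_mem_normalizer.2 (h.normalizer_eq ▸ mem_sup_right ha)
  have hreg : ∀ Q Q' : Sylow 2 X, Q ≠ P → Q' ≠ P → ∃ v ∈ (P : Subgroup X), v • Q = Q' := by
    intro Q Q' hQ hQ'
    let orb : ↥(P : Subgroup X) → {R : Sylow 2 X // R ≠ P} := fun v => ⟨(v : X) • Q, fun e => hQ (by
      have h1 : (v : X)⁻¹ • ((v : X) • Q) = P := by
        rw [e]
        exact hfixP _ (mem_sup_left (inv_mem v.2))
      rwa [inv_smul_smul] at h1)⟩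
    have hinj : Function.Injective orb := fun v w hvw => by
      by_contra hne'
      have h1 : ((w : X)⁻¹ * v) • Q = Q := by
        rw [mul_smul, show (v : X) • Q = (w : X) • Q from congrArg Subtype.val hvw, inv_smul_smul]
      exact hQ (honly _ (mul_mem (inv_mem w.2) v.2)
        (fun e => hne' (Subtype.ext (inv_mul_eq_one.1 e).symm)) Q h1)
    have hbij := hinj.bijective_of_nat_card_le (by
      have h4 : Nat.card {R : Sylow 2 X // R ≠ P} = 4 := by
        letI := Fintype.ofFinite (Sylow 2 X)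
        rw [Nat.card_eq_fintype_card, Fintype.card_subtype_compl, Fintype.card_subtype_eq,
          ← Nat.card_eq_fintype_card, h5]
      rw [h4, h.four.card_four])
    obtain ⟨v, hv⟩ := hbij.2 ⟨Q', hQ'⟩
    exact ⟨v, v.2, congrArg Subtype.val hv⟩
  -- the odd part fixes all five
  have hYfix : ∀ z ∈ Y, ∀ Q : Sylow 2 X, z • Q = Q := by
    intro z hz Q
    by_cases hQ : Q = P
    · rw [hQ]; exact hfixP z (mem_sup_right hz)
    have hzQ : z • Q ≠ P := fun e => hQ (by
      have h1 := hfixP z⁻¹ (mem_sup_right (inv_mem hz))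
      rw [← e, inv_smul_smul] at h1
      rw [h1, e])
    obtain ⟨v, hv, e⟩ := hreg Q _ hQ hzQ
    have h2 : (z * z) • Q = Q := by
      rw [mul_smul, ← e, ← mul_smul, (h.comm v hv z hz).symm.eq, mul_smul, ← e, ← mul_smul, h.sq hv, one_smul]
    obtain ⟨m, hm⟩ : Odd (orderOf z) := Odd.of_dvd_nat h.odd (orderOf_dvd_natCard Y hz)
    have hz' : z = (z * z) ^ (m + 1) := by
      rw [← pow_two, ← pow_mul, show 2 * (m + 1) = orderOf z + 1 by omega, pow_succ, pow_orderOf_eq_one, one_mul]
    rw [hz']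
    exact MulAction.mem_stabilizer_iff.1 (pow_mem (MulAction.mem_stabilizer_iff.2 h2) _)
  have hkerY : ∀ g, ρ g = 1 ↔ g ∈ Y := by
    intro g
    rw [hker]
    refine ⟨fun hg => ?_, fun hg Q => hYfix g hg Q⟩
    have hgN : g ∈ normalizer (P : Set X) := Sylow.smul_eq_iff_mem_normalizer.1 (hg P)
    -- commutators with the four group fix everything, hence vanish
    have hgv : ∀ v ∈ (P : Subgroup X), g * v * g⁻¹ = v := by
      intro v hv
      have hw : g * v * g⁻¹ * v⁻¹ ∈ (P : Subgroup X) := mul_mem ((mem_normalizer_iff.1 hgN v).1 hv) (inv_mem hv)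
      by_contra hne'
      have hw1 : g * v * g⁻¹ * v⁻¹ ≠ 1 := fun e => hne' (mul_inv_eq_one.1 e)
      obtain ⟨Q, hQ⟩ : ∃ Q : Sylow 2 X, Q ≠ P := by
        haveI : Nontrivial (Sylow 2 X) := Finite.one_lt_card_iff_nontrivial.1 (by rw [h5]; norm_num)
        exact exists_ne P
      refine hQ (honly _ hw hw1 Q ?_)
      have hg' : ∀ R : Sylow 2 X, g⁻¹ • R = R := fun R => by
        conv_lhs => rw [← hg R]
        rw [inv_smul_smul]
      rw [mul_smul, mul_smul, mul_smul, hg', hg, smul_inv_smul]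
    have hgA : g ∈ (P : Subgroup X) ⊔ Y := by
      rw [← h.cen t ht ht1']
      exact mem_centralizer_singleton_iff.2 (mul_inv_eq_iff_eq_mul.1 (hgv t ht))
    obtain ⟨a, ha, z, hz, rfl⟩ : ∃ a ∈ (P : Subgroup X), ∃ z ∈ Y, a * z = g := by
      rw [← SetLike.mem_coe, coe_mul_of_left_le_normalizer_right] at hgA
      · exact Set.mem_mul.1 hgA
      · intro a ha
        rw [mem_normalizer_iff]
        refine fun z => ⟨fun hz => ?_, fun hz => ?_⟩
        · rwa [mul_inv_eq_iff_eq_mul.2 (h.comm a ha z hz).eq]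
        · have := h.comm a⁻¹ (inv_mem ha) _ hz
          have e : a⁻¹ * (a * z * a⁻¹) * a⁻¹⁻¹ = a * z * a⁻¹ := mul_inv_eq_iff_eq_mul.2 this.eq
          rw [show a⁻¹ * (a * z * a⁻¹) * a⁻¹⁻¹ = z by group] at e
          rwa [e]
    by_contra hne'
    have ha1 : a ≠ 1 := fun e => hne' (by rw [e, one_mul]; exact hz)
    obtain ⟨Q, hQ⟩ : ∃ Q : Sylow 2 X, Q ≠ P := by
      haveI : Nontrivial (Sylow 2 X) := Finite.one_lt_card_iff_nontrivial.1 (by rw [h5]; norm_num)
      exact exists_ne P
    refine hQ (honly a ha ha1 Q ?_)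
    have := hg Q
    rwa [mul_smul, hYfix z hz] at this
  have hrange : ρ.range = alternatingGroup (Fin 5) := by
    refine Equiv.Perm.eq_alternatingGroup_of_index_eq_two ?_
    have h1 : Nat.card ρ.range = 60 := by
      have hk : ρ.ker = Y := by ext g; exact hkerY g
      have := card_eq_card_quotient_mul_card_subgroup ρ.ker
      rw [Nat.card_congr (QuotientGroup.quotientKerEquivRange ρ).toEquiv, hk, h60] at this
      exact (Nat.eq_of_mul_eq_mul_right Nat.card_pos this).symm
    have h2 := card_mul_index ρ.range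
    rw [h1, Nat.card_eq_fintype_card, Fintype.card_perm, Fintype.card_fin] at h2
    norm_num [Nat.factorial] at h2
    omega
  let f : X →* alternatingGroup (Fin 5) := ρ.codRestrict _ fun g => hrange ▸ ⟨g, rfl⟩
  have hfs : Function.Surjective f := fun y => by
    obtain ⟨g, hg⟩ := (hrange.symm ▸ y.2 : (y : Equiv.Perm (Fin 5)) ∈ ρ.range)
    exact ⟨g, Subtype.ext hg⟩
  have hfY : ∀ g, f g = 1 ↔ g ∈ Y := fun g => by
    rw [← hkerY, Subtype.ext_iff]
    rfl
  refine ⟨f, hfs, hfY, ?_, fun α hαP hαr g => ?_⟩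
  · -- the centraliser of the odd part is normal and covers the quotient
    haveI hYn : Y.Normal := by
      have : f.ker = Y := by ext g; exact hfY g
      rw [← this]; infer_instance
    have hn : (centralizer (Y : Set X)).Normal := inferInstance
    have hmap : (centralizer (Y : Set X)).map f = ⊤ := by
      refine (Normal.eq_bot_or_eq_top (hn.map f hfs)).resolve_left fun hb => ?_
      have htY : t ∈ Y := by
        rw [← hfY, ← mem_bot, ← hb]
        exact mem_map_of_mem f (mem_centralizer_iff.2 fun z hz => (h.comm t ht z hz).eq.symm)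
      exact ht1' (mem_bot.1 (h.meet ▸ mem_inf.2 ⟨ht, htY⟩))
    exact hmap
  · -- the automorphism fixes all five
    have hαg : ∀ (x : X) (Q : Sylow 2 X), α • (x • Q) = α x • (α • Q) := fun x Q => by
      rw [Sylow.smul_def, Sylow.smul_def, ← mul_smul, ← mul_smul]
      congr 1
      ext y
      simp [MulAut.mul_apply]
    have hαPP : α • P = P := by
      refine Sylow.ext ?_
      show α • (P : Subgroup X) = P
      refine eq_of_le_of_card_ge ?_ (Nat.card_congr (equivSMul α (P : Subgroup X)).toEquiv).le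
      rintro _ ⟨v, hv, rfl⟩
      show α v ∈ (P : Subgroup X)
      rwa [hαP v hv]
    obtain ⟨Q₀, hQ₀⟩ : ∃ Q₀ : Sylow 2 X, Q₀ ≠ P ∧ r • Q₀ = Q₀ := by
      haveI : Fact (Nat.Prime 3) := ⟨Nat.prime_three⟩
      have hrP : r • P = P := Sylow.smul_eq_iff_mem_normalizer.2 h.r_normalizes
      have hp : IsPGroup 3 (zpowers r) := IsPGroup.of_card (n := 1) (by rw [Nat.card_zpowers, h.r3, pow_one])
      have hcong := hp.card_modEq_card_fixedPoints (Sylow 2 X)
      rw [h5] at hcong
      by_contra hne'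
      push Not at hne'
      have hsub : MulAction.fixedPoints (zpowers r) (Sylow 2 X) = {P} := by
        ext R
        refine ⟨fun hR => ?_, fun hR => ?_⟩
        · by_contra hR'
          exact hne' R hR' (hR ⟨r, mem_zpowers r⟩)
        · rw [Set.mem_singleton_iff] at hR
          subst hR
          rintro ⟨x, hx⟩
          obtain ⟨i, rfl⟩ := mem_zpowers_iff.1 hx
          exact MulAction.mem_stabilizer_iff.1 (zpow_mem (MulAction.mem_stabilizer_iff.2 hrP) i)
      rw [hsub, Nat.card_coe_set_eq, Set.ncard_singleton] at hcong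
      exact absurd hcong (by decide)
    have hQ₁ : α • Q₀ ≠ P := fun e => hQ₀.1 (by
      rw [← inv_smul_smul α Q₀, e]
      conv_lhs => rw [← hαPP, inv_smul_smul])
    obtain ⟨v, hv, hve⟩ := hreg Q₀ _ hQ₀.1 hQ₁
    have hv1 : v = 1 := by
      refine h.rfix v hv ?_
      by_contra hne'
      have hw : v⁻¹ * (r * v * r⁻¹) ∈ (P : Subgroup X) := mul_mem (inv_mem hv) (h.rP v hv)
      refine hQ₀.1 (honly _ hw (fun e => hne' (inv_mul_eq_one.1 e).symm) Q₀ ?_)
      have hr' : r⁻¹ • Q₀ = Q₀ := by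
        conv_lhs => rw [← hQ₀.2]
        rw [inv_smul_smul]
      have h1 : r • (α • Q₀) = α • Q₀ := by
        conv_rhs => rw [← hQ₀.2]
        rw [hαg, hαr]
      rw [mul_smul, mul_smul, mul_smul, hr', hve, h1, ← hve, inv_smul_smul]
    rw [hv1, one_smul] at hve
    have hall : ∀ Q : Sylow 2 X, α • Q = Q := fun Q => by
      by_cases hQ : Q = P
      · rw [hQ, hαPP]
      obtain ⟨w, hw, rfl⟩ := hreg Q₀ Q hQ₀.1 hQ
      rw [hαg, hαP w hw, ← hve]
    have hfix : ∀ Q : Sylow 2 X, α g • Q = g • Q := fun Q => by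
      have := hαg g Q
      rw [hall Q, hall] at this
      exact this.symm
    refine Subtype.ext ?_
    show ρ (α g) = ρ g
    show e5.permCongrHom _ = e5.permCongrHom _
    congr 1
    exact Equiv.ext hfix

omit h in
/-- The five four groups, `Y` commutative: it is central. -/
theorem Fused.five (h : Fused P Y r) (h60 : Nat.card X = 60 * Nat.card Y) :
    (∀ g : X, ∀ z ∈ Y, Commute g z) ∧
    ∃ f : X →* alternatingGroup (Fin 5), Function.Surjective f ∧ (∀ g, f g = 1 ↔ g ∈ Y) ∧
      ∀ α : MulAut X, (∀ v ∈ (P : Subgroup X), α v = v) → α r = r → ∀ g, f (α g) = f g := by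
  obtain ⟨f, hfs, hfY, hmap, hα⟩ := h.toFusedCore.five h60
  refine ⟨fun g z hz => ?_, f, hfs, hfY, hα⟩
  obtain ⟨c, hc, hcg⟩ := (hmap ▸ mem_top (f g) : f g ∈ (centralizer (Y : Set X)).map f)
  have hy : c⁻¹ * g ∈ Y := by rw [← hfY, map_mul, map_inv, hcg, inv_mul_cancel]
  rw [show g = c * (c⁻¹ * g) by group]
  have hcz : Commute c z := (mem_centralizer_iff.1 hc z hz).symm
  exact hcz.mul_left (h.ab _ hy z hz)

end Cfsg.Agent.Lib.JankoThompson.Centralizer
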