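import Cfsg.Agent.Lib.JankoThompson.Setup
import Cfsg.Agent.Lib.JankoThompson.CentralizerFive

/-!
The centraliser of a non-trivial element of the torus: it normalises the four group, or its quotient by the
torus is alternating of degree five.
-/

set_option autoImplicit false
set_option linter.unusedSectionVars false
set_option linter.style.haveILetI false

universe u v

namespace Cfsg.Agent.Lib.JankoThompson

open Subgroup

variable {G : Type u} [Group G] [Finite G] {F : Type v} [Field F] [Fintype F] {t : G} {c : Cfg G F t}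
  (d : Torus c)

theorem Torus.s_sq : d.s * d.s = 1 := by rw [← pow_two, ← d.s_ord, pow_orderOf_eq_one]

theorem Torus.ts_comm : Commute t d.s := c.comm d.s_mem

theorem Torus.t_notMem : t ∉ c.K := fun h =>
  c.ne_one (mem_bot.1 (c.prod.2.2.2.1 ▸ mem_inf.2 ⟨mem_zpowers t, h⟩))

theorem Torus.s_ne : d.s ≠ 1 := fun e => by
  have := d.s_ord; rw [e, orderOf_one] at this; norm_num at this

theorem Torus.t_ne_s : t ≠ d.s := fun e => by
  have h := d.s_mem
  rw [← e] at h
  exact Torus.t_notMem (c := c) h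

theorem Torus.ts_ne : t * d.s ≠ 1 := fun e => d.t_ne_s (calc
  t = t * d.s * d.s := by rw [mul_assoc, d.s_sq, mul_one]
  _ = d.s := by rw [e, one_mul])

theorem Torus.mem_V {x : G} : x ∈ d.V ↔ x = 1 ∨ x = t ∨ x = d.s ∨ x = t * d.s := by
  have htt := c.sq
  have hss := d.s_sq
  have hc := d.ts_comm
  have l1 : ∀ y : G, d.s * (t * y) = t * (d.s * y) := fun y => by rw [← mul_assoc, ← hc.eq, mul_assoc]
  have l2 : ∀ y : G, t * (t * y) = y := fun y => by rw [← mul_assoc, htt, one_mul]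
  have l3 : ∀ y : G, d.s * (d.s * y) = y := fun y => by rw [← mul_assoc, hss, one_mul]
  refine ⟨fun hx => ?_, ?_⟩
  · let W : Subgroup G :=
      { carrier := {x | x = 1 ∨ x = t ∨ x = d.s ∨ x = t * d.s}
        one_mem' := Or.inl rfl
        mul_mem' := by
          intro p q hp hq
          rcases hp with h | h | h | h <;> rcases hq with h' | h' | h' | h' <;>
            simp [h, h', htt, hss, hc.eq.symm, mul_assoc, l1, l2, l3]
        inv_mem' := by
          intro p hp
          rcases hp with h | h | h | h <;>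
            simp [h, inv_eq_of_mul_eq_one_right htt, inv_eq_of_mul_eq_one_right hss, hc.eq.symm] }
    exact (closure_le W).2 (by
      rintro p (rfl | rfl)
      exacts [Or.inr (Or.inl rfl), Or.inr (Or.inr (Or.inl rfl))]) hx
  · rintro (rfl | rfl | rfl | rfl)
    exacts [one_mem _, subset_closure (Or.inl rfl), subset_closure (Or.inr rfl),
      mul_mem (subset_closure (Or.inl rfl)) (subset_closure (Or.inr rfl))]

theorem Torus.Y_comm {a b : G} (ha : a ∈ d.Y) (hb : b ∈ d.Y) : Commute a b := by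
  haveI := d.Y_cyc
  letI : CommGroup d.Y := IsCyclic.commGroup
  exact congrArg Subtype.val (mul_comm (⟨a, ha⟩ : d.Y) ⟨b, hb⟩)

theorem Torus.V_comm_Y {a z : G} (ha : a ∈ d.V) (hz : z ∈ d.Y) : Commute a z := by
  have h1 := c.comm (d.Y_le hz)
  have h2 := d.Y_s z hz
  rcases d.mem_V.1 ha with rfl | rfl | rfl | rfl
  exacts [Commute.one_left z, h1, h2, h1.mul_left h2]

theorem Torus.V_sq {a : G} (ha : a ∈ d.V) : a * a = 1 := by
  rcases d.mem_V.1 ha with rfl | rfl | rfl | rfl
  exacts [one_mul 1, c.sq, d.s_sq, by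
    rw [← pow_two, d.ts_comm.mul_pow, pow_two, pow_two, c.sq, d.s_sq, one_mul]]

theorem Torus.r_V {a : G} (ha : a ∈ d.V) :
    (d.r * a * d.r⁻¹ ∈ d.V) ∧ (d.r * a * d.r⁻¹ = a → a = 1) := by
  have hts := d.ts_ne
  have hne : d.s ≠ t := d.t_ne_s.symm
  have e3 : d.r * (t * d.s) * d.r⁻¹ = t := by
    rw [show d.r * (t * d.s) * d.r⁻¹ = d.r * t * d.r⁻¹ * (d.r * d.s * d.r⁻¹) by group, d.r_t, d.r_s,
      ← mul_assoc, ← d.ts_comm.eq, mul_assoc, d.s_sq, mul_one]
  rcases d.mem_V.1 ha with rfl | rfl | rfl | rfl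
  · exact ⟨by simpa using one_mem _, fun _ => rfl⟩
  · rw [d.r_t]; exact ⟨d.mem_V.2 (Or.inr (Or.inr (Or.inl rfl))), fun e => absurd e hne⟩
  · rw [d.r_s]
    exact ⟨d.mem_V.2 (Or.inr (Or.inr (Or.inr rfl))), fun e => absurd (mul_eq_right.1 e) c.ne_one⟩
  · rw [e3]
    exact ⟨d.mem_V.2 (Or.inr (Or.inl rfl)), fun e => absurd (left_eq_mul.1 e) (fun h => by
      have := d.s_ord; rw [h, orderOf_one] at this; norm_num at this)⟩

theorem Torus.card_V : Nat.card d.V = 4 := by
  have hs1 := d.s_ne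
  have hts := d.t_ne_s
  have he : (d.V : Set G) = {1, t, d.s, t * d.s} := by
    ext a
    rw [SetLike.mem_coe, d.mem_V]
    simp
  show Nat.card (d.V : Set G) = 4
  rw [Nat.card_coe_set_eq, he, Set.ncard_insert_of_notMem (by
      simp only [Set.mem_insert_iff, Set.mem_singleton_iff, not_or]
      exact ⟨c.ne_one.symm, hs1.symm, d.ts_ne.symm⟩) (Set.toFinite _),
    Set.ncard_insert_of_notMem (by
      simp only [Set.mem_insert_iff, Set.mem_singleton_iff, not_or]
      exact ⟨hts, fun e => hs1 (left_eq_mul.1 e)⟩) (Set.toFinite _),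
    Set.ncard_pair (fun e => c.ne_one (right_eq_mul.1 e))]

theorem Torus.K_conj {k a : G} (hk : Commute k t) (ha : a ∈ c.K) : k * a * k⁻¹ ∈ c.K := by
  have hkC : k ∈ zpowers t ⊔ c.K := by
    rw [c.prod.2.2.2.2]; exact c.mem_cent.1 hk
  have hle : zpowers t ⊔ c.K ≤ normalizer (c.K : Set G) :=
    sup_le (zpowers_le.2 (mem_normalizer_iff.2 fun x => by
      refine ⟨fun hx => ?_, fun hx => ?_⟩
      · rwa [mul_inv_eq_iff_eq_mul.2 (c.comm hx).eq]
      · have e : t⁻¹ * (t * x * t⁻¹) * t⁻¹⁻¹ = t * x * t⁻¹ :=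
          mul_inv_eq_iff_eq_mul.2 ((c.comm hx).inv_left).eq
        rw [show t⁻¹ * (t * x * t⁻¹) * t⁻¹⁻¹ = x by group] at e
        rwa [e])) le_normalizer
  exact (mem_normalizer_iff.1 (hle hkC) a).1 ha

/-- An element of the centraliser of `y` agreeing with `x` on `t` makes `x` commute with `y`. -/
theorem Torus.commute_of_norm {y g x : G} (hy : y ∈ d.Y) (hy1 : y ≠ 1) (hgy : Commute g y)
    (hg : ∀ v ∈ d.V, g * v * g⁻¹ ∈ d.V) (hx3 : x * x * x = 1) (hxV : ∀ v ∈ d.V, x * v * x⁻¹ ∈ d.V)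
    (hx : Commute x y → Commute d.r y) {w : G} (hxt : x * t * x⁻¹ = w) (hgt : g * t * g⁻¹ = w) :
    Commute d.r y := by
  refine hx ?_
  set k := x⁻¹ * g with hk
  have hkt : Commute k t := mul_inv_eq_iff_eq_mul.1 (by
    rw [hk, show x⁻¹ * g * t * (x⁻¹ * g)⁻¹ = x⁻¹ * (g * t * g⁻¹) * x by group, hgt, ← hxt]; group)
  have hks : Commute k d.s := by
    have hsV : d.s ∈ d.V := d.mem_V.2 (Or.inr (Or.inr (Or.inl rfl)))
    have hxi : x⁻¹ = x * x := by rw [inv_eq_iff_mul_eq_one, ← mul_assoc, hx3]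
    have hmem : k * d.s * k⁻¹ ∈ d.V := by
      rw [hk, show x⁻¹ * g * d.s * (x⁻¹ * g)⁻¹ = x⁻¹ * (g * d.s * g⁻¹) * x⁻¹⁻¹ by group, hxi,
        show x * x * (g * d.s * g⁻¹) * (x * x)⁻¹ = x * (x * (g * d.s * g⁻¹) * x⁻¹) * x⁻¹ by group]
      exact hxV _ (hxV _ (hg _ hsV))
    have hK := Torus.K_conj (c := c) hkt d.s_mem
    refine mul_inv_eq_iff_eq_mul.1 ?_
    rcases d.mem_V.1 hmem with e | e | e | e
    · exact absurd (conj_eq_one_iff.1 e) (fun h => by
        have := d.s_ord; rw [h, orderOf_one] at this; norm_num at this)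
    · rw [e] at hK; exact absurd hK (Torus.t_notMem (c := c))
    · exact e
    · exfalso
      rw [e] at hK
      have ht : t ∈ c.K := by simpa using mul_mem hK (inv_mem d.s_mem)
      exact Torus.t_notMem (c := c) ht
  obtain ⟨a, ha, hka⟩ := d.cent_ts k hkt hks
  have hay : Commute a y := by
    have hle : closure ({t, d.s} : Set G) ⊔ d.Y ≤ centralizer ({y} : Set G) := sup_le
      (fun b hb => mem_centralizer_singleton_iff.2 (d.V_comm_Y hb hy).eq)
      fun b hb => mem_centralizer_singleton_iff.2 (d.Y_comm hb hy).eq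
    exact mem_centralizer_singleton_iff.1 (hle ha)
  have hky : k * y * k⁻¹ = x⁻¹ * y * x := by
    rw [hk, show x⁻¹ * g * y * (x⁻¹ * g)⁻¹ = x⁻¹ * (g * y * g⁻¹) * x by group,
      mul_inv_eq_iff_eq_mul.2 hgy.eq]
  rcases hka with e | e
  · have h1 : x⁻¹ * y * x⁻¹⁻¹ = y := by
      rw [inv_inv, ← hky, e]; exact mul_inv_eq_iff_eq_mul.2 hay.eq
    simpa using (Commute.inv_left (mul_inv_eq_iff_eq_mul.1 h1 : Commute x⁻¹ y))
  · exfalso
    have h1 : x⁻¹ * y * x = y⁻¹ := by
      rw [← hky, e, show a * d.w * y * (a * d.w)⁻¹ = a * (d.w * y * d.w⁻¹) * a⁻¹ by group, d.w_inv y hy]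
      exact mul_inv_eq_iff_eq_mul.2 hay.inv_right.eq
    have h2 : x⁻¹ * y⁻¹ * x = y := by
      rw [show x⁻¹ * y⁻¹ * x = (x⁻¹ * y * x)⁻¹ by group, h1, inv_inv]
    have h3 : y = y⁻¹ := by
      calc y = (x * x * x)⁻¹ * y * (x * x * x) := by rw [hx3]; group
        _ = x⁻¹ * (x⁻¹ * (x⁻¹ * y * x) * x) * x := by group
        _ = y⁻¹ := by rw [h1, h2, h1]
    have h4 : y * y = 1 := by
      conv_lhs => arg 2; rw [h3]
      exact mul_inv_cancel y
    refine hy1 (orderOf_eq_one_iff.1 (Nat.eq_one_of_dvd_coprimes (Nat.coprime_two_left.2 d.Y_odd)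
      (orderOf_dvd_of_pow_eq_one (by rw [pow_two, h4])) (orderOf_dvd_natCard _ hy)))

theorem Torus.r_cube : d.r * d.r * d.r = 1 := by
  rw [show d.r * d.r * d.r = d.r ^ 3 by simp [pow_succ], ← d.r_ord, pow_orderOf_eq_one]

/-- The common centraliser in the centraliser of `y` of the involutions of `V`. -/
theorem Torus.cent_v {y : G} (hy : y ∈ d.Y) (hy1 : y ≠ 1) {a g : G} (ha : a ∈ d.V) (ha1 : a ≠ 1)
    (hga : Commute g a) (hgy : Commute g y) : g ∈ d.V ⊔ d.Y := by
  have hr : ∀ k : ℕ, ∀ b ∈ d.V ⊔ d.Y, d.r ^ k * b * (d.r ^ k)⁻¹ ∈ d.V ⊔ d.Y := by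
    intro k
    induction k with
    | zero => intro b hb; simpa using hb
    | succ k ih =>
      intro b hb
      rw [show d.r ^ (k + 1) * b * (d.r ^ (k + 1))⁻¹ = d.r * (d.r ^ k * b * (d.r ^ k)⁻¹) * d.r⁻¹ by
        rw [pow_succ']; group]
      have hle : d.V ⊔ d.Y ≤ (d.V ⊔ d.Y).comap (MulAut.conj d.r).toMonoidHom :=
        sup_le (fun b hb => mem_sup_left (d.r_V hb).1) fun b hb => mem_sup_right (d.r_Y b hb)
      exact hle (ih b hb)
  have hrY : ∀ k : ℕ, ∀ b ∈ d.Y, d.r ^ k * b * (d.r ^ k)⁻¹ ∈ d.Y := by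
    intro k
    induction k with
    | zero => intro b hb; simpa using hb
    | succ k ih =>
      intro b hb
      rw [show d.r ^ (k + 1) * b * (d.r ^ (k + 1))⁻¹ = d.r * (d.r ^ k * b * (d.r ^ k)⁻¹) * d.r⁻¹ by
        rw [pow_succ']; group]
      exact d.r_Y _ (ih b hb)
  obtain ⟨k, hk⟩ : ∃ k : ℕ, d.r ^ k * a * (d.r ^ k)⁻¹ = t := by
    have e3 : d.r * (t * d.s) * d.r⁻¹ = t := by
      rw [show d.r * (t * d.s) * d.r⁻¹ = d.r * t * d.r⁻¹ * (d.r * d.s * d.r⁻¹) by group, d.r_t, d.r_s,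
        ← mul_assoc, ← d.ts_comm.eq, mul_assoc, d.s_sq, mul_one]
    rcases d.mem_V.1 ha with rfl | rfl | rfl | rfl
    · exact absurd rfl ha1
    · exact ⟨0, by simp⟩
    · exact ⟨2, by
        rw [pow_two, show d.r * d.r * d.s * (d.r * d.r)⁻¹ = d.r * (d.r * d.s * d.r⁻¹) * d.r⁻¹ by group, d.r_s, e3]⟩
    · exact ⟨1, by rw [pow_one, e3]⟩
  set m := d.r ^ k
  have h1 : Commute (m * g * m⁻¹) t := hk ▸ (Commute.map hga (MulAut.conj m).toMonoidHom)
  have h2 : Commute (m * g * m⁻¹) (m * y * m⁻¹) := Commute.map hgy (MulAut.conj m).toMonoidHom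
  have h3 : m * g * m⁻¹ ∈ d.V ⊔ d.Y :=
    d.cent_ty _ (hrY k y hy) (fun e => hy1 (conj_eq_one_iff.1 e)) _ h1 h2
  have h4 := hr (2 * k) _ h3
  have e : d.r ^ (2 * k) * (m * g * m⁻¹) * (d.r ^ (2 * k))⁻¹ = g := by
    have h1k : d.r ^ (2 * k) * m = 1 := by
      rw [show m = d.r ^ k from rfl, ← pow_add, show 2 * k + k = 3 * k by ring, pow_mul,
        show d.r ^ 3 = 1 by rw [← d.r_ord, pow_orderOf_eq_one], one_pow]
    rw [show d.r ^ (2 * k) * (m * g * m⁻¹) * (d.r ^ (2 * k))⁻¹ =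
      (d.r ^ (2 * k) * m) * g * (d.r ^ (2 * k) * m)⁻¹ by group, h1k]
    group
  rwa [e] at h4

set_option maxHeartbeats 800000 in
/-- The centraliser of a non-trivial element of the torus. -/
theorem cent_cases (y : G) (hy : y ∈ d.Y) (hy1 : y ≠ 1) :
    (∀ g, Commute g y → ∀ v ∈ d.V, g * v * g⁻¹ ∈ d.V) ∨
      ((∀ z ∈ d.Y, Commute d.r z) ∧ (∀ g, Commute g y → ∀ z ∈ d.Y, Commute g z) ∧
        ∃ f : (centralizer ({y} : Set G)) →* alternatingGroup (Fin 5), Function.Surjective f ∧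
          (∀ g, f g = 1 ↔ (g : G) ∈ d.Y) ∧
          ∀ g : centralizer ({y} : Set G), t * d.w * (g : G) * (t * d.w)⁻¹ * (g : G)⁻¹ ∈ d.Y) := by
  classical
  haveI : Fact (Nat.Prime 2) := ⟨Nat.prime_two⟩
  set H := centralizer ({y} : Set G) with hH
  have memH : ∀ {g}, g ∈ H ↔ Commute g y := fun {g} => mem_centralizer_singleton_iff
  set A := d.V ⊔ d.Y with hA
  have hAV : ∀ {a}, a ∈ A → ∀ v ∈ d.V, Commute a v := by
    intro a ha v hv
    have hle : A ≤ centralizer ({v} : Set G) := sup_le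
      (fun b hb => mem_centralizer_singleton_iff.2 (by
        rcases d.mem_V.1 hb with rfl | rfl | rfl | rfl <;> rcases d.mem_V.1 hv with rfl | rfl | rfl | rfl <;>
          first
            | exact (Commute.refl _).eq
            | exact (Commute.one_left _).eq
            | exact (Commute.one_right _).eq
            | exact d.ts_comm.eq
            | exact d.ts_comm.symm.eq
            | exact ((Commute.refl _).mul_left d.ts_comm.symm).eq
            | exact ((Commute.refl _).mul_right d.ts_comm).eq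
            | exact (d.ts_comm.mul_left (Commute.refl _)).eq
            | exact (d.ts_comm.symm.mul_right (Commute.refl _)).eq))
      fun b hb => mem_centralizer_singleton_iff.2 (d.V_comm_Y hv hb).symm.eq
    exact mem_centralizer_singleton_iff.1 (hle ha)
  have hVH : d.V ≤ H := fun a ha => memH.2 (d.V_comm_Y ha hy)
  have hYH : d.Y ≤ H := fun a ha => memH.2 (d.Y_comm ha hy)
  have htV : t ∈ d.V := d.mem_V.2 (Or.inr (Or.inl rfl))
  have hV2 : IsPGroup 2 d.V := fun a => ⟨1, Subtype.ext (by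
    show (a : G) ^ (2 ^ 1) = 1
    rw [pow_one, pow_two, d.V_sq a.2])⟩
  -- the part of `A` of two-power order is `V`
  have hA2 : ∀ g ∈ A, (∃ j, g ^ 2 ^ j = 1) → g ∈ d.V := by
    intro g hg ⟨j, hj⟩
    rw [hA, ← SetLike.mem_coe, coe_mul_of_left_le_normalizer_right] at hg
    swap
    · intro a ha
      rw [mem_normalizer_iff]
      refine fun z => ⟨fun hz => ?_, fun hz => ?_⟩
      · rwa [mul_inv_eq_iff_eq_mul.2 (d.V_comm_Y ha hz).eq]
      · have e : a⁻¹ * (a * z * a⁻¹) * a⁻¹⁻¹ = a * z * a⁻¹ :=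
          mul_inv_eq_iff_eq_mul.2 (d.V_comm_Y (inv_mem ha) hz).eq
        rw [show a⁻¹ * (a * z * a⁻¹) * a⁻¹⁻¹ = z by group] at e
        rwa [e]
    obtain ⟨a, ha, z, hz, rfl⟩ := Set.mem_mul.1 hg
    have hz2 : z ^ 2 ^ (j + 1) = 1 := by
      have ha2 : a ^ 2 ^ (j + 1) = 1 := by rw [pow_succ', pow_mul, pow_two, d.V_sq ha, one_pow]
      have h0 : (a * z) ^ 2 ^ (j + 1) = 1 := by rw [pow_succ, pow_mul, hj, one_pow]
      rwa [(d.V_comm_Y ha hz).mul_pow, ha2, one_mul] at h0
    have hz1 : z = 1 := orderOf_eq_one_iff.1 (Nat.eq_one_of_dvd_coprimes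
      (Nat.Coprime.pow_left (j + 1) (Nat.coprime_two_left.2 d.Y_odd))
      (orderOf_dvd_of_pow_eq_one hz2) (orderOf_dvd_natCard _ hz))
    rwa [hz1, mul_one]
  -- it is a Sylow subgroup of the centraliser
  set V' := d.V.subgroupOf H
  have hV' : IsPGroup 2 V' := hV2.of_equiv (subgroupOfEquivOfLe hVH).symm
  let P : Sylow 2 H :=
    ⟨V', hV', fun {Q} hQ hle => by
      by_contra hne
      have hlt : V' < Q := lt_of_le_of_ne hle fun e => hne e.symm
      haveI : Group.IsNilpotent Q := hQ.isNilpotent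
      have hnc := Group.normalizerCondition_of_isNilpotent (V'.subgroupOf Q) (by
        rw [lt_top_iff_ne_top]
        exact fun e => hne (le_antisymm (subgroupOf_eq_top.1 e) hle))
      obtain ⟨⟨g, hgQ⟩, hg, hgn⟩ := SetLike.exists_of_lt hnc
      refine hgn (mem_subgroupOf.2 ?_)
      have hconj : ∀ a ∈ d.V, (g : G) * a * (g : G)⁻¹ ∈ d.V := fun a ha => by
        have h1 := (mem_normalizer_iff.1 hg (⟨⟨a, hVH ha⟩, hle (mem_subgroupOf.2 ha)⟩ : Q)).1 (by
          exact mem_subgroupOf.2 (mem_subgroupOf.2 ha))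
        exact mem_subgroupOf.1 (mem_subgroupOf.1 h1)
      obtain ⟨j, hj⟩ := hQ ⟨g, hgQ⟩
      have hj' : (g : G) ^ 2 ^ j = 1 := by
        have := congrArg (fun z : Q => ((z : H) : G)) hj
        simpa using this
      -- it fixes one of the three involutions
      obtain ⟨a, ha, ha1, hga⟩ : ∃ a ∈ d.V, a ≠ 1 ∧ (g : G) * a * (g : G)⁻¹ = a := by
        by_contra hcon
        push Not at hcon
        let U : Set G := {a | a ∈ d.V ∧ a ≠ 1}
        letI act : MulAction (zpowers (g : G)) U :=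
          { smul := fun x a => ⟨(x : G) * a.1 * (x : G)⁻¹, by
              have hN : (g : G) ∈ normalizer (d.V : Set G) := by
                rw [mem_normalizer_iff_map_conj_eq]
                refine eq_of_le_of_card_ge ?_ (card_map_of_injective (MulAut.conj (g : G)).injective).ge
                rintro _ ⟨b, hb, rfl⟩
                exact hconj b hb
              exact ⟨(mem_normalizer_iff.1 (zpowers_le.2 hN x.2) a.1).1 a.2.1,
                fun e => a.2.2 (conj_eq_one_iff.1 e)⟩⟩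
            one_smul := fun a => Subtype.ext (show (1 : G) * a.1 * (1 : G)⁻¹ = a.1 by group)
            mul_smul := fun p q a => Subtype.ext (show ((p : G) * q) * a.1 * ((p : G) * q)⁻¹ =
              p * ((q : G) * a.1 * (q : G)⁻¹) * (p : G)⁻¹ by group) }
        have hp : IsPGroup 2 (zpowers (g : G)) := by
          obtain ⟨i, -, hi⟩ := (Nat.dvd_prime_pow Nat.prime_two).1 (orderOf_dvd_of_pow_eq_one hj')
          exact IsPGroup.of_card (n := i) (by rw [Nat.card_zpowers, hi])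
        have hU : Nat.card U = 3 := by
          have hts := d.t_ne_s
          have hs1 := d.s_ne
          have he : U = {t, d.s, t * d.s} := by
            ext a
            refine ⟨fun ha => ?_, fun ha => ?_⟩
            · rcases d.mem_V.1 ha.1 with h | h | h | h
              · exact absurd h ha.2
              all_goals simp [h]
            · rcases ha with rfl | rfl | rfl
              · exact ⟨htV, c.ne_one⟩
              · exact ⟨d.mem_V.2 (Or.inr (Or.inr (Or.inl rfl))), hs1⟩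
              · exact ⟨d.mem_V.2 (Or.inr (Or.inr (Or.inr rfl))), d.ts_ne⟩
          rw [Nat.card_coe_set_eq, he, Set.ncard_insert_of_notMem (by
            simp only [Set.mem_insert_iff, Set.mem_singleton_iff]
            exact not_or.2 ⟨hts, fun e => hs1 (left_eq_mul.1 e)⟩) (Set.toFinite _),
            Set.ncard_pair (fun e => c.ne_one (right_eq_mul.1 e))]
        obtain ⟨⟨a, ha⟩, hfix⟩ := hp.nonempty_fixed_point_of_prime_not_dvd_card U (by rw [hU]; norm_num)
        exact hcon a ha.1 ha.2 (congrArg Subtype.val (hfix ⟨(g : G), mem_zpowers _⟩))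
      exact mem_subgroupOf.2 (hA2 _ (d.cent_v hy hy1 ha ha1 (mul_inv_eq_iff_eq_mul.1 hga) (memH.1 g.2)) ⟨j, hj'⟩)⟩
  have hPcoe : (P : Subgroup H) = V' := rfl
  have hPmem : ∀ {a : H}, a ∈ (P : Subgroup H) ↔ (a : G) ∈ d.V := fun {a} => by rw [hPcoe]; exact mem_subgroupOf
  set Y' := d.Y.subgroupOf H
  have hsup : (P : Subgroup H) ⊔ Y' = A.subgroupOf H := by rw [hPcoe, hA, ← subgroupOf_sup hVH hYH]
  have hcen : ∀ v ∈ (P : Subgroup H), v ≠ 1 → centralizer ({v} : Set H) = (P : Subgroup H) ⊔ Y' := by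
    intro v hv hv1
    rw [hsup]
    ext g
    rw [mem_centralizer_singleton_iff, mem_subgroupOf]
    refine ⟨fun hg => d.cent_v hy hy1 (hPmem.1 hv) (fun e => hv1 (Subtype.ext e))
      (congrArg Subtype.val hg) (memH.1 g.2), fun hg => Subtype.ext (hAV hg _ (hPmem.1 hv)).eq⟩
  -- the part commuting with `r`
  by_cases hry : Commute d.r y
  swap
  · left
    -- the four group is central in its normaliser
    have hnorm : ∀ g : G, Commute g y → (∀ v ∈ d.V, g * v * g⁻¹ ∈ d.V) → g ∈ A := by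
      intro g hgy hg
      rcases d.mem_V.1 (hg t htV) with e | e | e | e
      · exact absurd (conj_eq_one_iff.1 e) c.ne_one
      · exact d.cent_v hy hy1 htV c.ne_one (mul_inv_eq_iff_eq_mul.1 e) hgy
      all_goals exfalso
      all_goals refine hry ?_
      · refine d.commute_of_norm hy hy1 (x := d.r) hgy hg d.r_cube (fun v hv => (d.r_V hv).1) ?_ d.r_t e
        exact fun h => h
      · refine d.commute_of_norm hy hy1 (x := d.r * d.r) hgy hg ?_ (fun v hv => ?_) (fun h => ?_) ?_ e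
        · rw [show d.r * d.r * (d.r * d.r) * (d.r * d.r) = d.r * d.r * d.r * (d.r * d.r * d.r) by group,
            d.r_cube, one_mul]
        · rw [show d.r * d.r * v * (d.r * d.r)⁻¹ = d.r * (d.r * v * d.r⁻¹) * d.r⁻¹ by group]
          exact (d.r_V (d.r_V hv).1).1
        · have h2 := h.mul_left h
          rwa [show d.r * d.r * (d.r * d.r) = d.r * d.r * d.r * d.r by group, d.r_cube, one_mul] at h2
        · rw [show d.r * d.r * t * (d.r * d.r)⁻¹ = d.r * (d.r * t * d.r⁻¹) * d.r⁻¹ by group, d.r_t, d.r_s]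
    have habP : IsMulCommutative ↥(P : Subgroup H) := ⟨⟨fun a b => Subtype.ext (Subtype.ext
      (hAV (mem_sup_left (hPmem.1 a.2)) _ (hPmem.1 b.2)).eq)⟩⟩
    have hN : normalizer ((P : Subgroup H) : Set H) ≤ centralizer ((P : Subgroup H) : Set H) := by
      intro g hg
      have hgA := hnorm g (memH.1 g.2) fun v hv =>
        hPmem.1 ((mem_normalizer_iff.1 hg ⟨v, hVH hv⟩).1 (hPmem.2 hv))
      exact mem_centralizer_iff.2 fun v hv => Subtype.ext (hAV hgA _ (hPmem.1 hv)).eq.symm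
    have hcompl := MonoidHom.ker_transferSylow_isComplement' P hN
    set N := (MonoidHom.transferSylow P hN).ker
    have hNodd : ¬ 2 ∣ Nat.card N := by
      rw [← hcompl.index_eq_card]
      exact P.not_dvd_index
    have hcyc : ¬ IsCyclic (P : Subgroup H) := by
      intro hc
      obtain ⟨x, hx⟩ := hc.exists_generator
      have hx2 : x * x = 1 := Subtype.ext (Subtype.ext (d.V_sq (hPmem.1 x.2)))
      have hall : ∀ p : (P : Subgroup H), p = 1 ∨ p = x := fun p => by
        obtain ⟨i, rfl⟩ := mem_zpowers_iff.1 (hx p)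
        have hx2' : x ^ (2 : ℤ) = 1 := by rw [zpow_two, hx2]
        rw [← Int.emod_add_mul_ediv i 2, zpow_add, zpow_mul, hx2', one_zpow, mul_one]
        rcases (show i % 2 = 0 ∨ i % 2 = 1 by omega) with h | h <;> rw [h] <;> simp
      have hsV : d.s ∈ d.V := d.mem_V.2 (Or.inr (Or.inr (Or.inl rfl)))
      rcases hall ⟨⟨t, hVH htV⟩, hPmem.2 htV⟩ with h | h
      · exact c.ne_one (congrArg (fun z : (P : Subgroup H) => ((z : H) : G)) h)
      rcases hall ⟨⟨d.s, hVH hsV⟩, hPmem.2 hsV⟩ with h' | h'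
      · have e : d.s = 1 := congrArg (fun z : (P : Subgroup H) => ((z : H) : G)) h'
        have := d.s_ord
        rw [e, orderOf_one] at this
        norm_num at this
      · have e : t = d.s := congrArg (fun z : (P : Subgroup H) => ((z : H) : G)) (h.trans h'.symm)
        exact d.t_ne_s e
    have hgen := Cfsg.Agent.Lib.Coprime.iSup_centralizer_eq (A := (P : Subgroup H)) (K := N) hcyc
      (fun a _ => by rw [normalizer_eq_top]; exact mem_top a) (by
        obtain ⟨i, hi⟩ := hV'.exists_card_eq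
        rw [hPcoe, hi]
        exact Nat.Coprime.pow_left i ((Nat.prime_two.coprime_iff_not_dvd).2 hNodd))
    have hNA : N ≤ A.subgroupOf H := by
      rw [← hgen]
      refine iSup₂_le fun a ha => ?_
      rw [← hsup, ← hcen a ha.1 ha.2]
      exact inf_le_right
    have htop : A.subgroupOf H = ⊤ := by
      refine top_le_iff.1 ?_
      rw [← hcompl.sup_eq_top]
      exact sup_le hNA (hsup ▸ le_sup_left)
    intro g hgy v hv
    have hgA : g ∈ A := mem_subgroupOf.1 (htop ▸ mem_top (⟨g, memH.2 hgy⟩ : H))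
    rwa [mul_inv_eq_iff_eq_mul.2 (hAV hgA v hv).eq]
  have hrH : d.r ∈ H := memH.2 hry
  set r' : H := ⟨d.r, hrH⟩
  have hF : Centralizer.Fused P Y' r' := by
    refine ⟨⟨?_, hcen, fun a ha z hz => Subtype.ext (d.V_comm_Y (hPmem.1 ha) (mem_subgroupOf.1 hz)).eq,
      ?_, ?_, fun a ha => hPmem.2 (d.r_V (hPmem.1 ha)).1,
      fun a ha e => Subtype.ext ((d.r_V (hPmem.1 ha)).2 (congrArg Subtype.val e))⟩,
      fun a ha b hb => Subtype.ext (d.Y_comm (mem_subgroupOf.1 ha) (mem_subgroupOf.1 hb)).eq⟩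
    · refine Cfsg.Agent.Lib.TwoGroups.Recognition.isKleinFour_of_card ?_ fun a ha =>
        Subtype.ext (d.V_sq (hPmem.1 ha))
      rw [hPcoe, Nat.card_congr (subgroupOfEquivOfLe hVH).toEquiv]
      exact d.card_V
    · rw [Nat.card_congr (subgroupOfEquivOfLe hYH).toEquiv]; exact d.Y_odd
    · rw [← Subgroup.orderOf_coe]; exact d.r_ord
  rcases hF.index_cases with h12 | h60
  · left
    intro g hgy v hv
    have htop : normalizer (P : Set H) = ⊤ := eq_top_of_card_eq _ (by rw [hF.card_normalizer, h12])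
    exact hPmem.1 ((mem_normalizer_iff.1 (htop ▸ mem_top (⟨g, memH.2 hgy⟩ : H)) ⟨v, hVH hv⟩).1 (hPmem.2 hv))
  · right
    obtain ⟨hcenY, f, hfs, hfY, hα⟩ := hF.five h60
    refine ⟨fun z hz => congrArg Subtype.val (hcenY r' ⟨z, hYH hz⟩ (mem_subgroupOf.2 hz)),
      fun g hgy z hz => congrArg Subtype.val (hcenY ⟨g, memH.2 hgy⟩ ⟨z, hYH hz⟩ (mem_subgroupOf.2 hz)),
      f, hfs, fun g => (hfY g).trans mem_subgroupOf, fun g => ?_⟩
    set u := t * d.w with hu
    have huy : u * y * u⁻¹ = y⁻¹ := by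
      rw [show u * y * u⁻¹ = t * (d.w * y * d.w⁻¹) * t⁻¹ by rw [hu]; group, d.w_inv y hy,
        mul_inv_eq_iff_eq_mul.2 ((c.comm (d.Y_le hy)).inv_right).eq]
    have hu2 : u * u = 1 := by
      rw [hu, ← pow_two, (c.comm d.w_mem).mul_pow, pow_two, pow_two, c.sq, ← pow_two d.w, ← d.w_ord,
        pow_orderOf_eq_one, one_mul]
    have hui : u⁻¹ = u := inv_eq_of_mul_eq_one_right hu2
    have hst : ∀ g ∈ H, u * g * u⁻¹ ∈ H := fun g hg => by
      refine memH.2 ?_
      have h1 : Commute (u * g * u⁻¹) (u * y * u⁻¹) := Commute.map (memH.1 hg) (MulAut.conj u).toMonoidHom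
      rw [huy] at h1
      simpa using h1.inv_right
    have hinv : ∀ g : G, u * (u * g * u⁻¹) * u⁻¹ = g := fun g => by
      rw [show u * (u * g * u⁻¹) * u⁻¹ = u * u * g * (u * u)⁻¹ by group, hu2]; group
    let α : MulAut H :=
      { toFun := fun g => ⟨u * g * u⁻¹, hst g g.2⟩
        invFun := fun g => ⟨u * g * u⁻¹, hst g g.2⟩
        left_inv := fun g => Subtype.ext (hinv g)
        right_inv := fun g => Subtype.ext (hinv g)
        map_mul' := fun a b => Subtype.ext (by
          show u * ((a : G) * b) * u⁻¹ = u * (a : G) * u⁻¹ * (u * b * u⁻¹)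
          group) }
    have huV : ∀ v ∈ d.V, u * v * u⁻¹ = v := fun v hv => by
      refine mul_inv_eq_iff_eq_mul.2 ?_
      have h1 := c.comm d.w_mem
      have h2 : Commute u t := (Commute.refl t).mul_left h1.symm
      have h3 : Commute u d.s := d.ts_comm.mul_left d.sw.symm
      rcases d.mem_V.1 hv with e | e | e | e <;> rw [e]
      exacts [(Commute.one_right u).eq, h2.eq, h3.eq, (h2.mul_right h3).eq]
    have h := hα α (fun v hv => Subtype.ext (huV _ (hPmem.1 hv)))
      (Subtype.ext (mul_inv_eq_iff_eq_mul.2 d.r_tw.symm.eq)) g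
    have h1 : f (α g * g⁻¹) = 1 := by rw [map_mul, map_inv, h, mul_inv_cancel]
    exact mem_subgroupOf.1 ((hfY _).1 h1)

end Cfsg.Agent.Lib.JankoThompson
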