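import Cfsg.Agent.Lib.Walter.KnownFactsPSL
import Cfsg.Agent.Lib.Walter.Basic
import Cfsg.Agent.Lib.PushUpP.Psl
import Cfsg.Agent.Lib.AutPSL.Card
import Cfsg.Agent.Lib.OddOrder.FeitThompson
import Cfsg.Agent.Lib.OrderEight4.Main
import Cfsg.Agent.Lib.Linear.SmallIso.PSL5
import Cfsg.Agent.Lib.Fgs9.Splitting
import Cfsg.Agent.S0215
import Cfsg.Agent.S0252
import Cfsg.Agent.S0448

/-!
# S0343, the case of even `q`

`C(t) = 2 × PSL(2, 2 ^ n)`: `N(S)` acts on `S#` as a transitive group of odd order in which only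
the identity fixes two points, so it is semilinear over `GF(2 ^ (n + 1))` and `2 ^ n - 1 ≤ n + 1`.

Owner: helper66.
-/

set_option autoImplicit false
set_option linter.unusedSectionVars false
set_option linter.style.haveILetI false

universe u

namespace Cfsg.Agent.Lib.JankoThompson.EvenQ

open Subgroup Walter

variable {G : Type u} [Group G] [Finite G]

/-- The Sylow 2-subgroup through `t`, its hyperplane `U` and the torus element `τ`. -/
structure Shape (S : Sylow 2 G) (t : G) (U : Subgroup G) (τ : G) (q : ℕ) : Prop where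
  comm : IsMulCommutative (S : Subgroup G)
  mem : t ∈ (S : Subgroup G)
  ord : orderOf t = 2
  sq : ∀ x ∈ (S : Subgroup G), x * x = 1
  card_U : Nat.card U = q
  le : U ≤ (S : Subgroup G)
  not_mem : t ∉ U
  split : ∀ x ∈ (S : Subgroup G), x ∈ U ∨ t * x ∈ U
  norm : τ ∈ normalizer ((S : Subgroup G) : Set G)
  fix : τ * t = t * τ
  trans : ∀ x ∈ U, x ≠ 1 → ∀ y ∈ U, y ≠ 1 → ∃ k : ℕ, τ ^ k * x * (τ ^ k)⁻¹ = y
  self : ∀ c : G, (∀ x ∈ (S : Subgroup G), c * x = x * c) → c ∈ (S : Subgroup G)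
  free : ∀ n ∈ normalizer ((S : Subgroup G) : Set G), n * t = t * n →
    ∀ x ∈ (S : Subgroup G), x ≠ 1 → x ≠ t → n * x = x * n → n ∈ (S : Subgroup G)

theorem mult_two_cases : ∀ z : Multiplicative (ZMod 2), z = 1 ∨ z = Multiplicative.ofAdd 1 := by
  decide

theorem mult_two_sq : ∀ z : Multiplicative (ZMod 2), z * z = 1 := by decide

theorem mult_two_ne : ¬ Multiplicative.ofAdd (1 : ZMod 2) = 1 := by decide

set_option maxHeartbeats 1000000 in
theorem exists_shape (hab : ∀ P : Sylow 2 G, ∀ a b : P, a * b = b * a) {F : Type} [Field F]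
    [Fintype F] [CharP F 2] {t : G} (ht : orderOf t = 2)
    (e : centralizer ({t} : Set G) ≃*
      Multiplicative (ZMod 2) × Matrix.ProjectiveSpecialLinearGroup (Fin 2) F) :
    ∃ (S : Sylow 2 G) (U : Subgroup G) (τ : G), Shape S t U τ (Fintype.card F) := by
  haveI : Fact (Nat.Prime 2) := ⟨Nat.prime_two⟩
  set C := centralizer ({t} : Set G) with hC
  obtain ⟨U₀, n₀, hn₀, -, hU₀, htr⟩ := Known.psl2_torus (F := F)
  set m : Multiplicative (ZMod 2) := Multiplicative.ofAdd 1 with hm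
  have h2 : ∀ z : Multiplicative (ZMod 2), z = 1 ∨ z = m := mult_two_cases
  have hm2 : ∀ z : Multiplicative (ZMod 2), z * z = 1 := mult_two_sq
  -- the image of `t`
  set tC : C := ⟨t, mem_centralizer_singleton_iff.2 rfl⟩ with htC
  have het : e tC = (m, 1) := by
    have hcen : (e tC).2 ∈ center (Matrix.ProjectiveSpecialLinearGroup (Fin 2) F) := by
      refine mem_center_iff.2 fun y => ?_
      obtain ⟨c, hc⟩ := e.surjective (1, y)
      have h : c * tC = tC * c := Subtype.ext (mem_centralizer_singleton_iff.1 c.2)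
      have := congrArg (fun z => (e z).2) h
      simpa [map_mul, hc] using this
    rw [PushUpP.center_psl, mem_bot] at hcen
    refine Prod.ext ((h2 _).resolve_left fun h1 => ?_) hcen
    have : tC = 1 := e.map_eq_one_iff.1 (Prod.ext h1 hcen)
    rw [show t = 1 from congrArg Subtype.val this, orderOf_one] at ht
    omega
  have hU2 : ∀ x ∈ (U₀ : Subgroup (Matrix.ProjectiveSpecialLinearGroup (Fin 2) F)), x ≠ 1 →
      orderOf x = 2 ∧ ∀ y, y * x = x * y → y ∈ (U₀ : Subgroup _) := by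
    intro x hx hx1
    obtain ⟨k, hk⟩ := U₀.2 ⟨x, hx⟩
    have hk' : x ^ 2 ^ k = 1 := congrArg Subtype.val hk
    -- some power of `x` is an involution commuting with it
    obtain ⟨j, -, hj⟩ := (Nat.dvd_prime_pow Nat.prime_two).1 (orderOf_dvd_of_pow_eq_one hk')
    obtain ⟨i, rfl⟩ : ∃ i, j = i + 1 := by
      refine Nat.exists_eq_add_one.2 (Nat.pos_of_ne_zero ?_)
      rintro rfl
      exact hx1 (orderOf_eq_one_iff.1 (by rw [hj, pow_zero]))
    have hinv : orderOf (x ^ 2 ^ i) = 2 := by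
      rw [orderOf_pow' x (pow_ne_zero i two_ne_zero), hj,
        Nat.gcd_eq_right (pow_dvd_pow 2 i.le_succ), pow_succ, Nat.mul_div_cancel_left _ (by positivity)]
    have hsq : x * x = 1 := Known.psl_exponent_two hinv (Commute.self_pow x _).eq
    have hx2 : orderOf x = 2 := orderOf_eq_prime (by rw [pow_two]; exact hsq) hx1
    refine ⟨hx2, fun y hy => ?_⟩
    -- the centraliser of `x` is a 2-group containing `U₀`
    set Cx := centralizer ({x} : Set (Matrix.ProjectiveSpecialLinearGroup (Fin 2) F))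
    have hp : IsPGroup 2 Cx := fun z => ⟨1, Subtype.ext (by
      rw [pow_one, pow_two]
      exact Known.psl_exponent_two hx2 (mem_centralizer_singleton_iff.1 z.2))⟩
    have hle : (U₀ : Subgroup _) ≤ Cx := by
      intro z hz
      refine mem_centralizer_singleton_iff.2 ?_
      -- elements of exponent two
      have hex : ∀ w ∈ (U₀ : Subgroup (Matrix.ProjectiveSpecialLinearGroup (Fin 2) F)),
          ∀ s, orderOf s = 2 → w * s = s * w → w * w = 1 := fun w _ s hs h =>
        Known.psl_exponent_two hs h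
      by_cases hz1 : z = 1
      · simp [hz1]
      obtain ⟨k, hk⟩ := htr x hx hx1 z hz hz1
      have hzz : z * z = 1 := by
        rw [← hk, show n₀ ^ k * x * (n₀ ^ k)⁻¹ * (n₀ ^ k * x * (n₀ ^ k)⁻¹) =
          n₀ ^ k * (x * x) * (n₀ ^ k)⁻¹ by group, hsq, mul_one, mul_inv_cancel]
      by_cases hzx : z * x = 1
      · rw [← inv_eq_of_mul_eq_one_right hzz, eq_inv_of_mul_eq_one_left hzx, inv_inv]
      obtain ⟨l, hl⟩ := htr x hx hx1 (z * x) (mul_mem hz hx) hzx
      have h3 : z * x * (z * x) = 1 := by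
        rw [← hl, show n₀ ^ l * x * (n₀ ^ l)⁻¹ * (n₀ ^ l * x * (n₀ ^ l)⁻¹) =
          n₀ ^ l * (x * x) * (n₀ ^ l)⁻¹ by group, hsq, mul_one, mul_inv_cancel]
      calc z * x = (z * x)⁻¹ := (inv_eq_of_mul_eq_one_right h3).symm
        _ = x⁻¹ * z⁻¹ := mul_inv_rev z x
        _ = x * z := by rw [inv_eq_of_mul_eq_one_right hsq, inv_eq_of_mul_eq_one_right hzz]
    rw [← U₀.3 hp hle]
    exact mem_centralizer_singleton_iff.2 hy
  have hUsq : ∀ x ∈ (U₀ : Subgroup (Matrix.ProjectiveSpecialLinearGroup (Fin 2) F)), x * x = 1 :=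
    fun x hx => by
      by_cases hx1 : x = 1
      · simp [hx1]
      · have := pow_orderOf_eq_one x
        rwa [(hU2 x hx hx1).1, pow_two] at this
  -- the subgroups of `G`
  let ι : Matrix.ProjectiveSpecialLinearGroup (Fin 2) F →* G :=
    C.subtype.comp (e.symm.toMonoidHom.comp (MonoidHom.inr _ _))
  have hι : Function.Injective ι := fun a b h => congrArg Prod.snd (e.symm.injective (Subtype.ext h))
  set U := (U₀ : Subgroup _).map ι with hU
  let π : C →* Matrix.ProjectiveSpecialLinearGroup (Fin 2) F := (MonoidHom.snd _ _).comp e.toMonoidHom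
  have hdec : ∀ c : C, (c : G) = ι (π c) ∨ (c : G) = t * ι (π c) := by
    intro c
    rcases h2 (e c).1 with h | h
    · left
      show (c : G) = ((e.symm (1, (e c).2) : C) : G)
      rw [← h, Prod.mk.eta, e.symm_apply_apply]
    · right
      show (c : G) = t * ((e.symm (1, (e c).2) : C) : G)
      have hc : e c = e tC * (1, (e c).2) := by
        rw [het, Prod.mk_mul_mk, mul_one, one_mul, ← h]
      conv_lhs => rw [← e.symm_apply_apply c, hc, map_mul, e.symm_apply_apply]
      rfl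
  have hιC : ∀ x, ι x * t = t * ι x := fun x =>
    mem_centralizer_singleton_iff.1 (e.symm (1, x)).2
  set S₀ := ((U₀ : Subgroup _).comap π).map C.subtype with hS₀
  have hS₀2 : IsPGroup 2 S₀ := by
    rintro ⟨_, c, hc, rfl⟩
    refine ⟨1, Subtype.ext ?_⟩
    show (c : G) ^ 2 ^ 1 = 1
    have hcc : c * c = 1 := e.injective (by
      rw [map_mul, map_one]
      exact Prod.ext (hm2 _) (hUsq _ hc))
    rw [pow_one, pow_two]
    exact congrArg Subtype.val hcc
  obtain ⟨S, hS⟩ := hS₀2.exists_le_sylow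
  have hcomm : ∀ {x y : G}, x ∈ (S : Subgroup G) → y ∈ (S : Subgroup G) → x * y = y * x :=
    fun {x y} hx hy => congrArg Subtype.val (hab S ⟨x, hx⟩ ⟨y, hy⟩)
  have htπ : tC ∈ (U₀ : Subgroup _).comap π := by
    rw [Subgroup.mem_comap]
    simp [π, het, one_mem]
  have htS : t ∈ (S : Subgroup G) := hS ⟨tC, htπ, rfl⟩
  have hSC : (S : Subgroup G) ≤ C := fun x hx => mem_centralizer_singleton_iff.2 (hcomm hx htS)
  have hmem : ∀ x (hx : x ∈ C), x ∈ (S : Subgroup G) ↔ π ⟨x, hx⟩ ∈ (U₀ : Subgroup _) := by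
    intro x hx
    refine ⟨fun hxS => ?_, fun h => hS ⟨⟨x, hx⟩, h, rfl⟩⟩
    have hle : (U₀ : Subgroup _) ≤ ((S : Subgroup G).subgroupOf C).map π := by
      intro y hy
      have hy' : π ⟨ι y, mem_centralizer_singleton_iff.2 (hιC y)⟩ = y := by
        show (e (e.symm (1, y))).2 = y
        rw [e.apply_symm_apply]
      refine ⟨⟨ι y, mem_centralizer_singleton_iff.2 (hιC y)⟩, mem_subgroupOf.2 (hS ⟨_, ?_, rfl⟩), hy'⟩
      show π ⟨ι y, mem_centralizer_singleton_iff.2 (hιC y)⟩ ∈ (U₀ : Subgroup _)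
      rw [hy']
      exact hy
    rw [← U₀.3 ((S.2.comap_of_injective C.subtype Subtype.val_injective).map π) hle]
    exact ⟨⟨x, hx⟩, mem_subgroupOf.2 hxS, rfl⟩
  have hπι : ∀ y, π ⟨ι y, mem_centralizer_singleton_iff.2 (hιC y)⟩ = y := fun y => by
    show (e (e.symm (1, y))).2 = y
    rw [e.apply_symm_apply]
  have hUS : U ≤ (S : Subgroup G) := by
    rintro _ ⟨y, hy, rfl⟩
    exact (hmem _ (mem_centralizer_singleton_iff.2 (hιC y))).2 (by rw [hπι]; exact hy)
  have hsplit : ∀ x ∈ (S : Subgroup G), x ∈ U ∨ t * x ∈ U := by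
    intro x hx
    have hxU := (hmem x (hSC hx)).1 hx
    rcases hdec ⟨x, hSC hx⟩ with h | h
    · exact Or.inl ⟨_, hxU, h.symm⟩
    · refine Or.inr ⟨_, hxU, ?_⟩
      have h' : x = t * ι (π ⟨x, hSC hx⟩) := h
      have ht2 : t * t = 1 := by
        have := pow_orderOf_eq_one t
        rwa [ht, pow_two] at this
      conv_rhs => rw [h', ← mul_assoc, ht2, one_mul]
  have hτt : ι n₀ * t = t * ι n₀ := hιC n₀
  have hτS : ι n₀ ∈ normalizer ((S : Subgroup G) : Set G) := by
    refine PSLTwo.Sylow.mem_normalizer_of_conj_mem fun x hx => ?_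
    have hτC : ι n₀ ∈ C := mem_centralizer_singleton_iff.2 hτt
    have hxC := hSC hx
    refine (hmem _ (mul_mem (mul_mem hτC hxC) (inv_mem hτC))).2 ?_
    have h1 : π ⟨ι n₀ * x * (ι n₀)⁻¹, mul_mem (mul_mem hτC hxC) (inv_mem hτC)⟩ =
        π ⟨ι n₀, hτC⟩ * π ⟨x, hxC⟩ * (π ⟨ι n₀, hτC⟩)⁻¹ := by
      rw [show (⟨ι n₀ * x * (ι n₀)⁻¹, mul_mem (mul_mem hτC hxC) (inv_mem hτC)⟩ : C) =
        ⟨ι n₀, hτC⟩ * ⟨x, hxC⟩ * (⟨ι n₀, hτC⟩ : C)⁻¹ from rfl, map_mul π, map_mul π, map_inv π]
    rw [h1, hπι]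
    exact (mem_normalizer_iff.1 hn₀ _).1 ((hmem x hxC).1 hx)
  have hsqS : ∀ x ∈ (S : Subgroup G), x * x = 1 := fun x hx => by
    have hxU := (hmem x (hSC hx)).1 hx
    have h : (⟨x, hSC hx⟩ : C) * ⟨x, hSC hx⟩ = 1 := e.injective (by
      rw [map_mul, map_one]
      exact Prod.ext (hm2 _) (hUsq _ hxU))
    exact congrArg Subtype.val h
  have hUne : ∃ u ∈ (U₀ : Subgroup (Matrix.ProjectiveSpecialLinearGroup (Fin 2) F)), u ≠ 1 := by
    haveI : Nontrivial ↥(U₀ : Subgroup (Matrix.ProjectiveSpecialLinearGroup (Fin 2) F)) := by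
      rw [← Finite.one_lt_card_iff_nontrivial, hU₀]
      exact Fintype.one_lt_card
    obtain ⟨u, hu⟩ := exists_ne (1 : ↥(U₀ : Subgroup (Matrix.ProjectiveSpecialLinearGroup (Fin 2) F)))
    exact ⟨u, u.2, fun h => hu (Subtype.ext h)⟩
  have htU : t ∉ U := by
    rintro ⟨y, -, hy⟩
    have h : e.symm (1, y) = tC := Subtype.ext hy
    have := congrArg (fun z => (e z).1) h
    simp [het] at this
    exact mult_two_ne this.symm
  -- an element of `C(t)` whose projection lies in `U₀` is in `S`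
  have hfree : ∀ c (hc : c ∈ C), (∀ x ∈ (S : Subgroup G), x ≠ 1 → x ≠ t → c * x = x * c →
      c ∈ (S : Subgroup G)) := by
    intro c hc x hx hx1 hxt hcx
    refine (hmem c hc).2 ?_
    have hxC := hSC hx
    have hxU := (hmem x hxC).1 hx
    have hne : π ⟨x, hxC⟩ ≠ 1 := by
      intro h
      rcases hdec ⟨x, hxC⟩ with h' | h'
      · exact hx1 (by rw [show x = ι (π ⟨x, hxC⟩) from h', h, map_one])
      · exact hxt (by rw [show x = t * ι (π ⟨x, hxC⟩) from h', h, map_one, mul_one])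
    refine (hU2 _ hxU hne).2 _ ?_
    rw [← map_mul, ← map_mul]
    exact congrArg π (Subtype.ext hcx)
  refine ⟨S, U, ι n₀, ⟨⟨⟨fun a b => Subtype.ext (hcomm a.2 b.2)⟩⟩, htS, ht, hsqS, ?_, hUS, htU,
    hsplit, hτS, hτt, ?_, ?_, fun n _ hnt x hx h1 h2' h3 =>
      hfree n (mem_centralizer_singleton_iff.2 hnt) x hx h1 h2' h3⟩⟩
  · rw [hU, ← hU₀]
    exact (Nat.card_congr ((U₀ : Subgroup _).equivMapOfInjective ι hι).toEquiv).symm
  · rintro _ ⟨x, hx, rfl⟩ hx1 _ ⟨y, hy, rfl⟩ hy1
    obtain ⟨k, hk⟩ := htr x hx (fun h => hx1 (by rw [h, map_one])) y hy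
      (fun h => hy1 (by rw [h, map_one]))
    exact ⟨k, by rw [← hk, map_mul, map_mul, map_inv, map_pow]⟩
  · intro c hc
    obtain ⟨u, hu, hu1⟩ := hUne
    have huS : ι u ∈ (S : Subgroup G) := hUS ⟨u, hu, rfl⟩
    exact hfree c (mem_centralizer_singleton_iff.2 (hc t htS)) (ι u) huS
      (fun h => hu1 (hι (h.trans (map_one ι).symm))) (fun h => htU (h ▸ ⟨u, hu, rfl⟩)) (hc _ huS)

variable {S : Sylow 2 G} {t : G} {U : Subgroup G} {τ : G} {q : ℕ}

theorem card_sylow (h : Shape S t U τ q) : Nat.card ↥(S : Subgroup G) = 2 * q := by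
  have hbij : Function.Bijective (fun p : Bool × ↥U =>
      (if p.1 then ⟨t * p.2, mul_mem h.mem (h.le p.2.2)⟩ else ⟨p.2, h.le p.2.2⟩ : ↥(S : Subgroup G))) := by
    constructor
    · rintro ⟨a, x⟩ ⟨b, y⟩ hxy
      cases a <;> cases b <;>
        simp only [Bool.false_eq_true, if_true, if_false, Subtype.mk.injEq] at hxy
      · exact Prod.ext rfl (Subtype.ext hxy)
      · exact absurd (show t ∈ U by
          rw [show t = t * y * (y : G)⁻¹ by group, ← hxy]
          exact mul_mem x.2 (inv_mem y.2)) h.not_mem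
      · exact absurd (show t ∈ U by
          rw [show t = t * x * (x : G)⁻¹ by group, hxy]
          exact mul_mem y.2 (inv_mem x.2)) h.not_mem
      · exact Prod.ext rfl (Subtype.ext (mul_left_cancel hxy))
    · rintro ⟨x, hx⟩
      rcases h.split x hx with hU | hU
      · exact ⟨(false, ⟨x, hU⟩), rfl⟩
      · exact ⟨(true, ⟨t * x, hU⟩), Subtype.ext (by
          show t * (t * x) = x
          rw [← mul_assoc, h.sq t h.mem, one_mul])⟩
  rw [← Nat.card_eq_of_bijective _ hbij, Nat.card_prod, h.card_U,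
    show Nat.card Bool = 2 by simp [Nat.card_eq_fintype_card]]

/-- `N(S)` is transitive on `S#`. -/
theorem transitive [IsSimpleGroup G] (hna : ¬ IsMulCommutative G) (h : Shape S t U τ q)
    (hq2 : 2 ∣ q) {x : G} (hx : x ∈ (S : Subgroup G)) (hx1 : x ≠ 1) :
    ∃ n ∈ normalizer ((S : Subgroup G) : Set G), n * t * n⁻¹ = x := by
  set N := normalizer ((S : Subgroup G) : Set G) with hN
  set O : Set G := {y | ∃ n ∈ N, n * t * n⁻¹ = y} with hO
  have ht1 : t ≠ 1 := fun e => by
    have := h.ord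
    rw [e, orderOf_one] at this
    omega
  have hOS : O ⊆ ((S : Subgroup G) : Set G) \ {1} := by
    rintro _ ⟨n, hn, rfl⟩
    exact ⟨(mem_normalizer_iff.1 hn t).1 h.mem, fun e => ht1 (conj_eq_one_iff.1 e)⟩
  have htO : t ∈ O := ⟨1, one_mem _, by simp⟩
  -- the size of the orbit is odd
  have hodd : Odd O.ncard := by
    set H := (centralizer ({t} : Set G)).subgroupOf N with hH
    let f : ↥N → ↥O := fun n => ⟨(n : G) * t * (n : G)⁻¹, n, n.2, rfl⟩
    have hwd : ∀ n m : ↥N, n⁻¹ * m ∈ H ↔ f n = f m := by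
      intro n m
      rw [hH, mem_subgroupOf, mem_centralizer_singleton_iff, Subtype.ext_iff]
      show (n : G)⁻¹ * (m : G) * t = t * ((n : G)⁻¹ * (m : G)) ↔
        (n : G) * t * (n : G)⁻¹ = m * t * (m : G)⁻¹
      constructor
      · intro e
        calc (n : G) * t * (n : G)⁻¹ = (n : G) * (t * ((n : G)⁻¹ * (m : G))) * (m : G)⁻¹ := by group
          _ = (n : G) * ((n : G)⁻¹ * (m : G) * t) * (m : G)⁻¹ := by rw [e]
          _ = _ := by group
      · intro e
        calc (n : G)⁻¹ * (m : G) * t = (n : G)⁻¹ * ((m : G) * t * (m : G)⁻¹) * m := by group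
          _ = (n : G)⁻¹ * ((n : G) * t * (n : G)⁻¹) * m := by rw [e]
          _ = _ := by group
    let g : ↥N ⧸ H → ↥O :=
      Quotient.lift f fun n m e => (hwd n m).1 (QuotientGroup.leftRel_apply.1 e)
    have hg : Function.Bijective g := by
      constructor
      · intro a b
        refine QuotientGroup.induction_on a fun n => QuotientGroup.induction_on b fun m e => ?_
        exact QuotientGroup.eq.2 ((hwd n m).2 e)
      · rintro ⟨_, n, hn, rfl⟩
        exact ⟨QuotientGroup.mk (⟨n, hn⟩ : ↥N), rfl⟩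
    rw [← Nat.card_coe_set_eq, ← Nat.card_eq_of_bijective g hg]
    show Odd ((centralizer ({t} : Set G)).relIndex N)
    have h1 : (centralizer ({t} : Set G)).relIndex N ∣ (S : Subgroup G).relIndex N :=
      relIndex_dvd_of_le_left N (fun y hy => mem_centralizer_singleton_iff.2
        (comm_Om h.comm hy h.mem))
    refine Odd.of_dvd_nat ?_ (h1.trans (relIndex_dvd_index_of_le le_normalizer))
    haveI : Fact (Nat.Prime 2) := ⟨Nat.prime_two⟩
    rw [← Nat.not_even_iff_odd, even_iff_two_dvd]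
    exact S.not_dvd_index
  have hinv : ∀ y ∈ O, ∀ k : ℕ, τ ^ k * y * (τ ^ k)⁻¹ ∈ O := by
    rintro _ ⟨n, hn, rfl⟩ k
    exact ⟨τ ^ k * n, mul_mem (pow_mem h.norm k) hn, by group⟩
  have hsq := h.sq t h.mem
  have htk : ∀ k : ℕ, τ ^ k * t * (τ ^ k)⁻¹ = t := fun k => by
    rw [((show Commute τ t from h.fix).pow_left k).eq, mul_inv_cancel_right]
  -- both halves are orbits of `τ`
  have hUall : ∀ y ∈ O, y ∈ U → ∀ z ∈ U, z ≠ 1 → z ∈ O := by
    intro y hy hyU z hz hz1
    obtain ⟨k, hk⟩ := h.trans y hyU (hOS hy).2 z hz hz1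
    exact hk ▸ hinv y hy k
  have hTall : ∀ y ∈ O, y ≠ t → t * y ∈ U → ∀ z ∈ U, z ≠ 1 → t * z ∈ O := by
    intro y hy hyt hyU z hz hz1
    obtain ⟨k, hk⟩ := h.trans (t * y) hyU (fun e => hyt (by
      rw [← inv_eq_of_mul_eq_one_right hsq]; exact eq_inv_of_mul_eq_one_right e)) z hz hz1
    have h2 : τ ^ k * y * (τ ^ k)⁻¹ = t * z := by
      rw [← hk, show τ ^ k * (t * y) * (τ ^ k)⁻¹ = (τ ^ k * t * (τ ^ k)⁻¹) * (τ ^ k * y * (τ ^ k)⁻¹) by
        group, htk, ← mul_assoc, hsq, one_mul]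
    exact h2 ▸ hinv y hy k
  -- an orbit of size `q` is impossible
  have hnq : O.ncard ≠ q := fun e => by
    rw [e, Nat.odd_iff] at hodd
    omega
  have hqU : ((U : Set G) \ {1}).ncard = q - 1 := by
    rw [Set.ncard_sdiff_singleton_of_mem (one_mem _), ← Nat.card_coe_set_eq]
    show Nat.card ↥U - 1 = q - 1
    rw [h.card_U]
  have hq0 : 0 < q := h.card_U ▸ Nat.card_pos
  by_cases hA : ∃ y ∈ O, y ∈ U <;> by_cases hB : ∃ y ∈ O, y ≠ t ∧ t * y ∈ U
  · obtain ⟨y, hy, hyU⟩ := hA
    obtain ⟨y', hy', hy't, hy'U⟩ := hB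
    rcases h.split x hx with hxU | hxU
    · exact hUall y hy hyU x hxU hx1
    · by_cases hxt : x = t
      · rw [hxt]; exact ⟨1, one_mem _, by simp⟩
      · have := hTall y' hy' hy't hy'U (t * x) hxU (fun e => hxt (by
          rw [← inv_eq_of_mul_eq_one_right hsq]; exact eq_inv_of_mul_eq_one_right e))
        rwa [← mul_assoc, hsq, one_mul] at this
  · exfalso
    obtain ⟨y, hy, hyU⟩ := hA
    refine hnq ?_
    have he : O = insert t ((U : Set G) \ {1}) := by
      ext z
      refine ⟨fun hz => ?_, ?_⟩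
      · by_cases hzt : z = t
        · exact Or.inl hzt
        · exact Or.inr ⟨((h.split z (hOS hz).1).resolve_right fun hu => hB ⟨z, hz, hzt, hu⟩),
            (hOS hz).2⟩
      · rintro (rfl | ⟨hz, hz1⟩)
        exacts [htO, hUall y hy hyU z hz hz1]
    rw [he, Set.ncard_insert_of_notMem (fun hh => h.not_mem hh.1), hqU]
    omega
  · exfalso
    obtain ⟨y, hy, hyt, hyU⟩ := hB
    refine hnq ?_
    have he : O = (fun z => t * z) '' (U : Set G) := by
      ext z
      refine ⟨fun hz => ?_, ?_⟩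
      · refine ⟨t * z, (h.split z (hOS hz).1).resolve_left fun hu => hA ⟨z, hz, hu⟩, ?_⟩
        show t * (t * z) = z
        rw [← mul_assoc, hsq, one_mul]
      · rintro ⟨z, hz, rfl⟩
        by_cases hz1 : z = 1
        · simpa [hz1] using htO
        · exact hTall y hy hyt hyU z hz hz1
    rw [he, Set.ncard_image_of_injective _ (mul_right_injective t), ← Nat.card_coe_set_eq]
    exact h.card_U
  · exfalso
    have he : ∀ z ∈ O, z = t := fun z hz => by
      by_contra hzt
      rcases h.split z (hOS hz).1 with hu | hu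
      exacts [hA ⟨z, hz, hu⟩, hB ⟨z, hz, hzt, hu⟩]
    obtain ⟨M, hM, hModd, hMc⟩ := S0215.result S t h.ord h.mem (fun g hg => by
      obtain ⟨n, hn, hne⟩ := exists_normalizer_conj h.comm h.mem hg
      rw [← hne]
      exact he _ ⟨n, hn, rfl⟩)
    exact OrderEight4.not_central_mod_odd hna h.ord hM hModd hMc

/-- The semilinear bound: `H` fixes `t`, the abelian normal subgroup `M` moves it everywhere. -/
theorem stabiliser_bound {P : Type u} [CommGroup P] [Finite P] {n : ℕ}
    (hP : Nat.card P = 2 ^ (n + 1)) (W : Subgroup (MulAut P)) (tP : P) (htP : tP ≠ 1)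
    (M : Subgroup W) [hMn : M.Normal] (hMc : IsMulCommutative M)
    (hMtr : ∀ x : P, x ≠ 1 → ∃ m ∈ M, (m : MulAut P) tP = x) (H : Subgroup W)
    (hHfix : ∀ w ∈ H, (w : MulAut P) tP = tP) : Nat.card H ≤ n + 1 := by
  classical
  haveI : Fact (Nat.Prime 2) := ⟨Nat.prime_two⟩
  -- the field
  let Φ : W →* AddMonoid.End (Additive P) :=
    { toFun := fun w => MonoidHom.toAdditive (w : MulAut P).toMonoidHom
      map_one' := rfl
      map_mul' := fun _ _ => rfl }
  set tA : (Additive P) := Additive.ofMul tP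
  have htA : tA ≠ 0 := fun e => htP (Additive.ofMul.injective e)
  have hΦcomm : ∀ a ∈ Φ '' (M : Set W), ∀ b ∈ Φ '' (M : Set W), a * b = b * a := by
    rintro _ ⟨a, ha, rfl⟩ _ ⟨b, hb, rfl⟩
    rw [← map_mul, ← map_mul]
    exact congrArg Φ (congrArg Subtype.val (hMc.1.1 (⟨a, ha⟩ : M) ⟨b, hb⟩))
  set R := Subring.closure (Φ '' (M : Set W)) with hR
  letI : CommRing R := Subring.closureCommRingOfComm hΦcomm
  have hgen : ∀ m ∈ M, Φ m ∈ R := fun m hm => Subring.subset_closure ⟨m, hm, rfl⟩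
  have hMA : ∀ y : (Additive P), y ≠ 0 → ∃ m ∈ M, (Φ m) tA = y := by
    intro y hy
    obtain ⟨m, hm, e⟩ := hMtr (Additive.toMul y) (fun e => hy (Additive.toMul.injective e))
    exact ⟨m, hm, e⟩
  -- evaluation at `t`
  let ev : R →+ (Additive P) :=
    { toFun := fun r => (r : AddMonoid.End (Additive P)) tA
      map_zero' := rfl
      map_add' := fun _ _ => rfl }
  have hevm : ∀ (r : R) (m : W) (hm : m ∈ M), (r : AddMonoid.End (Additive P)) (Φ m tA) = Φ m (ev r) :=
    fun r m hm => congrArg (fun z : R => (z : AddMonoid.End (Additive P)) tA) (mul_comm r ⟨Φ m, hgen m hm⟩)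
  have hevinj : Function.Injective ev := by
    refine (injective_iff_map_eq_zero ev).2 fun r hr => Subtype.ext (AddMonoidHom.ext fun y => ?_)
    by_cases hy : y = 0
    · subst hy
      exact map_zero (r : AddMonoid.End (Additive P))
    · obtain ⟨m, hm, rfl⟩ := hMA y hy
      show (r : AddMonoid.End (Additive P)) (Φ m tA) = 0
      rw [hevm r m hm, hr]
      exact map_zero (Φ m)
  have hevsurj : Function.Surjective ev := fun y => by
    by_cases hy : y = 0
    · exact ⟨0, hy.symm⟩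
    · obtain ⟨m, hm, rfl⟩ := hMA y hy
      exact ⟨⟨Φ m, hgen m hm⟩, rfl⟩
  haveI : Finite R := Finite.of_injective ev hevinj
  haveI : NoZeroDivisors R := ⟨fun {r s} e => by
    by_contra hne
    push Not at hne
    obtain ⟨m, hm, hms⟩ := hMA (ev s) (fun e' => hne.2 (hevinj (e'.trans (map_zero ev).symm)))
    refine hne.1 (hevinj ?_)
    have h1 : (r : AddMonoid.End (Additive P)) (ev s) = 0 :=
      congrArg (fun z : R => (z : AddMonoid.End (Additive P)) tA) e
    rw [← hms, hevm r m hm] at h1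
    exact ((MulEquiv.toAdditive (m : MulAut P)).map_eq_zero_iff.1 h1).trans (map_zero ev).symm⟩
  haveI : Nontrivial R := ⟨0, 1, fun e => htA (congrArg ev e).symm⟩
  haveI : IsDomain R := NoZeroDivisors.to_isDomain R
  letI : Fintype R := Fintype.ofFinite R
  letI : Field R := Fintype.fieldOfDomain R
  have hcard : Fintype.card R = 2 ^ (n + 1) := by
    rw [← Nat.card_eq_fintype_card, Nat.card_eq_of_bijective ev ⟨hevinj, hevsurj⟩]
    show Nat.card P = _
    exact hP
  -- `H` acts faithfully on the field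
  have hconj : ∀ (w : W), ∀ r ∈ R, Φ w * r * Φ w⁻¹ ∈ R := by
    intro w r hr
    have e1 : Φ w⁻¹ * Φ w = 1 := by rw [← map_mul, inv_mul_cancel, map_one]
    induction hr using Subring.closure_induction with
    | mem x hx =>
      obtain ⟨m, hm, rfl⟩ := hx
      rw [← map_mul, ← map_mul]
      exact hgen _ (hMn.conj_mem m hm w)
    | zero => simp
    | one => simp [← map_mul]
    | add x y _ _ ix iy => rw [mul_add, add_mul]; exact add_mem ix iy
    | neg x _ ix =>
      have e2 : Φ w * -x * Φ w⁻¹ = -(Φ w * x * Φ w⁻¹) := AddMonoidHom.ext fun y => map_neg (Φ w) _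
      rw [e2]
      exact neg_mem ix
    | mul x y _ _ ix iy =>
      have e2 : Φ w * (x * y) * Φ w⁻¹ = (Φ w * x * Φ w⁻¹) * (Φ w * y * Φ w⁻¹) := by
        simp only [mul_assoc]
        rw [← mul_assoc (Φ w⁻¹) (Φ w), e1, one_mul]
      rw [e2]
      exact mul_mem ix iy
  let σ : H → (R ≃+* R) := fun w =>
    { toFun := fun r => ⟨Φ (w : W) * r * Φ (w : W)⁻¹, hconj _ _ r.2⟩
      invFun := fun r => ⟨Φ (w : W)⁻¹ * r * Φ (w : W), by
        have := hconj (w : W)⁻¹ _ r.2
        rwa [inv_inv] at this⟩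
      left_inv := fun r => Subtype.ext (by
        have e1 : Φ (w : W)⁻¹ * Φ (w : W) = 1 := by rw [← map_mul, inv_mul_cancel, map_one]
        show Φ (w : W)⁻¹ * (Φ (w : W) * r * Φ (w : W)⁻¹) * Φ (w : W) = r
        rw [← mul_assoc, ← mul_assoc, e1, one_mul, mul_assoc, e1, mul_one])
      right_inv := fun r => Subtype.ext (by
        have e1 : Φ (w : W) * Φ (w : W)⁻¹ = 1 := by rw [← map_mul, mul_inv_cancel, map_one]
        show Φ (w : W) * (Φ (w : W)⁻¹ * r * Φ (w : W)) * Φ (w : W)⁻¹ = r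
        rw [← mul_assoc, ← mul_assoc, e1, one_mul, mul_assoc, e1, mul_one])
      map_mul' := fun r s => Subtype.ext (by
        have e1 : Φ (w : W)⁻¹ * Φ (w : W) = 1 := by rw [← map_mul, inv_mul_cancel, map_one]
        show Φ (w : W) * ((r : AddMonoid.End (Additive P)) * s) * Φ (w : W)⁻¹ =
          (Φ (w : W) * r * Φ (w : W)⁻¹) * (Φ (w : W) * s * Φ (w : W)⁻¹)
        simp only [mul_assoc]
        rw [← mul_assoc (Φ (w : W)⁻¹) (Φ (w : W)), e1, one_mul])
      map_add' := fun r s => Subtype.ext (by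
        show Φ (w : W) * ((r : AddMonoid.End (Additive P)) + s) * Φ (w : W)⁻¹ =
          Φ (w : W) * r * Φ (w : W)⁻¹ + Φ (w : W) * s * Φ (w : W)⁻¹
        rw [mul_add, add_mul]) }
  have hσ : Function.Injective σ := by
    intro w w' e
    set x : W := (w' : W)⁻¹ * (w : W) with hx
    have hxt : (x : MulAut P) tP = tP := hHfix _ (mul_mem (inv_mem w'.2) w.2)
    refine Subtype.ext (eq_of_inv_mul_eq_one (show x = 1 from Subtype.ext ?_)).symm
    refine MulEquiv.ext fun b => ?_
    by_cases hb : b = 1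
    · simp [hb]
    obtain ⟨m, hm, rfl⟩ := hMtr b hb
    -- `x` commutes with `m` on `t`
    have h1 := congrArg (fun z : R => (z : AddMonoid.End (Additive P)) ((Φ (w' : W)) tA))
      (DFunLike.congr_fun e ⟨Φ m, hgen m hm⟩)
    have h2 : ((w : W) : MulAut P) ((m : MulAut P) (((w : W) : MulAut P).symm
        (((w' : W) : MulAut P) tP))) = ((w' : W) : MulAut P) ((m : MulAut P)
        (((w' : W) : MulAut P).symm (((w' : W) : MulAut P) tP))) := congrArg Additive.toMul h1
    have h3 : ((w : W) : MulAut P).symm (((w' : W) : MulAut P) tP) = tP := by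
      rw [MulEquiv.symm_apply_eq]
      exact (hHfix _ w'.2).trans (hHfix _ w.2).symm
    rw [h3, MulEquiv.symm_apply_apply] at h2
    show ((w' : W) : MulAut P).symm (((w : W) : MulAut P) ((m : MulAut P) tP)) = (m : MulAut P) tP
    rw [h2, MulEquiv.symm_apply_apply]
  haveI : Finite (R ≃+* R) := Finite.of_injective (fun s => (s : R → R)) DFunLike.coe_injective
  have hle := Nat.card_le_card_of_injective σ hσ
  rwa [AutPSL.card_fieldAuts hcard] at hle

/-- `q - 1 ≤ n + 1` if `q = 2 ^ n`. -/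
theorem pow_bound [IsSimpleGroup G] (hna : ¬ IsMulCommutative G) {n : ℕ}
    (h : Shape S t U τ (2 ^ n)) (hn : 2 ≤ n) : 2 ^ n ≤ n + 2 := by
  classical
  haveI : Fact (Nat.Prime 2) := ⟨Nat.prime_two⟩
  set q := 2 ^ n with hqdef
  have hq4 : 4 ≤ q := hqdef ▸ le_trans (by norm_num) (Nat.pow_le_pow_right two_pos hn)
  set N := normalizer ((S : Subgroup G) : Set G) with hN
  set P := ↥(S : Subgroup G) with hP
  set tP : P := ⟨t, h.mem⟩
  have htP : tP ≠ 1 := fun e => by
    have := h.ord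
    rw [show t = 1 from congrArg Subtype.val e, orderOf_one] at this
    omega
  let ρ : ↥N →* MulAut P := (S : Subgroup G).normalizerMonoidHom
  have hρ : ∀ (m : ↥N) (x : P), ((ρ m x : P) : G) = (m : G) * x * (m : G)⁻¹ := fun m x => rfl
  set W := ρ.range with hW
  have htr : ∀ x : P, x ≠ 1 → ∃ w ∈ W, w tP = x := fun x hx => by
    obtain ⟨m, hm, he⟩ := transitive hna h (hqdef ▸ dvd_pow_self 2 (by omega)) x.2
      (fun e => hx (Subtype.ext e))
    exact ⟨ρ ⟨m, hm⟩, ⟨_, rfl⟩, Subtype.ext he⟩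
  have hfix₀ : ∀ w ∈ W, w tP = tP → ∀ x : P, x ≠ 1 → x ≠ tP → w x = x → w = 1 := by
    rintro _ ⟨m, rfl⟩ hwt x hx1 hxt hwx
    have e1 : (m : G) * t = t * m := mul_inv_eq_iff_eq_mul.1 (congrArg Subtype.val hwt)
    have e2 : (m : G) * x = x * m := mul_inv_eq_iff_eq_mul.1 (congrArg Subtype.val hwx)
    have hmS := h.free m m.2 e1 x x.2 (fun e => hx1 (Subtype.ext e)) (fun e => hxt (Subtype.ext e)) e2
    refine MulEquiv.ext fun y => Subtype.ext ?_
    rw [hρ, comm_Om h.comm hmS y.2, mul_inv_cancel_right]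
    rfl
  have htwo : ∀ w ∈ W, ∀ a b : P, a ≠ 1 → b ≠ 1 → a ≠ b → w a = a → w b = b → w = 1 := by
    intro w hw a b ha hb hab hwa hwb
    obtain ⟨v, hv, rfl⟩ := htr a ha
    have h1 : v⁻¹ * w * v = 1 :=
      hfix₀ _ (mul_mem (mul_mem (inv_mem hv) hw) hv)
        (by rw [MulAut.mul_apply, MulAut.mul_apply, hwa, MulAut.inv_apply, MulEquiv.symm_apply_apply])
        (v⁻¹ b) (fun e => hb (by simpa using congrArg v e))
        (fun e => hab (by simpa using (congrArg v e).symm))
        (by simp only [MulAut.mul_apply, MulAut.inv_apply, MulEquiv.apply_symm_apply, hwb])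
    calc w = v * (v⁻¹ * w * v) * v⁻¹ := by group
      _ = 1 := by rw [h1, mul_one, mul_inv_cancel]
  have hWodd : Odd (Nat.card W) := by
    have hk : ρ.ker = (S : Subgroup G).subgroupOf N := by
      ext m
      rw [MonoidHom.mem_ker, mem_subgroupOf]
      refine ⟨fun e => h.self m fun x hx => ?_, fun hm => MulEquiv.ext fun y => Subtype.ext ?_⟩
      · have e1 : ((ρ m ⟨x, hx⟩ : P) : G) = x := by rw [e]; rfl
        exact mul_inv_eq_iff_eq_mul.1 e1
      · rw [hρ, comm_Om h.comm hm y.2, mul_inv_cancel_right]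
        rfl
    rw [hW, ← index_ker ρ, hk]
    refine Odd.of_dvd_nat ?_ (relIndex_dvd_index_of_le (le_normalizer (H := (S : Subgroup G))))
    rw [← Nat.not_even_iff_odd, even_iff_two_dvd]
    exact S.not_dvd_index
  -- the stabiliser of `t`
  let H : Subgroup W :=
    { carrier := {w | (w : MulAut P) tP = tP}
      one_mem' := rfl
      mul_mem' := fun {a b} ha hb => by
        show (a : MulAut P) ((b : MulAut P) tP) = tP
        rw [hb, ha]
      inv_mem' := fun {a} ha => by
        show (a : MulAut P).symm tP = tP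
        rw [MulEquiv.symm_apply_eq]
        exact ha.symm }
  have hH : q - 1 ≤ Nat.card H := by
    obtain ⟨⟨u₀, hu₀⟩, hu₁⟩ : ∃ u : U, u ≠ 1 := by
      haveI : Nontrivial U := by
        rw [← Finite.one_lt_card_iff_nontrivial, h.card_U]; omega
      exact exists_ne 1
    have hu₀1 : u₀ ≠ 1 := fun e => hu₁ (Subtype.ext e)
    let f : H → ↥(S : Subgroup G) := fun w => (w : W).1 ⟨u₀, h.le hu₀⟩
    have hsub : ((U : Set G) \ {1}) ⊆ Set.range fun w => ((f w : P) : G) := by
      rintro y ⟨hy, hy1⟩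
      obtain ⟨k, hk⟩ := h.trans u₀ hu₀ hu₀1 y hy hy1
      refine ⟨⟨⟨ρ ⟨τ ^ k, pow_mem h.norm k⟩, ⟨_, rfl⟩⟩, ?_⟩, hk⟩
      refine Subtype.ext ?_
      show τ ^ k * t * (τ ^ k)⁻¹ = t
      rw [((show Commute τ t from h.fix).pow_left k).eq, mul_inv_cancel_right]
    calc q - 1 = ((U : Set G) \ {1}).ncard := by
          rw [Set.ncard_sdiff_singleton_of_mem (one_mem _), ← Nat.card_coe_set_eq]
          exact congrArg (· - 1) h.card_U.symm
      _ ≤ (Set.range fun w => ((f w : P) : G)).ncard := Set.ncard_le_ncard hsub (Set.finite_range _)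
      _ ≤ Nat.card H := by
          rw [← Nat.card_coe_set_eq]
          exact Finite.card_range_le _
  -- the index of the stabiliser
  have hHidx : H.index = 2 * q - 1 := by
    let f : W → {x : P // x ≠ 1} := fun w =>
      ⟨(w : MulAut P) tP, fun e => htP ((MulEquiv.map_eq_one_iff _).1 e)⟩
    have hwd : ∀ a b : W, a⁻¹ * b ∈ H ↔ f a = f b := by
      intro a b
      rw [Subtype.ext_iff]
      show (a : MulAut P).symm ((b : MulAut P) tP) = tP ↔ (a : MulAut P) tP = (b : MulAut P) tP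
      rw [MulEquiv.symm_apply_eq, eq_comm]
    let g : W ⧸ H → {x : P // x ≠ 1} :=
      Quotient.lift f fun a b e => (hwd a b).1 (QuotientGroup.leftRel_apply.1 e)
    have hg : Function.Bijective g := by
      constructor
      · intro a b
        refine QuotientGroup.induction_on a fun n => QuotientGroup.induction_on b fun m e => ?_
        exact QuotientGroup.eq.2 ((hwd n m).2 e)
      · rintro ⟨x, hx⟩
        obtain ⟨w, hw, e⟩ := htr x hx
        exact ⟨QuotientGroup.mk (⟨w, hw⟩ : W), Subtype.ext e⟩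
    rw [index_eq_card, Nat.card_eq_of_bijective g hg]
    have h1 : ({(1 : P)}ᶜ : Set P).ncard = 2 * q - 1 := by
      rw [Set.ncard_compl, Set.ncard_singleton, card_sylow h]
    rw [← h1, ← Nat.card_coe_set_eq]
    rfl
  -- an abelian normal subgroup
  haveI : Group.IsSolvable W := OddOrder.FeitThompson.isSolvable_of_odd_card hWodd
  haveI : Nontrivial W := by
    rw [← Finite.one_lt_card_iff_nontrivial]
    have := H.index_mul_card
    rw [hHidx] at this
    rw [← this]
    exact Nat.lt_of_lt_of_le (by omega) (Nat.le_mul_of_pos_right _ Nat.card_pos)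
  obtain ⟨p, M, -, -, hMn, hM, hMc, -⟩ :=
    Fgs9.Splitting.exists_abelian_pGroup_normal (⊤ : Subgroup W) top_ne_bot
      inferInstance
  haveI := hMn
  -- only the identity of `M` fixes a point
  have hsemi : ∀ m ∈ M, ∀ a : P, a ≠ 1 → (m : MulAut P) a = a → m = 1 := by
    intro m hm a ha hma
    by_contra hm1
    have hfixM : ∀ m' ∈ M, (m' : MulAut P) a = a := by
      intro m' hm'
      by_contra hne
      refine hm1 (Subtype.ext (htwo _ m.2 a ((m' : MulAut P) a) ha
        (fun e => ha ((MulEquiv.map_eq_one_iff _).1 e)) (Ne.symm hne) hma ?_))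
      have hc : m * m' = m' * m :=
        congrArg Subtype.val (hMc.1.1 (⟨m, hm⟩ : M) ⟨m', hm'⟩)
      calc (m : MulAut P) ((m' : MulAut P) a) = ((m * m' : W) : MulAut P) a := rfl
        _ = ((m' * m : W) : MulAut P) a := by rw [hc]
        _ = (m' : MulAut P) a := congrArg (m' : MulAut P) hma
    obtain ⟨v₀, hv₀, hva⟩ := htr a ha
    have hfixall : ∀ b : P, b ≠ 1 → ∀ m' ∈ M, (m' : MulAut P) b = b := by
      intro b hb m' hm'
      obtain ⟨v₁, hv₁, hvb⟩ := htr b hb
      set v : W := ⟨v₁, hv₁⟩ * (⟨v₀, hv₀⟩ : W)⁻¹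
      have hv : (v : MulAut P) a = b := by
        show v₁ (v₀.symm a) = b
        rw [← hva, MulEquiv.symm_apply_apply, hvb]
      have h1 := hfixM _ (hMn.conj_mem m' hm' v⁻¹)
      have h1' : (v : MulAut P).symm ((m' : MulAut P) ((v : MulAut P) a)) = a := by
        simpa using h1
      rw [MulEquiv.symm_apply_eq, hv] at h1'
      exact h1'
    refine hm1 (Subtype.ext (MulEquiv.ext fun b => ?_))
    by_cases hb : b = 1
    · simp [hb]
    · exact hfixall b hb m hm
  -- `H` is free on `M#`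
  have hHfree : ∀ m ∈ M, m ≠ 1 → Nat.card H ≤ Nat.card M - 1 := by
    intro m hm hm1
    let f : H → {x : M // x ≠ 1} := fun w =>
      ⟨⟨(w : W) * m * (w : W)⁻¹, hMn.conj_mem m hm w⟩, fun e =>
        hm1 (conj_eq_one_iff.1 (congrArg Subtype.val e))⟩
    have hf : Function.Injective f := by
      intro w w' e
      have e' : (w : W) * m * (w : W)⁻¹ = (w' : W) * m * (w' : W)⁻¹ :=
        congrArg (fun z => ((z.1 : M) : W)) e
      set x : W := (w' : W)⁻¹ * (w : W) with hx
      have hxm : x * m = m * x := by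
        calc x * m = (w' : W)⁻¹ * ((w : W) * m * (w : W)⁻¹) * w := by rw [hx]; group
          _ = (w' : W)⁻¹ * ((w' : W) * m * (w' : W)⁻¹) * w := by rw [e']
          _ = m * x := by rw [hx]; group
      have hxH : x ∈ H := mul_mem (inv_mem w'.2) w.2
      have hxt : (x : MulAut P) tP = tP := hxH
      have h2 : (x : MulAut P) ((m : MulAut P) tP) = (m : MulAut P) tP := by
        calc (x : MulAut P) ((m : MulAut P) tP) = ((x * m : W) : MulAut P) tP := rfl
          _ = ((m * x : W) : MulAut P) tP := by rw [hxm]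
          _ = (m : MulAut P) tP := congrArg (m : MulAut P) hxt
      have hx1 : x = 1 := Subtype.ext (htwo _ x.2 tP ((m : MulAut P) tP) htP
        (fun e => htP ((MulEquiv.map_eq_one_iff _).1 e))
        (fun e => hm1 (hsemi m hm tP htP e.symm)) hxt h2)
      exact Subtype.ext (eq_of_inv_mul_eq_one hx1).symm
    refine (Nat.card_le_card_of_injective f hf).trans (le_of_eq ?_)
    have h1 : ({(1 : M)}ᶜ : Set M).ncard = Nat.card M - 1 := by
      rw [Set.ncard_compl, Set.ncard_singleton]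
    rw [← h1, ← Nat.card_coe_set_eq]
    rfl
  obtain ⟨⟨m₀, hm₀⟩, hm₀1⟩ := Subgroup.ne_bot_iff_exists_ne_one.1 hM
  have hm₀1' : m₀ ≠ 1 := fun e => hm₀1 (Subtype.ext e)
  -- `M` is regular
  have hMcard : Nat.card M = 2 * q - 1 := by
    have hinf : M ⊓ H = ⊥ := by
      rw [eq_bot_iff]
      rintro m ⟨hm, hmH⟩
      exact mem_bot.2 (hsemi m hm tP htP hmH)
    have e1 : Nat.card H * Nat.card M = Nat.card ↥(H ⊔ M) := by
      have h2 := relIndex_mul_relIndex ⊥ M (H ⊔ M) bot_le le_sup_right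
      rw [relIndex_bot_left, relIndex_bot_left, relIndex_sup_right] at h2
      have h3 : M.relIndex H = Nat.card H := by
        rw [← inf_relIndex_right, hinf, relIndex_bot_left]
      rw [h3] at h2
      rw [mul_comm]
      exact h2
    have hdvd : Nat.card M ∣ 2 * q - 1 := by
      refine Nat.dvd_of_mul_dvd_mul_left (Nat.card_pos (α := H)) ?_
      rw [e1, ← hHidx, H.card_mul_index]
      exact card_subgroup_dvd_card _
    have hle : q ≤ Nat.card M := by
      have := (hH.trans (hHfree m₀ hm₀ hm₀1'))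
      omega
    obtain ⟨c, hc⟩ := hdvd
    rcases Nat.lt_or_ge c 2 with hc2 | hc2
    · interval_cases c
      · omega
      · omega
    · have h4 : Nat.card M * 2 ≤ 2 * q - 1 := hc ▸ Nat.mul_le_mul_left _ hc2
      omega
  have hMtr : ∀ x : P, x ≠ 1 → ∃ m ∈ M, (m : MulAut P) tP = x := by
    intro x hx
    let f : M → {x : P // x ≠ 1} := fun m =>
      ⟨((m : W) : MulAut P) tP, fun e => htP ((MulEquiv.map_eq_one_iff _).1 e)⟩
    have hf : Function.Injective f := by
      intro a b e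
      have e' : ((a : W) : MulAut P) tP = ((b : W) : MulAut P) tP := congrArg Subtype.val e
      refine Subtype.ext (inv_mul_eq_one.1 (hsemi _ (mul_mem (inv_mem b.2) a.2) tP htP ?_)).symm
      show ((b : W) : MulAut P).symm (((a : W) : MulAut P) tP) = tP
      rw [e', MulEquiv.symm_apply_apply]
    have hc : Nat.card {x : P // x ≠ 1} ≤ Nat.card M := by
      have h1 : ({(1 : P)}ᶜ : Set P).ncard = 2 * q - 1 := by
        rw [Set.ncard_compl, Set.ncard_singleton, card_sylow h]
      rw [hMcard, ← h1, ← Nat.card_coe_set_eq]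
      exact le_of_eq rfl
    obtain ⟨m, hm⟩ := (hf.bijective_of_nat_card_le hc).2 ⟨x, hx⟩
    exact ⟨m, m.2, congrArg Subtype.val hm⟩
  have hle := @stabiliser_bound P { (inferInstance : Group P) with mul_comm := h.comm.1.1 } _ n
    (by rw [card_sylow h, pow_succ', hqdef]) W tP htP M hMn hMc hMtr H (fun _ hw => hw)
  omega

/-- S0343 for even `q`. -/
theorem even_case [IsSimpleGroup G] (hab : ∀ P : Sylow 2 G, ∀ a b : P, a * b = b * a) (F : Type)
    [Field F] [Fintype F] (hq : 3 ≤ Fintype.card F) (heven : Even (Fintype.card F)) (t : G)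
    (ht : orderOf t = 2)
    (hC : Nonempty (centralizer ({t} : Set G) ≃*
      Multiplicative (ZMod 2) × Matrix.ProjectiveSpecialLinearGroup (Fin 2) F)) :
    Fintype.card F = 4 ∧ Cfsg.IsJ1 G := by
  haveI : Fact (Nat.Prime 2) := ⟨Nat.prime_two⟩
  obtain ⟨e⟩ := hC
  obtain ⟨p, hp⟩ := CharP.exists F
  haveI : Fact p.Prime := ⟨CharP.char_is_prime F p⟩
  obtain ⟨n, hn, hpn⟩ := Linear.exists_card_eq_pow (F := F) p
  have hp2 : p = 2 := by
    rw [hpn, Nat.even_pow] at heven
    exact ((Nat.prime_dvd_prime_iff_eq Nat.prime_two (Fact.out : p.Prime)).1 heven.1.two_dvd).symm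
  subst hp2
  obtain ⟨S, U, τ, hs⟩ := exists_shape hab ht e
  rw [hpn] at hs hq
  have hn2 : 2 ≤ n := by
    by_contra hlt
    obtain rfl : n = 1 := by omega
    norm_num at hq
  have hna : ¬ IsMulCommutative G := by
    intro hc
    have hbij : ∀ a b : Matrix.ProjectiveSpecialLinearGroup (Fin 2) F, a * b = b * a := fun a b => by
      obtain ⟨x, hx⟩ := e.surjective (1, a)
      obtain ⟨y, hy⟩ := e.surjective (1, b)
      have h : x * y = y * x := Subtype.ext (hc.1.1 (x : G) y)
      have := congrArg (fun z => (e z).2) h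
      simpa [map_mul, hx, hy] using this
    have hcen : center (Matrix.ProjectiveSpecialLinearGroup (Fin 2) F) = ⊤ :=
      eq_top_iff.2 fun a _ => mem_center_iff.2 fun b => hbij b a
    rw [PushUpP.center_psl] at hcen
    obtain ⟨U₀, -, -, -, hU₀, -⟩ := Known.psl2_torus (F := F)
    have := card_le_of_le (show (U₀ : Subgroup _) ≤ ⊥ from hcen ▸ le_top)
    rw [hU₀, Subgroup.card_bot, hpn] at this
    omega
  have hb := pow_bound hna hs hn2
  have hn' : n = 2 := by
    by_contra hne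
    have key : ∀ k : ℕ, k + 5 < 2 ^ (k + 3) := fun k => by
      induction k with
      | zero => norm_num
      | succ k ih =>
        rw [show k + 1 + 3 = k + 3 + 1 by omega, pow_succ]
        omega
    have := key (n - 3)
    rw [show n - 3 + 3 = n by omega] at this
    omega
  subst hn'
  refine ⟨by rw [hpn]; norm_num, ?_⟩
  obtain ⟨ψ⟩ := S0252.result (F := F) (by rw [hpn]; norm_num)
  exact S0448.result t ⟨ht, S, hs.mem, fun x hx => comm_Om hs.comm hx hs.mem⟩
    (e.trans (MulEquiv.prodCongr (MulEquiv.refl _) ψ))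

/-- S0343 for `q = 5`. -/
theorem five_case [IsSimpleGroup G] (hab : ∀ P : Sylow 2 G, ∀ a b : P, a * b = b * a) (F : Type)
    [Field F] [Fintype F] (h5 : Fintype.card F = 5) (t : G) (ht : orderOf t = 2)
    (hC : Nonempty (centralizer ({t} : Set G) ≃*
      Multiplicative (ZMod 2) × Matrix.ProjectiveSpecialLinearGroup (Fin 2) F)) :
    Cfsg.IsJ1 G := by
  haveI : Fact (Nat.Prime 2) := ⟨Nat.prime_two⟩
  obtain ⟨e⟩ := hC
  obtain ⟨ψ⟩ := Linear.SmallIso.nonempty_psl_two_five h5
  obtain ⟨P, hP⟩ := (IsPGroup.of_card (p := 2) (n := 1)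
    (by rw [Nat.card_zpowers, ht, pow_one] : Nat.card ↥(zpowers t) = 2 ^ 1)).exists_le_sylow
  have htP : t ∈ (P : Subgroup G) := hP (mem_zpowers t)
  exact S0448.result t ⟨ht, P, htP, fun x hx => congrArg Subtype.val (hab P ⟨x, hx⟩ ⟨t, htP⟩)⟩
    (e.trans (MulEquiv.prodCongr (MulEquiv.refl _) ψ))

end Cfsg.Agent.Lib.JankoThompson.EvenQ
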