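import Cfsg.Agent.Lib.JankoThompson.FusedFun
import Cfsg.Agent.Lib.JankoThompson.TorusBound
import Cfsg.Agent.Lib.JankoThompson.Principal
import Cfsg.Agent.Lib.JankoThompson.Psl

/-!
# Janko–Thompson: no element cycling a four-group `⟨t, s⟩` centralises an element of `C⟨t, s⟩` of odd order

`no_fused_pair`: the consequence of `fused_case` free of the choice of the torus.

Owner: helper66.
-/

set_option autoImplicit false
set_option linter.style.haveILetI false
set_option linter.unusedSectionVars false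

universe u v

namespace Cfsg.Agent.Lib.JankoThompson

open Subgroup

variable {G : Type u} [Group G] [Finite G] {F : Type v} [Field F] [Fintype F] {t : G}

/-- An element of odd order of `C⟨t, s⟩` lies in the torus. -/
theorem Torus.mem_Y_of_odd {c : Cfg G F t} (d : Torus c) {a : G} (hat : Commute a t)
    (has : Commute a d.s) (ho : Odd (orderOf a)) : a ∈ d.Y := by
  obtain ⟨b, hb, hab⟩ := d.cent_ts a hat has
  obtain ⟨v, hv, y, hy, rfl⟩ := d.exists_mul hb
  have hvV : v ∈ d.V := d.mem_V.2 hv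
  obtain ⟨n, hn⟩ := ho
  have h1 := pow_orderOf_eq_one a
  rcases hab with rfl | rfl
  · rw [(d.V_comm_Y hvV hy).mul_pow, hn, pow_succ v, pow_mul v, pow_two, d.V_sq hvV, one_pow,
      one_mul] at h1
    have hv' : v = (y ^ (2 * n + 1))⁻¹ := eq_inv_of_mul_eq_one_left h1
    exact mul_mem (hv' ▸ inv_mem (pow_mem hy _)) hy
  · have hwv : Commute d.w v := by
      have h1 : Commute d.w t := (c.comm d.w_mem).symm
      rcases hv with h | h | h | h <;> rw [h]
      exacts [Commute.one_right _, h1, d.sw.symm, h1.mul_right d.sw.symm]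
    have hyv : Commute y v := (d.V_comm_Y hvV hy).symm
    have hww : d.w * d.w = 1 := by rw [← pow_two, ← d.w_ord, pow_orderOf_eq_one]
    have h2 : v * y * d.w * (v * y * d.w) = 1 := by
      calc v * y * d.w * (v * y * d.w) = v * y * (d.w * v) * y * d.w := by group
        _ = v * y * (v * d.w) * y * d.w := by rw [hwv.eq]
        _ = v * (y * v) * (d.w * y * d.w⁻¹) * (d.w * d.w) := by group
        _ = v * (v * y) * y⁻¹ := by rw [hyv.eq, d.w_inv y hy, hww, mul_one]
        _ = 1 := by rw [← mul_assoc, d.V_sq hvV, one_mul, mul_inv_cancel]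
    rw [hn, pow_succ (v * y * d.w), pow_mul (v * y * d.w), pow_two, h2, one_pow, one_mul] at h1
    rw [h1]
    exact one_mem _

/-- `r` has no fixed points on the torus, for `q ≥ 11`. -/
theorem torus_free [IsSimpleGroup G] (c : Cfg G F t) (d : Torus c)
    (hab : ∀ P : Sylow 2 G, ∀ a b : P, a * b = b * a)
    (h8 : Fintype.card F % 8 = 3 ∨ Fintype.card F % 8 = 5) (h11 : 11 ≤ Fintype.card F) :
    d.Y₁ = ⊥ := by
  classical
  letI := Fintype.ofFinite G
  letI := Fintype.ofFinite (Cfsg.IrrCharacter G)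
  obtain ⟨X, hX⟩ := exists_princ (cf := c) h8 (by omega) (cfg_cent c hab h8 (by omega))
    (cfg_fixedOdd c hab h8 (by omega))
  exact fused_case c d X hX (cent_le d hab h8 h11) (three_not_dvd d hab h8 h11)
    (by rw [hX.Q_eq, sgnQ_abs]; exact_mod_cast h11)

/-- An element `g` with `t ↦ s ↦ t s` centralises no non-trivial element of odd order of `C⟨t, s⟩`. -/
theorem no_fused_pair [IsSimpleGroup G] (c : Cfg G F t)
    (hab : ∀ P : Sylow 2 G, ∀ a b : P, a * b = b * a)
    (h8 : Fintype.card F % 8 = 3 ∨ Fintype.card F % 8 = 5) (h11 : 11 ≤ Fintype.card F)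
    {s a g : G} (hs : s ∈ c.K) (hs2 : orderOf s = 2) (hat : Commute a t) (has : Commute a s)
    (ho : Odd (orderOf a)) (hgt : g * t * g⁻¹ = s) (hgs : g * s * g⁻¹ = t * s)
    (hga : Commute g a) : a = 1 := by
  obtain ⟨d⟩ := exists_torus (c := c) hab h8
  obtain ⟨k, hk⟩ := isConj_iff.1 ((cfg_oddBasic c h8 (by omega)).conj ⟨s, hs⟩ ⟨d.s, d.s_mem⟩
    (by rw [Subgroup.orderOf_mk]; exact hs2) (by rw [Subgroup.orderOf_mk]; exact d.s_ord))
  have hks : (k : G) * s * (k : G)⁻¹ = d.s := congrArg Subtype.val hk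
  have hkt : (k : G) * t * (k : G)⁻¹ = t := by rw [← (c.comm k.2).eq, mul_inv_cancel_right]
  obtain ⟨φ, hφ⟩ : ∃ φ : G →* G, φ = (MulAut.conj (k : G)).toMonoidHom := ⟨_, rfl⟩
  have hφa : ∀ y, φ y = (k : G) * y * (k : G)⁻¹ := fun y => by rw [hφ]; rfl
  have hts : φ t = t := by rw [hφa, hkt]
  have hss : φ s = d.s := by rw [hφa, hks]
  have hAt : Commute (φ a) t := hts ▸ hat.map φ
  have hAs : Commute (φ a) d.s := hss ▸ has.map φ
  have hgA : Commute (φ g) (φ a) := hga.map φ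
  have hgt' : φ g * t * (φ g)⁻¹ = d.s := by
    have := congrArg φ hgt; rwa [map_mul, map_mul, map_inv, hts, hss] at this
  have hgs' : φ g * d.s * (φ g)⁻¹ = t * d.s := by
    have := congrArg φ hgs; rwa [map_mul, map_mul, map_inv, map_mul, hts, hss] at this
  have hAo : Odd (orderOf (φ a)) := ho.of_dvd_nat (orderOf_map_dvd φ a)
  have hY : φ a ∈ d.Y := d.mem_Y_of_odd hAt hAs hAo
  suffices hA : φ a = 1 by
    rw [hφa] at hA
    exact conj_eq_one_iff.1 hA
  have hr3 : d.r * d.r * d.r = 1 := d.r_cube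
  set m := d.r⁻¹ * φ g
  have hmt : Commute m t := mul_inv_eq_iff_eq_mul.1 (by
    rw [show m * t * m⁻¹ = d.r⁻¹ * (φ g * t * (φ g)⁻¹) * d.r by simp only [m]; group, hgt']
    calc d.r⁻¹ * d.s * d.r = d.r⁻¹ * (d.r * t * d.r⁻¹) * d.r := by rw [d.r_t]
      _ = t := by group)
  have hms : Commute m d.s := mul_inv_eq_iff_eq_mul.1 (by
    rw [show m * d.s * m⁻¹ = d.r⁻¹ * (φ g * d.s * (φ g)⁻¹) * d.r by simp only [m]; group, hgs']
    calc d.r⁻¹ * (t * d.s) * d.r = d.r⁻¹ * (d.r * d.s * d.r⁻¹) * d.r := by rw [d.r_s]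
      _ = d.s := by group)
  obtain ⟨b, hb, hmb⟩ := d.cent_ts m hmt hms
  have hbA : Commute b (φ a) := by
    obtain ⟨v, hv, y, hy, rfl⟩ := d.exists_mul hb
    exact Commute.mul_left (d.V_comm_Y (d.mem_V.2 hv) hY) (d.Y_comm hy hY)
  have hmA : m * φ a * m⁻¹ = d.r⁻¹ * φ a * d.r := by
    rw [show m * φ a * m⁻¹ = d.r⁻¹ * (φ g * φ a * (φ g)⁻¹) * d.r by simp only [m]; group, hgA.eq,
      mul_inv_cancel_right]
  have hr : φ a = 1 ∨ Commute d.r (φ a) := by
    rcases hmb with e | e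
    · refine Or.inr ?_
      rw [e, hbA.eq, mul_inv_cancel_right] at hmA
      show d.r * φ a = φ a * d.r
      calc d.r * φ a = d.r * (d.r⁻¹ * φ a * d.r) := by rw [← hmA]
        _ = φ a * d.r := by group
    · refine Or.inl ?_
      have hinv : m * φ a * m⁻¹ = (φ a)⁻¹ := by
        rw [e, show b * d.w * φ a * (b * d.w)⁻¹ = b * (d.w * φ a * d.w⁻¹) * b⁻¹ by group,
          d.w_inv _ hY, hbA.inv_right.eq, mul_inv_cancel_right]
      rw [hmA] at hinv
      have h2 : d.r⁻¹ * (φ a)⁻¹ * d.r = φ a := by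
        rw [show d.r⁻¹ * (φ a)⁻¹ * d.r = (d.r⁻¹ * φ a * d.r)⁻¹ by group, hinv, inv_inv]
      have h3 : φ a = (φ a)⁻¹ := by
        calc φ a = (d.r * d.r * d.r)⁻¹ * φ a * (d.r * d.r * d.r) := by rw [hr3]; group
          _ = d.r⁻¹ * (d.r⁻¹ * (d.r⁻¹ * φ a * d.r) * d.r) * d.r := by group
          _ = _ := by rw [hinv, h2, hinv]
      have h4 : φ a * φ a = 1 := by
        calc φ a * φ a = φ a * (φ a)⁻¹ := by rw [← h3]
          _ = 1 := mul_inv_cancel _
      exact orderOf_eq_one_iff.1 (Nat.eq_one_of_dvd_coprimes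
        (Nat.coprime_two_left.2 hAo) (orderOf_dvd_of_pow_eq_one (by rw [pow_two, h4])) dvd_rfl)
  rcases hr with hr | hr
  · exact hr
  have h1 : φ a ∈ d.Y₁ := mem_inf.2 ⟨hY, mem_centralizer_singleton_iff.2 hr.symm.eq⟩
  rwa [torus_free c d hab h8 h11, mem_bot] at h1

end Cfsg.Agent.Lib.JankoThompson
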