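import Cfsg.Agent.Lib.JankoThompson.Table
import Cfsg.Agent.Lib.JankoThompson.Shapes
import Cfsg.Agent.Lib.JankoThompson.Centralizer
import Cfsg.Agent.Lib.JankoThompson.GSide.TorusFun
import Cfsg.Agent.Lib.DicksonFull.Maximal

/-!
# Janko–Thompson: the torus as data for the induced functions, and their coefficient rows

`Torus.data` turns a `Torus` whose centralisers normalise the four group into `GSide.TorusData`;
`coefOf` gives the conditions `Coef` for the integral coefficients of a generalised character.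

Owner: helper66.
-/

set_option autoImplicit false
set_option linter.style.haveILetI false
set_option linter.unusedSectionVars false

universe u v

namespace Cfsg.Agent.Lib.JankoThompson

open Subgroup Cfsg.Agent.Lib.Walter.NoField
open scoped ComplexConjugate

variable {G : Type u} [Group G] {F : Type v} [Field F] [Fintype F] {t : G} {c : Cfg G F t}

theorem Torus.exists_mul [Finite G] (d : Torus c) {a : G} (ha : a ∈ d.V ⊔ d.Y) :
    ∃ v : G, (v = 1 ∨ v = t ∨ v = d.s ∨ v = t * d.s) ∧ ∃ x ∈ d.Y, a = v * x := by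
  suffices h : ∃ v ∈ d.V, ∃ x ∈ d.Y, a = v * x by
    obtain ⟨v, hv, x, hx, e⟩ := h
    exact ⟨v, d.mem_V.1 hv, x, hx, e⟩
  rw [Subgroup.sup_eq_closure] at ha
  induction ha using Subgroup.closure_induction with
  | mem x hx =>
    rcases hx with hx | hx
    · exact ⟨x, hx, 1, one_mem _, (mul_one x).symm⟩
    · exact ⟨1, one_mem _, x, hx, (one_mul x).symm⟩
  | one => exact ⟨1, one_mem _, 1, one_mem _, (mul_one 1).symm⟩
  | mul p q _ _ hp hq =>
    obtain ⟨v, hv, x, hx, rfl⟩ := hp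
    obtain ⟨v', hv', x', hx', rfl⟩ := hq
    refine ⟨v * v', mul_mem hv hv', x * x', mul_mem hx hx', ?_⟩
    calc v * x * (v' * x') = v * (x * v') * x' := by group
      _ = v * (v' * x) * x' := by rw [(d.V_comm_Y hv' hx).eq]
      _ = v * v' * (x * x') := by group
  | inv p _ hp =>
    obtain ⟨v, hv, x, hx, rfl⟩ := hp
    exact ⟨v⁻¹, inv_mem hv, x⁻¹, inv_mem hx, by
      rw [(d.V_comm_Y hv hx).eq, mul_inv_rev]⟩

/-- The data for the induced functions. -/
noncomputable def Torus.data [Finite G] (d : Torus c) (hcent : d.CentLe) : GSide.TorusData t c.K where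
  ord := c.ord
  split := c.prod
  s := d.s
  w := d.w
  r := d.r
  U := d.Y
  T := d.Y
  T₀ := d.Y
  s_mem := d.s_mem
  s_ord := d.s_ord
  w_mem := d.w_mem
  w_ord := d.w_ord
  w_ne := d.w_ne
  sw := d.sw
  U_le := d.Y_le
  U_odd := d.Y_odd
  U_s := d.Y_s
  T_le := le_rfl
  T₀_le := le_rfl
  T_conj := fun x hx a ha => mul_mem (mul_mem hx ha) (inv_mem hx)
  T₀_cent := fun _ hx _ ha => d.Y_comm ha hx
  w_inv := d.w_inv
  w_mod := fun x hx => by rw [d.w_inv x hx]; exact mul_mem (inv_mem hx) (inv_mem hx)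
  cent_ts := fun g h1 h2 => by
    obtain ⟨a, ha, e⟩ := d.cent_ts g h1 h2
    obtain ⟨v, hv, x, hx, rfl⟩ := d.exists_mul ha
    exact ⟨v, hv, x, hx, e⟩
  r_cube := by rw [← d.r_ord, pow_orderOf_eq_one]
  r_t := d.r_t
  r_s := d.r_s
  r_U := d.r_Y
  r_T₀ := d.r_Y
  cent_T₀ := fun a ha ha1 g hg v hv =>
    d.mem_V.1 (hcent a ha ha1 g hg v (d.mem_V.2 hv))
  one_class := d.one_class

theorem Torus.odd_q (d : Torus c) : Odd (Fintype.card F) := by
  rw [Nat.odd_iff]
  by_contra h
  have h4 := d.Y_card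
  unfold sgnQ at h4
  split_ifs at h4 <;> omega

/-- The order of `K`. -/
theorem Torus.card_K [Finite G] (d : Torus c) :
    2 * (Nat.card ↥c.K : ℤ) =
      ((1 : ℕ) : ℤ) * |sgnQ (Fintype.card F) * (sgnQ (Fintype.card F) ^ 2 - 1)| := by
  rw [Nat.card_congr c.iso.toEquiv]
  have h := DicksonFull.card_psl_odd (F := F) d.odd_q
  have hz : 2 * (Nat.card (Matrix.ProjectiveSpecialLinearGroup (Fin 2) F) : ℤ) +
      Fintype.card F = (Fintype.card F : ℤ) ^ 3 := by exact_mod_cast h
  have habs := sgnQ_abs (Fintype.card F)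
  have hsq : sgnQ (Fintype.card F) ^ 2 = (Fintype.card F : ℤ) ^ 2 := by rw [← sq_abs, habs]
  have hq1 : (1 : ℤ) ≤ Fintype.card F := by exact_mod_cast Fintype.card_pos
  rw [Nat.cast_one, one_mul, hsq, abs_mul, habs,
    abs_of_nonneg (show (0 : ℤ) ≤ (Fintype.card F : ℤ) ^ 2 - 1 by nlinarith)]
  linear_combination hz

/-- `4 |Y| = |Q + 1|`. -/
theorem Torus.card_Y (d : Torus c) :
    4 * (Nat.card ↥d.Y : ℤ) = |sgnQ (Fintype.card F) + 1| := by
  rw [← Int.natCast_natAbs, ← d.Y_card]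
  push_cast
  rfl

variable [Fintype G]

/-- The integral coefficients of a generalised character. -/
noncomputable def coefFun (f : G → ℂ) (χ : Cfsg.IrrCharacter G) : ℤ :=
  haveI := Classical.propDecidable (∃ z : ℤ, Cfsg.classInner f χ = z)
  if h : ∃ z : ℤ, Cfsg.classInner f χ = z then h.choose else 0

theorem coefFun_spec {f : G → ℂ} (hf : Cfsg.IsGeneralizedCharacter G f) (χ : Cfsg.IrrCharacter G) :
    (coefFun f χ : ℂ) = Cfsg.classInner f χ := by
  have h : ∃ z : ℤ, Cfsg.classInner f χ = z :=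
    Induced.Generalized.exists_classInner_int hf (Induced.Generalized.of_irr χ)
  rw [coefFun, dif_pos h]
  exact h.choose_spec.symm

variable [Fintype (Cfsg.IrrCharacter G)]

theorem sum_coefFun_mul {f f' : G → ℂ} (hf : Cfsg.IsGeneralizedCharacter G f)
    (hf' : Cfsg.IsGeneralizedCharacter G f') :
    ((∑ χ, coefFun f χ * coefFun f' χ : ℤ) : ℂ) = Cfsg.classInner f f' := by
  rw [Induced.Generalized.classInner_eq_sum hf, Int.cast_sum]
  refine Finset.sum_congr rfl fun χ _ => ?_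
  rw [← coefFun_spec hf, ← coefFun_spec hf', map_intCast, Int.cast_mul]

theorem sum_coefFun_apply {f : G → ℂ} (hf : Cfsg.IsGeneralizedCharacter G f) (g : G) :
    ∑ χ : Cfsg.IrrCharacter G, (coefFun f χ : ℂ) * (χ : G → ℂ) g = f g := by
  conv_rhs => rw [Induced.Generalized.eq_sum_irr hf]
  simp only [Finset.sum_apply, Pi.smul_apply, smul_eq_mul, coefFun_spec hf]

theorem sum_coefFun_secCoeff {K : Subgroup G} [Fintype ↥K] {f : G → ℂ}
    (hf : Cfsg.IsGeneralizedCharacter G f) (φ : ↥K → ℂ) :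
    ∑ χ : Cfsg.IrrCharacter G, (coefFun f χ : ℂ) * secCoeff t K (χ : G → ℂ) φ = secCoeff t K f φ := by
  simp only [secCoeff, Cfsg.classInner, Finset.mul_sum]
  rw [Finset.sum_comm]
  refine Finset.sum_congr rfl fun k _ => ?_
  rw [← sum_coefFun_apply hf, Finset.sum_mul, Finset.mul_sum]
  exact Finset.sum_congr rfl fun χ _ => by ring

variable {cf : Cfg G F t} {X : Tab (Cfsg.IrrCharacter G)}

/-- The conditions on the coefficients of a generalised character vanishing at `1` and `t`. -/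
theorem coefOf [Fintype ↥cf.K] (hX : Princ cf X) {f : G → ℂ} (hf : Cfsg.IsGeneralizedCharacter G f)
    (h1 : f 1 = 0) (ht : f t = 0) {N co sb : ℤ} {rhs : ℚ}
    (hN : Cfsg.classInner f f = N) (hco : Cfsg.classInner f (fun _ => 1) = co)
    (hsec : ∀ g : Fin 3 → ↥cf.K → ℂ, GSide.IsProj cf.K (sgnQ (Fintype.card F)) 1 g →
      TorusValues cf.K g → ∀ i, secCoeff t cf.K f (g i) = if i = 0 then 0 else (sb : ℂ))
    (heq : ∑ χ : Cfsg.IrrCharacter G, Cfsg.classInner f χ * (χ : G → ℂ) t ^ 2 / (χ : G → ℂ) 1 =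
      (rhs : ℂ)) : Coef X N co sb rhs (coefFun f) := by
  obtain ⟨g, hg, hgv, ha, hb, hc⟩ := hX.proj
  have hs : ∀ (i : Fin 3) (z : Cfsg.IrrCharacter G → ℤ),
      (∀ χ, (z χ : ℂ) = secCoeff t cf.K (χ : G → ℂ) (g i)) →
      ((∑ χ, coefFun f χ * z χ : ℤ) : ℂ) = if i = 0 then 0 else (sb : ℂ) := fun i z hz => by
    push_cast
    simp only [hz]
    rw [sum_coefFun_secCoeff hf, hsec g hg hgv i]
  refine ⟨?_, ?_, ?_, ?_, ?_, ?_, ?_, ?_⟩
  · apply Int.cast_injective (α := ℂ)
    rw [coefFun_spec hf, hX.o_eq, ← hco]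
    congr 1
  · apply Int.cast_injective (α := ℂ)
    rw [sum_coefFun_mul hf hf, hN]
  · apply Int.cast_injective (α := ℂ)
    rw [hs 0 _ ha, if_pos rfl, Int.cast_zero]
  · apply Int.cast_injective (α := ℂ)
    rw [hs 1 _ hb, if_neg (by decide)]
  · apply Int.cast_injective (α := ℂ)
    rw [hs 2 _ hc, if_neg (by decide)]
  · apply Int.cast_injective (α := ℂ)
    push_cast
    simp only [hX.hd]
    rw [sum_coefFun_apply hf, h1]
  · apply Int.cast_injective (α := ℂ)
    push_cast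
    simp only [hX.hT']
    rw [sum_coefFun_apply hf, ht]
  · apply Rat.cast_injective (α := ℂ)
    rw [← heq, Rat.cast_sum]
    refine Finset.sum_congr rfl fun χ _ => ?_
    push_cast
    rw [coefFun_spec hf, hX.hd, hX.hT']

end Cfsg.Agent.Lib.JankoThompson
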